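import Mathlib
import Cfsg.Prelude.Def_Solvable

/-!
Fitting subgroup, p-cores (what is needed for it), subnormal nilpotent subgroups,
self-centralising property of the Fitting subgroup.
-/

namespace CfsgLib.Fitting

open Subgroup

variable {G G' : Type*} [Group G] [Group G']

/-- A normal subgroup is inside `O_p(G)` when it is a `p`-group. -/
theorem le_pCore {p : ℕ} {N : Subgroup G} (hN : N.Normal) (h : IsPGroup p N) :
    N ≤ Cfsg.pCore p G :=
  le_sSup ⟨hN, h⟩

theorem pCore_normal (p : ℕ) : (Cfsg.pCore p G).Normal :=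
  sSup_normal _ fun _ h => h.1

theorem pCore_isPGroup [Finite G] (p : ℕ) : IsPGroup p (Cfsg.pCore p G) := by
  obtain ⟨M, hM⟩ := ({N : Subgroup G | N.Normal ∧ IsPGroup p N}).toFinite.exists_maximal
    ⟨⊥, normal_bot, IsPGroup.of_bot⟩
  have hmax : Cfsg.pCore p G = M := by
    refine le_antisymm (sSup_le fun N hN => ?_) (le_sSup hM.prop)
    have := hM.prop.1
    have := hN.1
    have h1 : (M ⊔ N).Normal ∧ IsPGroup p (M ⊔ N : Subgroup G) :=
      ⟨inferInstance, hM.prop.2.to_sup_of_normal_right hN.2⟩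
    exact le_sup_right.trans (hM.le_of_ge h1 le_sup_left)
  rw [hmax]
  exact hM.prop.2

theorem pCore_le_sylow [Finite G] {p : ℕ} [Fact p.Prime] (P : Sylow p G) :
    Cfsg.pCore p G ≤ P := by
  have := pCore_normal (G := G) p
  have h := (pCore_isPGroup (G := G) p).to_sup_of_normal_left (K := (P : Subgroup G))
  have h2 := P.is_maximal' (h P.isPGroup') le_sup_right
  exact le_sup_left.trans h2.le

theorem map_pCore_le (p : ℕ) (f : G →* G') (hf : Function.Surjective f) :
    (Cfsg.pCore p G).map f ≤ Cfsg.pCore p G' := by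
  rw [map_le_iff_le_comap]
  exact sSup_le fun N hN => map_le_iff_le_comap.1 (le_pCore (hN.1.map f hf) (hN.2.map f))

theorem pCore_map_mulEquiv (p : ℕ) (e : G ≃* G') :
    (Cfsg.pCore p G).map e.toMonoidHom = Cfsg.pCore p G' := by
  refine le_antisymm (map_pCore_le p _ e.surjective) ?_
  have h := map_pCore_le p e.symm.toMonoidHom e.symm.surjective
  rw [map_le_iff_le_comap] at h
  intro x hx
  exact ⟨e.symm x, h hx, e.apply_symm_apply x⟩

theorem fitting_normal : (Cfsg.fittingSubgroup G).Normal :=
  sSup_normal _ fun _ h => h.1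

theorem le_fitting {N : Subgroup G} (hN : N.Normal) (h : Group.IsNilpotent N) :
    N ≤ Cfsg.fittingSubgroup G :=
  le_sSup ⟨hN, h⟩

theorem isNilpotent_of_le {H K : Subgroup G} (h : Group.IsNilpotent K) (hle : H ≤ K) :
    Group.IsNilpotent H :=
  Group.nilpotent_of_mulEquiv (G := H.subgroupOf K) (subgroupOfEquivOfLe hle)

theorem isNilpotent_map {H : Subgroup G} (h : Group.IsNilpotent H) (f : G →* G') :
    Group.IsNilpotent (H.map f) :=
  Group.nilpotent_of_surjective (f.subgroupMap H) (f.subgroupMap_surjective H)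

theorem map_fitting_le (f : G →* G') (hf : Function.Surjective f) :
    (Cfsg.fittingSubgroup G).map f ≤ Cfsg.fittingSubgroup G' := by
  rw [map_le_iff_le_comap]
  refine sSup_le fun N hN => map_le_iff_le_comap.1 ?_
  exact le_fitting (hN.1.map f hf) (isNilpotent_map hN.2 f)

theorem fitting_map_mulEquiv (e : G ≃* G') :
    (Cfsg.fittingSubgroup G).map e.toMonoidHom = Cfsg.fittingSubgroup G' := by
  refine le_antisymm (map_fitting_le _ e.surjective) ?_
  have h := map_fitting_le (G := G') (G' := G) e.symm.toMonoidHom e.symm.surjective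
  rw [map_le_iff_le_comap] at h
  intro x hx
  exact ⟨e.symm x, h hx, e.apply_symm_apply x⟩

theorem fitting_characteristic : (Cfsg.fittingSubgroup G).Characteristic :=
  characteristic_iff_map_eq.mpr fun e => fitting_map_mulEquiv e

theorem pCore_characteristic (p : ℕ) : (Cfsg.pCore p G).Characteristic :=
  characteristic_iff_map_eq.mpr fun e => pCore_map_mulEquiv p e

/-- The Sylow subgroups of a normal nilpotent subgroup lie in the cores of `G`. -/
theorem sylow_of_nilpotent_normal_le_pCore [Finite G] {N : Subgroup G} [hN : N.Normal]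
    (h : Group.IsNilpotent N) {p : ℕ} [Fact p.Prime] (P : Sylow p N) :
    (P : Subgroup N).map N.subtype ≤ Cfsg.pCore p G := by
  have hP : (P : Subgroup N).Normal := inferInstance
  have := P.characteristic_of_normal hP
  exact le_pCore inferInstance (P.isPGroup'.map _)

/-- A subgroup containing a Sylow subgroup for every prime is everything. -/
theorem eq_top_of_forall_sylow_le [Finite G] {H : Subgroup G}
    (h : ∀ p : ℕ, p.Prime → p ∣ Nat.card G → ∃ P : Sylow p G, (P : Subgroup G) ≤ H) : H = ⊤ := by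
  apply Subgroup.eq_top_of_card_eq
  refine Nat.dvd_antisymm (card_subgroup_dvd_card _) ?_
  rw [Nat.dvd_iff_prime_pow_dvd_dvd]
  intro p k hp hk
  rcases Nat.eq_zero_or_pos k with rfl | hk0
  · simp
  have : Fact p.Prime := ⟨hp⟩
  obtain ⟨P, hP⟩ := h p hp ((dvd_pow_self p hk0.ne').trans hk)
  exact (P.pow_dvd_card_of_pow_dvd_card hk).trans (card_dvd_of_le hP)

theorem nilpotent_normal_le_iSup_pCore [Finite G] {N : Subgroup G} (hN : N.Normal)
    (h : Group.IsNilpotent N) :
    N ≤ ⨆ p : (Nat.card G).primeFactors, Cfsg.pCore (p : ℕ) G := by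
  refine subgroupOf_eq_top.1 (eq_top_of_forall_sylow_le fun p hp hpN => ?_)
  have : Fact p.Prime := ⟨hp⟩
  obtain ⟨P⟩ := (inferInstance : Nonempty (Sylow p N))
  refine ⟨P, ?_⟩
  have hmem : p ∈ (Nat.card G).primeFactors :=
    Nat.mem_primeFactors.2 ⟨hp, hpN.trans (card_subgroup_dvd_card N), Nat.card_pos.ne'⟩
  have h1 : (P : Subgroup N).map N.subtype ≤
      ⨆ q : (Nat.card G).primeFactors, Cfsg.pCore (q : ℕ) G :=
    (sylow_of_nilpotent_normal_le_pCore h P).trans
      (le_iSup (fun q : (Nat.card G).primeFactors => Cfsg.pCore (q : ℕ) G) ⟨p, hmem⟩)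
  exact map_le_iff_le_comap.1 h1

theorem commute_pCore_of_ne [Finite G] {p q : ℕ} (hp : p.Prime) (hq : q.Prime) (hne : p ≠ q)
    {x y : G} (hx : x ∈ Cfsg.pCore p G) (hy : y ∈ Cfsg.pCore q G) : Commute x y := by
  have : Fact p.Prime := ⟨hp⟩
  have : Fact q.Prime := ⟨hq⟩
  exact commute_of_normal_of_disjoint _ _ (pCore_normal p) (pCore_normal q)
    (IsPGroup.disjoint_of_ne p q hne _ _ (pCore_isPGroup p) (pCore_isPGroup q)) x y hx hy

theorem isNilpotent_iSup_pCore [Finite G] :
    Group.IsNilpotent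
      (⨆ p : (Nat.card G).primeFactors, Cfsg.pCore (p : ℕ) G : Subgroup G) := by
  classical
  have hcomm : Pairwise fun i j : (Nat.card G).primeFactors => ∀ x y : G,
      x ∈ Cfsg.pCore (i : ℕ) G → y ∈ Cfsg.pCore (j : ℕ) G → Commute x y := by
    intro i j hij x y hx hy
    exact commute_pCore_of_ne (Nat.prime_of_mem_primeFactors i.2)
      (Nat.prime_of_mem_primeFactors j.2) (fun e => hij (Subtype.ext e)) hx hy
  have hnil : ∀ i : (Nat.card G).primeFactors, Group.IsNilpotent (Cfsg.pCore (i : ℕ) G) := by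
    intro i
    have : Fact (i : ℕ).Prime := ⟨Nat.prime_of_mem_primeFactors i.2⟩
    exact (pCore_isPGroup (i : ℕ)).isNilpotent
  rw [← Subgroup.noncommPiCoprod_range (hcomm := hcomm)]
  exact Group.nilpotent_of_surjective _ (Subgroup.noncommPiCoprod hcomm).rangeRestrict_surjective

theorem fitting_eq_iSup_pCore [Finite G] :
    Cfsg.fittingSubgroup G = ⨆ p : (Nat.card G).primeFactors, Cfsg.pCore (p : ℕ) G := by
  refine le_antisymm (sSup_le fun N hN => nilpotent_normal_le_iSup_pCore hN.1 hN.2) ?_
  refine iSup_le fun p => le_fitting (pCore_normal _) ?_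
  have : Fact (p : ℕ).Prime := ⟨Nat.prime_of_mem_primeFactors p.2⟩
  exact (pCore_isPGroup (p : ℕ)).isNilpotent

theorem fitting_isNilpotent [Finite G] : Group.IsNilpotent (Cfsg.fittingSubgroup G) := by
  rw [fitting_eq_iSup_pCore]
  exact isNilpotent_iSup_pCore

theorem pCore_le_fitting [Finite G] {p : ℕ} (hp : p.Prime) :
    Cfsg.pCore p G ≤ Cfsg.fittingSubgroup G := by
  have : Fact p.Prime := ⟨hp⟩
  exact le_fitting (pCore_normal p) (pCore_isPGroup p).isNilpotent

/-- The Sylow `p`-subgroup of the Fitting subgroup is `O_p(G)`. -/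
theorem sylow_fitting_eq_pCore [Finite G] {p : ℕ} [hp : Fact p.Prime]
    (P : Sylow p (Cfsg.fittingSubgroup G)) :
    (P : Subgroup (Cfsg.fittingSubgroup G)).map (Cfsg.fittingSubgroup G).subtype =
      Cfsg.pCore p G := by
  have := fitting_normal (G := G)
  refine le_antisymm (sylow_of_nilpotent_normal_le_pCore fitting_isNilpotent P) ?_
  intro x hx
  have hx' := pCore_le_fitting hp.out hx
  refine ⟨⟨x, hx'⟩, ?_, rfl⟩
  have hnorm : ((Cfsg.pCore p G).subgroupOf (Cfsg.fittingSubgroup G)).Normal :=
    (pCore_normal p).subgroupOf _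
  have hpg : IsPGroup p ((Cfsg.pCore p G).subgroupOf (Cfsg.fittingSubgroup G)) :=
    (pCore_isPGroup p).comap_subtype
  exact ((le_pCore hnorm hpg).trans (pCore_le_sylow P)) hx

/-- Fitting's theorem for finite groups. -/
theorem isNilpotent_sup [Finite G] {M N : Subgroup G} (hM : M.Normal) (hN : N.Normal)
    (hMn : Group.IsNilpotent M) (hNn : Group.IsNilpotent N) :
    Group.IsNilpotent (M ⊔ N : Subgroup G) :=
  isNilpotent_of_le fitting_isNilpotent (sup_le (le_fitting hM hMn) (le_fitting hN hNn))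

theorem isNilpotent_iff_fitting_eq_top [Finite G] :
    Group.IsNilpotent G ↔ Cfsg.fittingSubgroup G = ⊤ := by
  constructor
  · intro h
    exact top_le_iff.1 (le_fitting inferInstance (Group.isNilpotent_top.2 h))
  · intro h
    have := fitting_isNilpotent (G := G)
    rw [h] at this
    exact Group.isNilpotent_top.1 this

/-- The Fitting subgroup of a subnormal subgroup is contained in that of the group. -/
theorem map_fitting_of_subnormal_le [Finite G] {H : Subgroup G} (hH : H.IsSubnormal) :
    (Cfsg.fittingSubgroup H).map H.subtype ≤ Cfsg.fittingSubgroup G := by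
  induction hH with
  | top => exact map_fitting_le _ fun x => ⟨⟨x, mem_top x⟩, rfl⟩
  | step H K hle hK hnorm ih =>
    refine le_trans ?_ ih
    have h1 : Cfsg.fittingSubgroup (H.subgroupOf K) =
        (Cfsg.fittingSubgroup H).map (subgroupOfEquivOfLe hle).symm.toMonoidHom :=
      (fitting_map_mulEquiv _).symm
    have := hnorm
    have hc := fitting_characteristic (G := H.subgroupOf K)
    have h2 : (Cfsg.fittingSubgroup (H.subgroupOf K)).map (H.subgroupOf K).subtype ≤
        Cfsg.fittingSubgroup K :=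
      le_fitting inferInstance (isNilpotent_map fitting_isNilpotent _)
    refine le_trans ?_ (map_mono h2)
    rw [h1, map_map, map_map]
    intro x hx
    obtain ⟨y, hy, rfl⟩ := hx
    exact ⟨y, hy, rfl⟩

theorem subnormal_nilpotent_le_fitting [Finite G] {H : Subgroup G} (hH : H.IsSubnormal)
    (h : Group.IsNilpotent H) : H ≤ Cfsg.fittingSubgroup G := by
  refine le_trans ?_ (map_fitting_of_subnormal_le hH)
  rw [isNilpotent_iff_fitting_eq_top.1 h]
  intro x hx
  exact ⟨⟨x, hx⟩, mem_top _, rfl⟩

theorem subnormal_pGroup_le_pCore [Finite G] {p : ℕ} [hp : Fact p.Prime] {H : Subgroup G}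
    (hH : H.IsSubnormal) (h : IsPGroup p H) : H ≤ Cfsg.pCore p G := by
  have hle := subnormal_nilpotent_le_fitting hH h.isNilpotent
  have hpg : IsPGroup p (H.subgroupOf (Cfsg.fittingSubgroup G)) := h.comap_subtype
  obtain ⟨P, hP⟩ := hpg.exists_le_sylow
  rw [← sylow_fitting_eq_pCore P]
  intro x hx
  exact ⟨⟨x, hle hx⟩, hP hx, rfl⟩

/-- `F(N) = F(G) ⊓ N` for a normal subgroup `N`. -/
theorem map_fitting_of_normal [Finite G] {N : Subgroup G} (hN : N.Normal) :
    (Cfsg.fittingSubgroup N).map N.subtype = Cfsg.fittingSubgroup G ⊓ N := by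
  refine le_antisymm (le_inf (map_fitting_of_subnormal_le hN.isSubnormal) (map_subtype_le _)) ?_
  intro x hx
  refine ⟨⟨x, hx.2⟩, ?_, rfl⟩
  have h1 : ((Cfsg.fittingSubgroup G).subgroupOf N).Normal := fitting_normal.subgroupOf _
  have h2 : Group.IsNilpotent ((Cfsg.fittingSubgroup G).subgroupOf N) := by
    have h3 : Group.IsNilpotent (Cfsg.fittingSubgroup G ⊓ N : Subgroup G) :=
      isNilpotent_of_le fitting_isNilpotent inf_le_left
    have h4 := Group.nilpotent_of_mulEquiv (_h := h3)
      (subgroupOfEquivOfLe (inf_le_right : Cfsg.fittingSubgroup G ⊓ N ≤ N)).symm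
    rwa [inf_subgroupOf_right] at h4
  exact le_fitting h1 h2 hx.1

/-- A solvable normal subgroup centralising the Fitting subgroup lies inside it. -/
theorem solvable_normal_centralizing_le_fitting [Finite G] {C : Subgroup G} (hC : C.Normal)
    (hsolv : Group.IsSolvable C) (hcen : C ≤ centralizer (Cfsg.fittingSubgroup G : Set G)) :
    C ≤ Cfsg.fittingSubgroup G := by
  obtain ⟨n, hn⟩ := (Group.isSolvable_def C).1 hsolv
  let D : ℕ → Subgroup G := fun k => (derivedSeries C k).map C.subtype
  have hDn : ∀ k, (D k).Normal := fun k => inferInstanceAs ((derivedSeries C k).map C.subtype).Normal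
  have hDle : ∀ k, D k ≤ C := fun k => map_subtype_le _
  have step : ∀ k, D (k + 1) ≤ Cfsg.fittingSubgroup G → D k ≤ Cfsg.fittingSubgroup G := by
    intro k hk
    refine le_fitting (hDn k) (isNilpotent_of_lowerCentralSeries_eq_bot (n := 2) ?_)
    have h2 : ⁅D k, D k⁆ = D (k + 1) := (map_commutator _ _ _).symm
    rw [Subgroup.lowerCentralSeries_succ, Subgroup.lowerCentralSeries_succ, Subgroup.lowerCentralSeries_zero, h2,
      commutator_eq_bot_iff_le_centralizer]
    exact hk.trans (le_centralizer_iff.1 ((hDle k).trans hcen))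
  have h0 : ∀ j, D j ≤ Cfsg.fittingSubgroup G → D 0 ≤ Cfsg.fittingSubgroup G := by
    intro j
    induction j with
    | zero => exact id
    | succ j ih => exact fun h => ih (step j h)
  have := h0 n (by simp [D, hn])
  intro x hx
  exact this ⟨⟨x, hx⟩, by simp, rfl⟩

/-- `C_G(F(G)) ≤ F(G)` for a finite solvable group. -/
theorem centralizer_fitting_le [Finite G] [Group.IsSolvable G] :
    centralizer (Cfsg.fittingSubgroup G : Set G) ≤ Cfsg.fittingSubgroup G := by
  have := fitting_normal (G := G)
  exact solvable_normal_centralizing_le_fitting inferInstance inferInstance le_rfl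

theorem fitting_ne_bot [Finite G] [Group.IsSolvable G] [Nontrivial G] :
    Cfsg.fittingSubgroup G ≠ ⊥ := by
  intro h
  have h1 := centralizer_fitting_le (G := G)
  rw [h] at h1
  obtain ⟨x, hx⟩ := exists_ne (1 : G)
  refine hx (mem_bot.1 (h1 ?_))
  intro y hy
  rw [SetLike.mem_coe, mem_bot] at hy
  simp [hy]

theorem exists_pCore_ne_bot [Finite G] [Group.IsSolvable G] [Nontrivial G] :
    ∃ p : ℕ, p.Prime ∧ p ∣ Nat.card G ∧ Cfsg.pCore p G ≠ ⊥ := by
  by_contra hcon
  push Not at hcon
  apply fitting_ne_bot (G := G)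
  rw [fitting_eq_iSup_pCore, iSup_eq_bot]
  intro p
  exact hcon p (Nat.prime_of_mem_primeFactors p.2) (Nat.dvd_of_mem_primeFactors p.2)

end CfsgLib.Fitting
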