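import Mathlib
import Cfsg.Agent.Lib.Solvable.Fitting

/-!
Frattini subgroup facts: nilpotency modulo the Frattini subgroup, Fitting subgroup of the
Frattini quotient, complements to abelian normal subgroups.
-/

namespace CfsgLib.Frattini

open Subgroup

variable {G G' : Type*} [Group G] [Group G']

/-- If a normal subgroup becomes nilpotent modulo a kernel inside the Frattini subgroup,
then it is nilpotent. -/
theorem isNilpotent_of_map_isNilpotent [Finite G] (f : G →* G') (hf : Function.Surjective f)
    (hker : f.ker ≤ frattini G) {N : Subgroup G} (hN : N.Normal)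
    (h : Group.IsNilpotent (N.map f)) : Group.IsNilpotent N := by
  refine ((Group.isNilpotent_of_finite_tfae (G := N)).out 0 3).2 ?_
  intro p hp P
  have : Finite G' := Finite.of_surjective f hf
  have hNf : (N.map f).Normal := hN.map f hf
  let Q : Sylow p (N.map f) := P.mapSurjective (f.subgroupMap_surjective N)
  have hQn : (Q : Subgroup (N.map f)).Normal := inferInstance
  have := Q.characteristic_of_normal hQn
  set Pm : Subgroup G := (P : Subgroup N).map N.subtype with hPm
  have hQmap : (Q : Subgroup (N.map f)).map (N.map f).subtype = Pm.map f := by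
    rw [Sylow.coe_mapSurjective, hPm, map_map, map_map]
    rfl
  have hKn : ((Pm.map f).comap f).Normal := by
    refine Subgroup.Normal.comap ?_ f
    rw [← hQmap]
    infer_instance
  set K : Subgroup G := (Pm.map f).comap f ⊓ N with hK
  have : K.Normal := inferInstance
  have hPmK : Pm ≤ K := le_inf (le_comap_map f Pm) (map_subtype_le _)
  have hsyl : ∀ (R : Subgroup K), IsPGroup p R → (Pm.subgroupOf K) ≤ R → R = Pm.subgroupOf K := by
    intro R hR hle
    have h1 : IsPGroup p ((R.map K.subtype).subgroupOf N) := (hR.map _).comap_subtype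
    have h2 : (P : Subgroup N) ≤ (R.map K.subtype).subgroupOf N := by
      intro x hx
      refine ⟨⟨x, hPmK ⟨x, hx, rfl⟩⟩, hle ?_, rfl⟩
      exact ⟨x, hx, rfl⟩
    have h3 := P.is_maximal' h1 h2
    refine le_antisymm ?_ hle
    intro x hx
    have hxN : (x : G) ∈ N := x.2.2
    have : (⟨x, hxN⟩ : N) ∈ (P : Subgroup N) := by
      rw [← h3]
      exact ⟨x, hx, rfl⟩
    exact ⟨⟨x, hxN⟩, this, rfl⟩
  let PK : Sylow p K :=
    { Pm.subgroupOf K with
      isPGroup' := (P.isPGroup'.map _).comap_subtype
      is_maximal' := fun hR hle => hsyl _ hR hle }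
  have hPK : (PK : Subgroup K).map K.subtype = Pm := by
    show (Pm.subgroupOf K).map K.subtype = Pm
    rw [subgroupOf_map_subtype, inf_of_le_left hPmK]
  have hfr := PK.normalizer_sup_eq_top
  rw [hPK] at hfr
  have hK' : K ≤ normalizer (Pm : Set G) ⊔ frattini G := by
    refine inf_le_left.trans ?_
    rw [comap_map_eq]
    exact sup_le_sup le_normalizer hker
  have htop : normalizer (Pm : Set G) = ⊤ := by
    apply frattini_nongenerating
    rw [eq_top_iff, ← hfr]
    exact sup_le le_sup_left hK'
  exact Normal.of_map_subtype (K := N) (normalizer_eq_top_iff.mp htop)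

theorem isNilpotent_of_frattini_quotient [Finite G] (h : Group.IsNilpotent (G ⧸ frattini G)) :
    Group.IsNilpotent G := by
  apply Group.isNilpotent_top.1
  refine isNilpotent_of_map_isNilpotent (QuotientGroup.mk' (frattini G))
    (QuotientGroup.mk'_surjective _) (by rw [QuotientGroup.ker_mk']) inferInstance ?_
  exact CfsgLib.Fitting.isNilpotent_of_le (Group.isNilpotent_top.2 h) le_top

theorem frattini_le_fitting [Finite G] : frattini G ≤ Cfsg.fittingSubgroup G :=
  CfsgLib.Fitting.le_fitting inferInstance frattini_nilpotent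

/-- Fitting subgroup of the image modulo a kernel inside the Frattini subgroup. -/
theorem fitting_map_of_ker_le_frattini [Finite G] (f : G →* G') (hf : Function.Surjective f)
    (hker : f.ker ≤ frattini G) :
    Cfsg.fittingSubgroup G' = (Cfsg.fittingSubgroup G).map f := by
  refine le_antisymm ?_ (CfsgLib.Fitting.map_fitting_le f hf)
  have : Finite G' := Finite.of_surjective f hf
  have hN := (CfsgLib.Fitting.fitting_normal (G := G')).comap f
  have hnil : Group.IsNilpotent ((Cfsg.fittingSubgroup G').comap f) := by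
    refine isNilpotent_of_map_isNilpotent f hf hker hN ?_
    rw [map_comap_eq_self_of_surjective hf]
    exact CfsgLib.Fitting.fitting_isNilpotent
  intro x hx
  obtain ⟨g, rfl⟩ := hf x
  exact ⟨g, CfsgLib.Fitting.le_fitting hN hnil hx, rfl⟩

theorem fitting_quotient_frattini [Finite G] :
    Cfsg.fittingSubgroup (G ⧸ frattini G) =
      (Cfsg.fittingSubgroup G).map (QuotientGroup.mk' (frattini G)) :=
  fitting_map_of_ker_le_frattini _ (QuotientGroup.mk'_surjective _)
    (by rw [QuotientGroup.ker_mk'])

theorem prime_dvd_index_frattini [Finite G] {p : ℕ} (hp : p.Prime) (hdvd : p ∣ Nat.card G) :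
    p ∣ (frattini G).index := by
  by_contra hnd
  have : Fact p.Prime := ⟨hp⟩
  obtain ⟨P⟩ := (inferInstance : Nonempty (Sylow p (frattini G)))
  have hnil : Group.IsNilpotent (frattini G) := frattini_nilpotent
  have hPn : (P : Subgroup (frattini G)).Normal := inferInstance
  have := P.characteristic_of_normal hPn
  set N : Subgroup G := (P : Subgroup (frattini G)).map (frattini G).subtype with hN
  have hNn : N.Normal := inferInstance
  have hcard : Nat.card N = Nat.card (P : Subgroup (frattini G)) :=
    Nat.card_congr (equivMapOfInjective _ _ (frattini G).subtype_injective).toEquiv.symm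
  have hindex : N.index = (P : Subgroup (frattini G)).index * (frattini G).index :=
    index_map_subtype _
  have hnN : ¬ p ∣ N.index := by
    rw [hindex]
    exact fun h => (hp.dvd_mul.1 h).elim P.not_dvd_index hnd
  obtain ⟨n, hn⟩ := IsPGroup.iff_card.1 (P.isPGroup'.map (frattini G).subtype)
  have hcop : (Nat.card N).Coprime N.index := by
    rw [hN, hn]
    exact Nat.Coprime.pow_left n (hp.coprime_iff_not_dvd.2 hnN)
  obtain ⟨H, hH⟩ := exists_right_complement'_of_coprime hcop
  have htop : H = ⊤ := by
    apply frattini_nongenerating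
    rw [eq_top_iff, ← hH.sup_eq_top]
    exact sup_le ((map_subtype_le _).trans le_sup_right) le_sup_left
  rw [htop] at hH
  have hbot : N = ⊥ := by
    have := hH.disjoint
    rwa [disjoint_top] at this
  apply hnN
  rw [← N.card_mul_index, hbot, card_bot, one_mul] at hdvd
  rwa [hbot]

/-- The Frattini subgroup of a normal subgroup lies in that of the group. -/
theorem map_frattini_le_of_normal [Finite G] {N : Subgroup G} (hN : N.Normal) :
    (frattini N).map N.subtype ≤ frattini G := by
  have hF : ((frattini N).map N.subtype).Normal := inferInstance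
  refine le_iInf₂ fun M hM => ?_
  by_contra hle
  have htop : (frattini N).map N.subtype ⊔ M = ⊤ :=
    hM.2 _ (lt_of_le_of_ne le_sup_right fun e => hle (by rw [e]; exact le_sup_left))
  have : M.subgroupOf N = ⊤ := by
    apply frattini_nongenerating
    rw [eq_top_iff]
    intro x _
    have hx : (x : G) ∈ M ⊔ (frattini N).map N.subtype := by
      rw [sup_comm, htop]; exact mem_top _
    obtain ⟨y, hy, z, hz, hyz⟩ := mem_sup_of_normal_right.1 hx
    obtain ⟨z', hz', rfl⟩ := hz
    have hyN : y ∈ N := by
      have : y = (x : G) * (z' : G)⁻¹ := by rw [← hyz]; simp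
      rw [this]; exact mul_mem x.2 (inv_mem z'.2)
    have : x = (⟨y, hyN⟩ : N) * z' := Subtype.ext hyz.symm
    rw [this]
    exact mul_mem_sup hy hz'
  apply hle
  intro x hx
  obtain ⟨y, -, rfl⟩ := hx
  have hy : y ∈ M.subgroupOf N := by rw [this]; exact mem_top _
  exact hy

/-- An abelian normal subgroup has a supplement whose intersection with it lies in the
Frattini subgroup, and is normal. -/
theorem exists_supplement [Finite G] (N : Subgroup G) [N.Normal] [IsMulCommutative N] :
    ∃ H : Subgroup G, N ⊔ H = ⊤ ∧ (N ⊓ H).Normal ∧ N ⊓ H ≤ frattini G := by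
  obtain ⟨H, hH⟩ := ({H : Subgroup G | N ⊔ H = ⊤}).toFinite.exists_minimal ⟨⊤, sup_top_eq N⟩
  have hsup : N ⊔ H = ⊤ := hH.prop
  have hnorm : (N ⊓ H).Normal := by
    refine ⟨fun y hy g => ?_⟩
    have hg : g ∈ N ⊔ H := by rw [hsup]; exact mem_top g
    obtain ⟨a, ha, b, hb, rfl⟩ := mem_sup_of_normal_left.1 hg
    have hbN : b * y * b⁻¹ ∈ N := Normal.conj_mem inferInstance y hy.1 b
    have hbH : b * y * b⁻¹ ∈ H := mul_mem (mul_mem hb hy.2) (inv_mem hb)
    have hcomm : a * (b * y * b⁻¹) = b * y * b⁻¹ * a :=
      congrArg Subtype.val (mul_comm' (⟨a, ha⟩ : N) ⟨_, hbN⟩)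
    have : a * b * y * (a * b)⁻¹ = a * (b * y * b⁻¹) * a⁻¹ := by group
    rw [this, hcomm, mul_inv_cancel_right]
    exact ⟨hbN, hbH⟩
  refine ⟨H, hsup, hnorm, le_iInf₂ fun M hM => ?_⟩
  by_contra hle
  have htop : M ⊔ (N ⊓ H) = ⊤ :=
    hM.2 _ (lt_of_le_of_ne le_sup_left fun e => hle (by rw [e]; exact le_sup_right))
  have hnew : N ⊔ (M ⊓ H) = ⊤ := by
    rw [eq_top_iff, ← hsup]
    refine sup_le le_sup_left fun h hh => ?_
    have hh' : h ∈ M ⊔ (N ⊓ H) := by rw [htop]; exact mem_top h
    obtain ⟨m, hm, n, hn, rfl⟩ := mem_sup_of_normal_right.1 hh'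
    have hmH : m ∈ H := by
      have := mul_mem hh (inv_mem hn.2)
      rwa [mul_inv_cancel_right] at this
    exact mul_mem (mem_sup_right ⟨hm, hmH⟩) (mem_sup_left hn.1)
  have hHM : H ≤ M := (hH.le_of_le hnew inf_le_right).trans inf_le_left
  exact hle (inf_le_right.trans hHM)

/-- An abelian normal subgroup meeting the Frattini subgroup trivially is complemented. -/
theorem exists_complement_of_inf_frattini [Finite G] (N : Subgroup G) [N.Normal]
    [IsMulCommutative N] (h : N ⊓ frattini G = ⊥) : ∃ H : Subgroup G, IsComplement' N H := by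
  obtain ⟨H, hsup, -, hle⟩ := exists_supplement N
  have hd : N ⊓ H = ⊥ := by
    rw [← le_bot_iff, ← h]
    exact le_inf inf_le_left hle
  refine ⟨H, isComplement'_of_disjoint_and_mul_eq_univ (disjoint_iff.2 hd) ?_⟩
  rw [← Subgroup.normal_mul, hsup, coe_top]

end CfsgLib.Frattini
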