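import Mathlib
import Cfsg.Prelude.Def_Transfer
import Cfsg.Agent.Lib.Solvable.Frattini

/-!
Minimal normal subgroups (in particular of solvable groups) and maximal subgroups of solvable
groups.
-/

namespace CfsgLib.MinNormal

open Subgroup

variable {G G' : Type*} [Group G] [Group G']

/-- `N` is a minimal normal subgroup of `G`. -/
def IsMinNormal (N : Subgroup G) : Prop :=
  N.Normal ∧ N ≠ ⊥ ∧ ∀ M : Subgroup G, M.Normal → M ≤ N → M = ⊥ ∨ M = N

theorem exists_isMinNormal_le [Finite G] {K : Subgroup G} (hK : K.Normal) (h : K ≠ ⊥) :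
    ∃ N : Subgroup G, IsMinNormal N ∧ N ≤ K := by
  obtain ⟨N, hN⟩ := ({N : Subgroup G | N.Normal ∧ N ≠ ⊥ ∧ N ≤ K}).toFinite.exists_minimal
    ⟨K, hK, h, le_rfl⟩
  refine ⟨N, ⟨hN.prop.1, hN.prop.2.1, fun M hM hle => ?_⟩, hN.prop.2.2⟩
  by_cases hb : M = ⊥
  · exact Or.inl hb
  · exact Or.inr (le_antisymm hle (hN.le_of_le ⟨hM, hb, hle.trans hN.prop.2.2⟩ hle))

theorem exists_isMinNormal [Finite G] [Nontrivial G] : ∃ N : Subgroup G, IsMinNormal N :=
  let ⟨N, hN, _⟩ := exists_isMinNormal_le (inferInstanceAs (⊤ : Subgroup G).Normal)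
    (bot_ne_top (α := Subgroup G)).symm
  ⟨N, hN⟩

theorem IsMinNormal.inf_eq_bot_or_le {N : Subgroup G} (hN : IsMinNormal N) {K : Subgroup G}
    (hK : K.Normal) : N ⊓ K = ⊥ ∨ N ≤ K := by
  have := hN.1
  rcases hN.2.2 (N ⊓ K) inferInstance inf_le_left with h | h
  · exact Or.inl h
  · exact Or.inr (inf_eq_left.1 h)

/-- A characteristic subgroup of a minimal normal subgroup is trivial or everything. -/
theorem IsMinNormal.eq_bot_or_top_of_characteristic {N : Subgroup G} (hN : IsMinNormal N)
    (K : Subgroup N) [K.Characteristic] : K = ⊥ ∨ K = ⊤ := by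
  have := hN.1
  rcases hN.2.2 (K.map N.subtype) inferInstance (map_subtype_le K) with h | h
  · exact Or.inl ((map_eq_bot_iff_of_injective K N.subtype_injective).1 h)
  · refine Or.inr (eq_top_iff.2 fun x _ => ?_)
    have hx : (x : G) ∈ K.map N.subtype := by rw [h]; exact x.2
    obtain ⟨y, hy, hyx⟩ := hx
    rwa [← Subtype.ext hyx]

theorem IsMinNormal.isMulCommutative [Group.IsSolvable G] {N : Subgroup G} (hN : IsMinNormal N) :
    IsMulCommutative N := by
  have := hN.1
  have hlt := Group.IsSolvable.commutator_lt_of_ne_bot hN.2.1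
  rcases hN.2.2 ⁅N, N⁆ inferInstance hlt.le with h | h
  · rw [commutator_eq_bot_iff_le_centralizer] at h
    exact ⟨⟨fun a b => Subtype.ext ((h b.2) a a.2)⟩⟩
  · exact absurd h hlt.ne

/-- An abelian minimal normal subgroup of a finite group is elementary abelian. -/
theorem IsMinNormal.exists_prime_elementaryAbelian [Finite G] {N : Subgroup G}
    (hN : IsMinNormal N) (hab : IsMulCommutative N) :
    ∃ p : ℕ, p.Prime ∧ Cfsg.IsElementaryAbelian p N ∧ IsPGroup p N ∧
      ∃ k, 0 < k ∧ Nat.card N = p ^ k := by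
  have hne : Nat.card N ≠ 1 := fun h => hN.2.1 (card_eq_one.1 h)
  obtain ⟨p, hp, hpN⟩ := Nat.exists_prime_and_dvd hne
  have : Fact p.Prime := ⟨hp⟩
  let K : Subgroup N :=
    { carrier := {x | x ^ p = 1}
      mul_mem' := fun {a b} ha hb => by
        simp only [Set.mem_ofPred_eq] at *
        rw [(Commute.mul_pow (mul_comm' a b) p), ha, hb, one_mul]
      one_mem' := one_pow _
      inv_mem' := fun {a} ha => by
        simp only [Set.mem_ofPred_eq] at *
        rw [inv_pow, ha, inv_one] }
  have hK : K.Characteristic := by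
    rw [characteristic_iff_le_comap]
    intro φ x hx
    show (φ x) ^ p = 1
    rw [← map_pow, show x ^ p = 1 from hx, map_one]
  obtain ⟨x, hx⟩ := exists_prime_orderOf_dvd_card' p hpN
  have htop : K = ⊤ := by
    refine (hN.eq_bot_or_top_of_characteristic K).resolve_left fun h => ?_
    have hxK : x ∈ K := by
      show x ^ p = 1
      rw [← hx, pow_orderOf_eq_one]
    rw [h, mem_bot] at hxK
    rw [hxK, orderOf_one] at hx
    exact hp.one_lt.ne hx
  have hexp : ∀ y : N, y ^ p = 1 := fun y => by
    have : y ∈ K := by rw [htop]; exact mem_top y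
    exact this
  have hpg : IsPGroup p N := fun y => ⟨1, by rw [pow_one]; exact hexp y⟩
  refine ⟨p, hp, ⟨hab, fun a ha => by simpa [Subtype.ext_iff] using hexp ⟨a, ha⟩⟩, hpg, ?_⟩
  obtain ⟨k, hk⟩ := IsPGroup.iff_card.1 hpg
  refine ⟨k, Nat.pos_of_ne_zero fun h => hne ?_, hk⟩
  rw [hk, h, pow_zero]

theorem IsMinNormal.elementaryAbelian_of_solvable [Finite G] [Group.IsSolvable G]
    {N : Subgroup G} (hN : IsMinNormal N) :
    ∃ p : ℕ, p.Prime ∧ Cfsg.IsElementaryAbelian p N ∧ IsPGroup p N ∧
      ∃ k, 0 < k ∧ Nat.card N = p ^ k :=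
  hN.exists_prime_elementaryAbelian hN.isMulCommutative

/-- A maximal subgroup not containing an abelian minimal normal subgroup complements it. -/
theorem IsMinNormal.isComplement'_of_isCoatom [Finite G] {N : Subgroup G} (hN : IsMinNormal N)
    (hab : IsMulCommutative N) {M : Subgroup G} (hM : IsCoatom M) (hle : ¬ N ≤ M) :
    IsComplement' N M := by
  have := hN.1
  have hsup : N ⊔ M = ⊤ := hM.2 _ (lt_of_le_of_ne le_sup_right fun e => hle (by rw [e]; exact le_sup_left))
  have hnorm : (N ⊓ M).Normal := by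
    refine ⟨fun y hy g => ?_⟩
    have hg : g ∈ N ⊔ M := by rw [hsup]; exact mem_top g
    obtain ⟨a, ha, b, hb, rfl⟩ := mem_sup_of_normal_left.1 hg
    have hbN : b * y * b⁻¹ ∈ N := Normal.conj_mem inferInstance y hy.1 b
    have hbH : b * y * b⁻¹ ∈ M := mul_mem (mul_mem hb hy.2) (inv_mem hb)
    have hcomm : a * (b * y * b⁻¹) = b * y * b⁻¹ * a :=
      congrArg Subtype.val (mul_comm' (⟨a, ha⟩ : N) ⟨_, hbN⟩)
    have : a * b * y * (a * b)⁻¹ = a * (b * y * b⁻¹) * a⁻¹ := by group
    rw [this, hcomm, mul_inv_cancel_right]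
    exact ⟨hbN, hbH⟩
  rcases hN.2.2 _ hnorm inf_le_left with h | h
  · refine isComplement'_of_disjoint_and_mul_eq_univ (disjoint_iff.2 h) ?_
    rw [← Subgroup.normal_mul, hsup, coe_top]
  · exact absurd (inf_eq_left.1 h) hle

theorem complement_iff_not_le_frattini [Finite G] {N : Subgroup G} (hN : IsMinNormal N)
    (hab : IsMulCommutative N) :
    (∃ H : Subgroup G, IsComplement' N H) ↔ ¬ N ≤ frattini G := by
  constructor
  · rintro ⟨H, hH⟩ hle
    have : H = ⊤ := by
      apply frattini_nongenerating
      rw [eq_top_iff, ← hH.sup_eq_top]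
      exact sup_le (hle.trans le_sup_right) le_sup_left
    subst this
    have := hH.disjoint
    rw [disjoint_top] at this
    exact hN.2.1 this
  · intro hnle
    have h : ∃ M : Subgroup G, IsCoatom M ∧ ¬ N ≤ M := by
      by_contra hcon
      push Not at hcon
      exact hnle (le_iInf₂ hcon)
    obtain ⟨M, hM, hNM⟩ := h
    exact ⟨M, hN.isComplement'_of_isCoatom hab hM hNM⟩

/-- Maximal subgroups of finite solvable groups have prime power index. -/
theorem isPrimePow_index_of_isCoatom [Finite G] [Group.IsSolvable G] {M : Subgroup G}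
    (hM : IsCoatom M) : IsPrimePow M.index := by
  induction hn : Nat.card G using Nat.strong_induction_on generalizing G with
  | _ n ih =>
    subst hn
    have : Nontrivial G := by
      by_contra h
      rw [not_nontrivial_iff_subsingleton] at h
      exact hM.1 (Subsingleton.elim _ _)
    obtain ⟨N, hN⟩ := exists_isMinNormal (G := G)
    have := hN.1
    by_cases hle : N ≤ M
    · have hker : (QuotientGroup.mk' N).ker ≤ M := by rwa [QuotientGroup.ker_mk']
      have hcm : (M.map (QuotientGroup.mk' N)).comap (QuotientGroup.mk' N) = M :=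
        comap_map_eq_self hker
      have hM' : IsCoatom (M.map (QuotientGroup.mk' N)) := by
        constructor
        · intro e
          apply hM.1
          rw [← hcm, e, comap_top]
        · intro K hK
          have h1 : M < K.comap (QuotientGroup.mk' N) := by
            rw [← hcm]
            exact (comap_lt_comap_of_surjective (QuotientGroup.mk'_surjective N)).2 hK
          have h2 := congrArg (map (QuotientGroup.mk' N)) (hM.2 _ h1)
          rwa [map_comap_eq_self_of_surjective (QuotientGroup.mk'_surjective N),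
            map_top_of_surjective _ (QuotientGroup.mk'_surjective N)] at h2
      have hlt : Nat.card (G ⧸ N) < Nat.card G := by
        rw [card_eq_card_quotient_mul_card_subgroup N]
        exact lt_mul_of_one_lt_right Nat.card_pos ((one_lt_card_iff_ne_bot N).2 hN.2.1)
      have := ih _ hlt hM' rfl
      rwa [index_map_eq _ (QuotientGroup.mk'_surjective N) hker] at this
    · obtain ⟨p, hp, -, -, k, hk0, hk⟩ := hN.elementaryAbelian_of_solvable
      have hc := hN.isComplement'_of_isCoatom hN.isMulCommutative hM hle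
      rw [hc.index_eq_card, hk]
      exact hp.isPrimePow.pow hk0.ne'

end CfsgLib.MinNormal
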