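import Mathlib.GroupTheory.Nilpotent
import Cfsg.Agent.Lib.Transfer.NormalComplement

/-!
# Groups all of whose proper subgroups are nilpotent, and Wielandt's theorem on nilpotent Hall
subgroups
-/

set_option autoImplicit false

open scoped Pointwise

namespace CfsgLib.NilpotentSubgroups

open Subgroup CfsgLib.Transfer

/-- In a finite nilpotent group elements of coprime order commute. -/
theorem commute_of_orderOf_coprime {N : Type*} [Group N] [Finite N] [hN : Group.IsNilpotent N]
    {x y : N} (h : (orderOf x).Coprime (orderOf y)) : Commute x y := by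
  classical
  obtain ⟨e⟩ := ((Group.isNilpotent_of_finite_tfae (G := N)).out 0 4).1 hN
  refine (commute_iff_eq x y).2 (e.symm.injective ?_)
  rw [map_mul, map_mul]
  refine funext fun p => funext fun P => ?_
  haveI : Fact (p : ℕ).Prime := ⟨Nat.prime_of_mem_primeFactors p.2⟩
  set u := e.symm x p P
  set v := e.symm y p P
  show u * v = v * u
  let π : N →* (P : Subgroup N) :=
    ((Pi.evalMonoidHom (fun P : Sylow p N => (P : Subgroup N)) P).comp
      (Pi.evalMonoidHom _ p)).comp e.symm.toMonoidHom
  have hu : orderOf u ∣ orderOf x := orderOf_map_dvd π x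
  have hv : orderOf v ∣ orderOf y := orderOf_map_dvd π y
  obtain ⟨i, hi⟩ := IsPGroup.iff_orderOf.1 P.isPGroup' u
  obtain ⟨j, hj⟩ := IsPGroup.iff_orderOf.1 P.isPGroup' v
  rcases Nat.eq_zero_or_pos i with rfl | hipos
  · rw [pow_zero, orderOf_eq_one_iff] at hi; simp [hi]
  rcases Nat.eq_zero_or_pos j with rfl | hjpos
  · rw [pow_zero, orderOf_eq_one_iff] at hj; simp [hj]
  exfalso
  refine (Fact.out : (p : ℕ).Prime).one_lt.ne' (Nat.eq_one_of_dvd_coprimes h
    ((dvd_pow_self _ hipos.ne').trans (hi ▸ hu)) ((dvd_pow_self _ hjpos.ne').trans (hj ▸ hv)))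

/-- Finite nilpotent groups have normal `p`-complements. -/
theorem hasNormalPComplement_of_nilpotent {p : ℕ} [Fact p.Prime] {N : Type*} [Group N] [Finite N]
    [Group.IsNilpotent N] : Cfsg.HasNormalPComplement p N := by
  refine hasNormalPComplement_of_frobeniusCond fun Q hQ g _ hc => mem_centralizer_iff.2 fun q hq => ?_
  obtain ⟨k, hk⟩ := IsPGroup.iff_orderOf.1 hQ ⟨q, hq⟩
  rw [orderOf_mk] at hk
  exact (commute_of_orderOf_coprime (x := q) (y := g) (hk ▸ hc.symm.pow_left k)).eq

theorem orderOf_coprime_of_mem_complement {p : ℕ} [hp : Fact p.Prime] {N : Type*} [Group N]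
    [Finite N] {P : Sylow p N} {C : Subgroup N} (hC : C.IsComplement' (P : Subgroup N)) {x : N}
    (hx : x ∈ C) : (orderOf x).Coprime p := by
  refine Nat.Coprime.coprime_dvd_left (orderOf_dvd_natCard C hx) ?_
  rw [← hC.index_eq_card]
  exact ((hp.out.coprime_iff_not_dvd).2 P.not_dvd_index).symm

theorem mem_complement_of_coprime {p : ℕ} [Fact p.Prime] {N : Type*} [Group N]
    [Finite N] {P : Sylow p N} {C : Subgroup N} [C.Normal]
    (hC : C.IsComplement' (P : Subgroup N)) {x : N} (hx : (orderOf x).Coprime p) : x ∈ C := by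
  rw [← QuotientGroup.eq_one_iff, ← orderOf_eq_one_iff]
  obtain ⟨j, hj⟩ := IsPGroup.iff_card.1 P.isPGroup'
  refine Nat.eq_one_of_dvd_coprimes (hx.pow_right j) (orderOf_map_dvd (QuotientGroup.mk' C) x) ?_
  have h := orderOf_dvd_natCard (x : N ⧸ C)
  rwa [show Nat.card (N ⧸ C) = p ^ j by rw [← Subgroup.index, hC.symm.index_eq_card, hj]] at h

/-- A finite nilpotent group that is nontrivial has a normal subgroup of prime index. -/
theorem exists_normal_prime_index_of_nilpotent {G : Type*} [Group G] [Finite G] [Nontrivial G]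
    [hG : Group.IsNilpotent G] : ∃ K : Subgroup G, K.Normal ∧ K.index.Prime := by
  obtain ⟨M, hM⟩ := ({M : Subgroup G | M ≠ ⊤}).toFinite.exists_maximal ⟨⊥, bot_ne_top⟩
  have hco : IsCoatom M := by
    refine ⟨hM.prop, fun K hK => by_contra fun h => ?_⟩
    exact (hM.le_of_ge h hK.le).not_gt hK
  haveI hn : M.Normal := NormalizerCondition.normal_of_coatom M
    (normalizerCondition_of_isNilpotent (G := G)) hco
  refine ⟨M, hn, ?_⟩
  haveI : Nontrivial (G ⧸ M) := QuotientGroup.nontrivial_iff.2 hco.1
  obtain ⟨p, hp, hpd⟩ := Nat.exists_prime_and_dvd (Finite.one_lt_card (α := G ⧸ M)).ne'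
  haveI := Fact.mk hp
  obtain ⟨x, hx⟩ := exists_prime_orderOf_dvd_card' (G := G ⧸ M) p hpd
  have hlt : M < (zpowers x).comap (QuotientGroup.mk' M) := by
    refine lt_of_le_of_ne (fun m hm => ?_) fun e => ?_
    · simp [(QuotientGroup.eq_one_iff m).2 hm]
    · obtain ⟨g, rfl⟩ := QuotientGroup.mk'_surjective M x
      have hg : g ∈ (zpowers (QuotientGroup.mk' M g)).comap (QuotientGroup.mk' M) :=
        mem_zpowers _
      rw [← e] at hg
      rw [show QuotientGroup.mk' M g = 1 from (QuotientGroup.eq_one_iff g).2 hg, orderOf_one] at hx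
      exact hp.one_lt.ne hx
  have htop := congrArg (Subgroup.map (QuotientGroup.mk' M)) (hco.2 _ hlt)
  rw [map_comap_eq_self_of_surjective (QuotientGroup.mk'_surjective M),
    map_top_of_surjective _ (QuotientGroup.mk'_surjective M)] at htop
  have : M.index = p := by
    rw [Subgroup.index, ← Subgroup.card_top (G := G ⧸ M), ← htop, Nat.card_zpowers, hx]
  rw [this]; exact hp

/-- If all proper subgroups of a nontrivial finite group are nilpotent, it has a normal subgroup of
prime index. -/
theorem exists_normal_prime_index {G : Type*} [Group G] [Finite G] [Nontrivial G]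
    (h : ∀ H : Subgroup G, H ≠ ⊤ → Group.IsNilpotent H) :
    ∃ K : Subgroup G, K.Normal ∧ K.index.Prime := by
  induction hn : Nat.card G using Nat.strong_induction_on generalizing G with
  | _ n ih =>
  subst hn
  by_cases hns : ∃ N : Subgroup G, N.Normal ∧ N ≠ ⊥ ∧ N ≠ ⊤
  · obtain ⟨N, hN, hb, ht⟩ := hns
    haveI := hN
    haveI : Nontrivial (G ⧸ N) := QuotientGroup.nontrivial_iff.2 ht
    have hlt : Nat.card (G ⧸ N) < Nat.card G := by
      rw [card_eq_card_quotient_mul_card_subgroup N]
      exact lt_mul_of_one_lt_right Nat.card_pos ((one_lt_card_iff_ne_bot N).2 hb)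
    have hq : ∀ H : Subgroup (G ⧸ N), H ≠ ⊤ → Group.IsNilpotent H := by
      intro H hH
      haveI := h (H.comap (QuotientGroup.mk' N)) fun e => hH (by
        have e' := congrArg (Subgroup.map (QuotientGroup.mk' N)) e
        rwa [map_comap_eq_self_of_surjective (QuotientGroup.mk'_surjective N),
          map_top_of_surjective _ (QuotientGroup.mk'_surjective N)] at e')
      exact Group.nilpotent_of_surjective ((QuotientGroup.mk' N).subgroupComap H)
        (MonoidHom.subgroupComap_surjective_of_surjective _ _ (QuotientGroup.mk'_surjective N))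
    obtain ⟨K, hK, hp⟩ := ih _ hlt (G := G ⧸ N) hq rfl
    refine ⟨K.comap (QuotientGroup.mk' N), hK.comap _, ?_⟩
    rwa [index_comap_of_surjective _ (QuotientGroup.mk'_surjective N)]
  · -- `G` is simple
    push Not at hns
    obtain ⟨p, hp, hpd⟩ := Nat.exists_prime_and_dvd (Finite.one_lt_card (α := G)).ne'
    haveI := Fact.mk hp
    by_cases hG : IsPGroup p G
    · haveI := hG.isNilpotent
      exact exists_normal_prime_index_of_nilpotent
    exfalso
    have hF : FrobeniusCond p G := by
      intro Q hQ g hg hc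
      by_cases hQb : Q = ⊥
      · simp [hQb, mem_centralizer_iff]
      have hne : normalizer (Q : Set G) ≠ ⊤ := by
        intro e
        have hQn := normalizer_eq_top_iff.1 e
        have hQt := hns Q hQn hQb
        exact hG (fun x => by
          obtain ⟨k, hk⟩ := hQ ⟨x, hQt ▸ mem_top x⟩
          exact ⟨k, congrArg Subtype.val hk⟩)
      haveI := h _ hne
      refine mem_centralizer_iff.2 fun q hq => ?_
      have hco : (orderOf (⟨q, le_normalizer hq⟩ : normalizer (Q : Set G))).Coprime
          (orderOf (⟨g, hg⟩ : normalizer (Q : Set G))) := by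
        rw [orderOf_mk, orderOf_mk]
        obtain ⟨k, hk⟩ := IsPGroup.iff_orderOf.1 hQ ⟨q, hq⟩
        rw [orderOf_mk] at hk
        rw [hk]
        exact (hc.symm).pow_left k
      exact congrArg Subtype.val (commute_of_orderOf_coprime hco).eq
    obtain ⟨P, N, hNn, hc⟩ := hasNormalPComplement_of_frobeniusCond hF
    by_cases hNb : N = ⊥
    · subst hNb
      have hP := (isComplement'_bot_left.1 hc)
      exact hG (fun x => by
        obtain ⟨k, hk⟩ := P.isPGroup' ⟨x, hP ▸ mem_top x⟩
        exact ⟨k, congrArg Subtype.val hk⟩)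
    · have hNt := hns N hNn hNb
      subst hNt
      exact P.ne_bot_of_dvd_card hpd (isComplement'_top_left.1 hc)

/-- Wielandt: if a finite group has a nilpotent Hall subgroup `H`, every subgroup whose order
involves only primes dividing `|H|` lies in a conjugate of `H`. -/
theorem exists_le_conj {G : Type*} [Group G] [Finite G] {H : Subgroup G}
    (hH : Group.IsNilpotent H) (hHall : (Nat.card H).Coprime H.index) (K : Subgroup G)
    (hK : ∀ p : ℕ, p.Prime → p ∣ Nat.card K → p ∣ Nat.card H) :
    ∃ x : G, K ≤ MulAut.conj x • H := by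
  induction hn : Nat.card K using Nat.strong_induction_on generalizing K with
  | _ n ih =>
  subst hn
  by_cases hKb : K = ⊥
  · exact ⟨1, hKb ▸ bot_le⟩
  haveI : Nontrivial K := (nontrivial_iff_ne_bot K).2 hKb
  -- proper subgroups of `K` are nilpotent
  have hnil : ∀ L : Subgroup K, L ≠ ⊤ → Group.IsNilpotent L := by
    intro L hL
    have hlt : Nat.card (L.map K.subtype) < Nat.card K := by
      rw [card_map_of_injective K.subtype_injective]
      exact lt_of_le_of_ne (card_le_card_group L) fun e => hL (eq_top_of_card_eq L e)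
    obtain ⟨x, hx⟩ := ih _ hlt (L.map K.subtype)
      (fun p hp hd => hK p hp (hd.trans (card_dvd_of_le (map_subtype_le L)))) rfl
    haveI := hH
    haveI : Group.IsNilpotent (MulAut.conj x • H : Subgroup G) :=
      Group.nilpotent_of_mulEquiv (Subgroup.equivSMul (MulAut.conj x) H)
    haveI : Group.IsNilpotent (L.map K.subtype) :=
      Group.nilpotent_of_mulEquiv
        (subgroupOfEquivOfLe hx)
    exact Group.nilpotent_of_mulEquiv (L.equivMapOfInjective K.subtype K.subtype_injective).symm
  obtain ⟨M, hMn, hMp⟩ := exists_normal_prime_index hnil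
  set p := M.index with hpdef
  haveI := Fact.mk hMp
  have hpH : p ∣ Nat.card H := hK p hMp ⟨Nat.card M, by rw [mul_comm, M.card_mul_index]⟩
  have hlt : Nat.card (M.map K.subtype) < Nat.card K := by
    rw [card_map_of_injective K.subtype_injective, ← M.card_mul_index]
    exact lt_mul_of_one_lt_right Nat.card_pos hMp.one_lt
  obtain ⟨y, hy⟩ := ih _ hlt (M.map K.subtype)
    (fun q hq hd => hK q hq (hd.trans (card_dvd_of_le (map_subtype_le M)))) rfl
  -- replace `H` by the conjugate containing `M`
  set H' : Subgroup G := MulAut.conj y • H with hH'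
  haveI := hH
  haveI hH'n : Group.IsNilpotent H' :=
    Group.nilpotent_of_mulEquiv (Subgroup.equivSMul (MulAut.conj y) H)
  have hcard : Nat.card H' = Nat.card H :=
    (Nat.card_congr (Subgroup.equivSMul (MulAut.conj y) H).toEquiv).symm
  -- the Sylow `p`-subgroup of `H'` is one of `G`
  obtain ⟨P⟩ : Nonempty (Sylow p H') := inferInstance
  set P' : Subgroup G := (P : Subgroup H').map H'.subtype with hP'
  have hP'card : Nat.card P' = p ^ (Nat.card G).factorization p := by
    rw [card_map_of_injective H'.subtype_injective, P.card_eq_multiplicity, hcard,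
      ← H.card_mul_index, Nat.factorization_mul Nat.card_pos.ne' index_ne_zero_of_finite,
      Finsupp.add_apply, Nat.factorization_eq_zero_of_not_dvd
        ((hMp.coprime_iff_not_dvd).1 (hHall.coprime_dvd_left hpH)), add_zero]
  -- `L`, the `p'`-part of `M`
  obtain ⟨R₀, C, hCn, hC⟩ := hasNormalPComplement_of_nilpotent (p := p) (N := H')
  set L : Subgroup G := M.map K.subtype ⊓ C.map H'.subtype with hL
  have hLmem : ∀ g : G, g ∈ L ↔ g ∈ M.map K.subtype ∧ (orderOf g).Coprime p := by
    intro g
    constructor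
    · rintro ⟨h1, c, hc, rfl⟩
      refine ⟨h1, ?_⟩
      rw [orderOf_injective H'.subtype H'.subtype_injective]
      exact orderOf_coprime_of_mem_complement hC hc
    · rintro ⟨h1, h2⟩
      refine ⟨h1, ⟨g, hy h1⟩, ?_, rfl⟩
      haveI := hCn
      exact mem_complement_of_coprime hC (by rw [orderOf_mk]; exact h2)
  have hLK : L ≤ K := inf_le_left.trans (map_subtype_le M)
  have hKL : K ≤ normalizer (L : Set G) := by
    have key : ∀ k ∈ K, ∀ g ∈ L, k * g * k⁻¹ ∈ L := by
      intro k hk g hg
      rw [hLmem] at hg ⊢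
      refine ⟨?_, ?_⟩
      · obtain ⟨m, hm, hmg⟩ := hg.1
        refine ⟨⟨k, hk⟩ * m * (⟨k, hk⟩ : K)⁻¹, hMn.conj_mem m hm _, ?_⟩
        rw [← hmg]; rfl
      · have : orderOf (k * g * k⁻¹) = orderOf g := (MulAut.conj k).orderOf_eq g
        rw [this]; exact hg.2
    intro k hk
    refine mem_normalizer_iff.2 fun g => ⟨key k hk g, fun hg => ?_⟩
    simpa [mul_assoc] using key k⁻¹ (inv_mem hk) _ hg
  have hPL : P' ≤ normalizer (L : Set G) := by
    refine le_trans (fun x hx => ?_) (centralizer_le_normalizer _)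
    refine mem_centralizer_iff.2 fun g hg => ?_
    obtain ⟨z, hz, rfl⟩ := hx
    have hg' := (hLmem g).1 hg
    obtain ⟨i, hi⟩ := IsPGroup.iff_orderOf.1 P.isPGroup' ⟨z, hz⟩
    rw [orderOf_mk] at hi
    exact congrArg Subtype.val (commute_of_orderOf_coprime (x := (⟨g, hy hg'.1⟩ : H')) (y := z) (by
      rw [hi, orderOf_mk]; exact hg'.2.pow_right i)).eq
  set N := normalizer (L : Set G)
  have hPN : Nat.card (P'.subgroupOf N) = p ^ (Nat.card N).factorization p := by
    rw [Nat.card_congr (subgroupOfEquivOfLe hPL).toEquiv, hP'card]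
    congr 1
    refine le_antisymm ?_ ?_
    · rw [← hMp.pow_dvd_iff_le_factorization Nat.card_pos.ne', ← hP'card]
      exact card_dvd_of_le hPL
    · rw [← hMp.pow_dvd_iff_le_factorization Nat.card_pos.ne']
      exact (Nat.ordProj_dvd _ _).trans (card_subgroup_dvd_card N)
  obtain ⟨Q⟩ : Nonempty (Sylow p K) := inferInstance
  set Q' : Subgroup G := (Q : Subgroup K).map K.subtype
  have hQN : Q' ≤ N := (map_subtype_le _).trans hKL
  obtain ⟨R, hR⟩ := ((Q.isPGroup'.map K.subtype).comap_subtype (K := N)).exists_le_sylow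
  obtain ⟨c, hc⟩ := MulAction.exists_smul_eq N R (Sylow.ofCard _ hPN)
  refine ⟨(c : G)⁻¹ * y, ?_⟩
  have hKeq : L ⊔ Q' = K := by
    refine Subgroup.eq_of_le_of_card_ge (sup_le hLK (map_subtype_le _)) ?_
    refine Nat.le_of_dvd Nat.card_pos ?_
    rw [← Nat.ordProj_mul_ordCompl_eq_self (Nat.card K) p]
    have hco := (Nat.coprime_ordCompl hMp (Nat.card_pos (α := K)).ne')
    refine Nat.Coprime.mul_dvd_of_dvd_of_dvd (hco.pow_left _) ?_ ?_
    · have h1 : Nat.card Q' = p ^ (Nat.card K).factorization p := by
        rw [card_map_of_injective K.subtype_injective, Q.card_eq_multiplicity]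
      rw [← h1]
      exact card_dvd_of_le le_sup_right
    · refine Dvd.dvd.trans ?_ (card_dvd_of_le (le_sup_left : L ≤ L ⊔ Q'))
      obtain ⟨j, hj⟩ := IsPGroup.iff_card.1 R₀.isPGroup'
      refine (hco.symm.pow_right (j + 1)).dvd_of_dvd_mul_right
        ((Nat.ordCompl_dvd _ _).trans ?_)
      have h1 : Nat.card (M.map K.subtype) ∣ Nat.card L * p ^ j := by
        set X := (M.map K.subtype).subgroupOf H'
        have hX : Nat.card X = Nat.card (M.map K.subtype) :=
          Nat.card_congr (subgroupOfEquivOfLe hy).toEquiv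
        have hXC : Nat.card (C.subgroupOf X) = Nat.card L := by
          rw [← card_map_of_injective X.subtype_injective, subgroupOf_map_subtype,
            ← card_map_of_injective H'.subtype_injective, map_inf _ _ _ H'.subtype_injective,
            subgroupOf_map_subtype, inf_of_le_left hy, inf_comm]
        rw [← hX, ← (C.subgroupOf X).card_mul_index, hXC, ← hj, ← hC.symm.index_eq_card]
        haveI := hCn
        exact Nat.mul_dvd_mul_left _ (Subgroup.relIndex_dvd_index_of_normal C X)
      rw [← M.card_mul_index, pow_succ, ← mul_assoc]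
      rw [card_map_of_injective K.subtype_injective] at h1
      exact Nat.mul_dvd_mul_right h1 p
  intro k hk
  rw [map_mul, mul_smul, mem_pointwise_smul_iff_inv_smul_mem]
  simp only [MulAut.smul_def, map_inv, inv_inv, MulAut.conj_apply]
  suffices hle : L ⊔ Q' ≤ H'.comap (MulAut.conj (c : G)).toMonoidHom from hle (hKeq.ge hk)
  refine sup_le ?_ ?_
  · intro g hg
    exact hy ((mem_normalizer_iff.1 c.2 g).1 hg).1
  · intro g hg
    have h1 : (⟨g, hQN hg⟩ : N) ∈ (R : Subgroup N) := hR hg
    have h2 : c * ⟨g, hQN hg⟩ * c⁻¹ ∈ ((c • R : Sylow p N) : Subgroup N) :=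
      ⟨⟨g, hQN hg⟩, h1, rfl⟩
    rw [hc] at h2
    show (c : G) * g * (c : G)⁻¹ ∈ H'
    exact map_subtype_le (P : Subgroup H') (show c.1 * g * c.1⁻¹ ∈ P' from h2)

end CfsgLib.NilpotentSubgroups
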