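import Mathlib
import Cfsg.Agent.Lib.Coprime.Commutator
import Cfsg.Agent.Lib.Solvable.Fitting

/-!
Coprime action: generation by fixed points of a noncyclic abelian group; fixed points of prime
index.
-/

set_option autoImplicit false
set_option linter.style.haveILetI false

namespace CfsgLib.CoprimeGeneration

open Subgroup
open CfsgLib.Coprime
open scoped commutatorElement

universe u
variable {G : Type u} [Group G]

theorem pow_zmodVal_add {a : G} {q : ℕ} [NeZero q] (ha : a ^ q = 1) (i j : ZMod q) :
    a ^ (i + j).val = a ^ i.val * a ^ j.val := by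
  rw [ZMod.val_add, ← pow_add]
  exact (pow_eq_pow_mod _ ha).symm

theorem pow_zmodVal_mul {a : G} {q : ℕ} [NeZero q] (ha : a ^ q = 1) (i j : ZMod q) :
    a ^ (i * j).val = (a ^ j.val) ^ i.val := by
  rw [ZMod.val_mul, ← pow_mul, mul_comm j.val]
  exact (pow_eq_pow_mod _ ha).symm

/-- A finite commutative group is cyclic or has two independent elements of the same prime
order. -/
theorem exists_pair_of_not_cyclic {A : Type u} [CommGroup A] [Finite A] (h : ¬ IsCyclic A) :
    ∃ (q : ℕ) (a c : A), q.Prime ∧ orderOf a = q ∧ orderOf c = q ∧ c ∉ zpowers a := by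
  classical
  haveI := Fintype.ofFinite A
  by_contra hcon
  apply h
  have key : ∀ q : ℕ, q.Prime → Nat.card (powMonoidHom q : A →* A).ker ≤ q := by
    intro q hq
    haveI : Fact q.Prime := ⟨hq⟩
    by_cases hb : (powMonoidHom q : A →* A).ker = ⊥
    · rw [hb, card_bot]; exact hq.one_lt.le
    obtain ⟨a, ha, hane⟩ : ∃ a ∈ (powMonoidHom q : A →* A).ker, a ≠ 1 := by
      by_contra hall
      push Not at hall
      exact hb (eq_bot_iff.2 fun x hx => mem_bot.2 (hall x hx))
    have hoa : orderOf a = q := orderOf_eq_prime ha hane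
    have hle : (powMonoidHom q : A →* A).ker ≤ zpowers a := by
      intro c hc
      by_contra hca
      have hc1 : c ≠ 1 := fun e => hca (e ▸ one_mem _)
      exact hcon ⟨q, a, c, hq, hoa, orderOf_eq_prime hc hc1, hca⟩
    exact (card_le_of_le hle).trans (le_of_eq ((Nat.card_zpowers a).trans hoa))
  have hn : ∀ n : ℕ, 0 < n → Nat.card (powMonoidHom n : A →* A).ker ≤ n := by
    intro n
    induction n using Nat.strong_induction_on with
    | _ n ih =>
      intro hn0
      by_cases h1 : n = 1
      · subst h1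
        refine le_of_eq (card_eq_one.2 (eq_bot_iff.2 fun x hx => ?_))
        rw [MonoidHom.mem_ker, powMonoidHom_apply, pow_one] at hx
        exact mem_bot.2 hx
      obtain ⟨q, hq, m, rfl⟩ := Nat.exists_prime_and_dvd h1
      have hm0 : 0 < m := Nat.pos_of_mul_pos_left hn0
      have hmlt : m < q * m := lt_mul_of_one_lt_left hm0 hq.one_lt
      set K := (powMonoidHom (q * m) : A →* A).ker
      set f : K →* A := (powMonoidHom q).comp K.subtype with hf
      have h2 := card_eq_card_quotient_mul_card_subgroup f.ker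
      have h3 : Nat.card f.ker ≤ q := by
        refine le_trans ?_ (key q hq)
        refine Nat.card_le_card_of_injective
          (fun x : f.ker => (⟨((x : K) : A), x.2⟩ : (powMonoidHom q : A →* A).ker)) ?_
        intro x y e
        exact Subtype.ext (Subtype.ext (congrArg (fun z : (powMonoidHom q : A →* A).ker => (z : A)) e))
      have h4 : Nat.card (K ⧸ f.ker) ≤ m := by
        rw [Nat.card_congr (QuotientGroup.quotientKerEquivRange f).toEquiv]
        refine le_trans ?_ (ih m hmlt hm0)
        refine card_le_of_le ?_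
        rintro _ ⟨x, rfl⟩
        have hx : (x : A) ^ (q * m) = 1 := x.2
        show ((x : A) ^ q) ^ m = 1
        rwa [← pow_mul]
      rw [h2, mul_comm q m]
      exact Nat.mul_le_mul h4 h3
  refine isCyclic_of_card_pow_eq_one_le fun n hn0 => ?_
  refine le_trans (le_of_eq ?_) (hn n hn0)
  rw [Nat.card_eq_fintype_card, ← Fintype.card_subtype]
  exact Fintype.card_congr (Equiv.subtypeEquivRight fun x => by simp [MonoidHom.mem_ker])

/-- The partition identity for the lines through the origin of the affine plane over `ZMod q`. -/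
theorem prod_lines {M : Type*} [CommMonoid M] {q : ℕ} [Fact q.Prime] (F : ZMod q → ZMod q → M) :
    (∏ j, ∏ i, F i (i * j)) * ∏ k, F 0 k = F 0 0 ^ q * ∏ i, ∏ k, F i k := by
  rw [Finset.prod_comm, ← Finset.mul_prod_erase Finset.univ (fun i => ∏ j, F i (i * j))
    (Finset.mem_univ (0 : ZMod q)), ← Finset.mul_prod_erase Finset.univ (fun i => ∏ k, F i k)
    (Finset.mem_univ (0 : ZMod q))]
  simp only [zero_mul, Finset.prod_const, Finset.card_univ, ZMod.card]
  have hrest : ∏ i ∈ Finset.univ.erase (0 : ZMod q), ∏ j, F i (i * j) =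
      ∏ i ∈ Finset.univ.erase (0 : ZMod q), ∏ k, F i k := by
    refine Finset.prod_congr rfl fun i hi => ?_
    exact Fintype.prod_equiv (Equiv.mulLeft₀ i (Finset.ne_of_mem_erase hi)) _ _ fun j => rfl
  rw [hrest, mul_assoc, mul_comm (∏ i ∈ _, ∏ k, F i k)]

/-- A solvable group acted on coprimely by an elementary abelian group of order `q²` is generated
by the fixed points of its non-identity elements. -/
theorem le_of_pair [Finite G] {q : ℕ} [hq : Fact q.Prime] {a c : G} (ha : a ^ q = 1)
    (hc : c ^ q = 1) (hac : a * c = c * a) (hcn : c ∉ zpowers a) (hane : a ≠ 1)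
    (L : Subgroup G) (P : Subgroup G) (hsolv : Group.IsSolvable P)
    (hcop : q.Coprime (Nat.card P))
    (haP : a ∈ normalizer (P : Set G)) (hcP : c ∈ normalizer (P : Set G))
    (hL : ∀ b ∈ closure {a, c}, b ≠ 1 → P ⊓ centralizer {b} ≤ L) : P ≤ L := by
  haveI : NeZero q := ⟨hq.out.ne_zero⟩
  induction P using WellFoundedLT.induction with
  | ind P ih =>
    by_cases hbot : P = ⊥
    · rw [hbot]; exact bot_le
    have := hsolv
    haveI : Nontrivial P := (nontrivial_iff_ne_bot P).2 hbot
    have hD : ⁅P, P⁆ < P := by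
      have h1 := Group.IsSolvable.commutator_lt_top_of_nontrivial P
      rw [← map_subtype_commutator]
      refine lt_of_le_of_ne (map_subtype_le _) fun e => h1.ne (eq_top_iff.2 fun x _ => ?_)
      obtain ⟨y, hy, hyx⟩ : (x : G) ∈ (_root_.commutator P).map P.subtype := by rw [e]; exact x.2
      rwa [← Subtype.ext hyx]
    set D : Subgroup G := ⁅P, P⁆ with hDdef
    have hnorm : ∀ b ∈ normalizer (P : Set G), b ∈ normalizer (D : Set G) := fun b hb => by
      rw [mem_normalizer_iff_map_conj_eq, hDdef, Subgroup.map_commutator,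
        mem_normalizer_iff_map_conj_eq.1 hb]
    have hDsolv : Group.IsSolvable D :=
      Group.isSolvable_of_isSolvable_injective (f := inclusion hD.le) (inclusion_injective hD.le)
    have hDL : D ≤ L := ih D hD hDsolv (hcop.coprime_dvd_right (card_dvd_of_le hD.le))
      (hnorm a haP) (hnorm c hcP) fun b hb hne => (inf_le_inf_right _ hD.le).trans (hL b hb hne)
    let π : P →* Abelianization P := Abelianization.of
    have hker : ∀ x : P, π x = 1 → (x : G) ∈ D := by
      intro x hx
      have h1 : x ∈ commutator P := by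
        rw [← Abelianization.ker_of P]; exact hx
      rw [hDdef, ← map_subtype_commutator]
      exact ⟨x, h1, rfl⟩
    -- conjugation by elements of the normaliser
    let cj : normalizer (P : Set G) → P →* P := fun b =>
      ((MulAut.conj (b : G)).toMonoidHom.comp P.subtype).codRestrict P fun x =>
        mem_normalizer_conj b.2 x.2
    have hmem : ∀ (i k : ZMod q), a ^ i.val * c ^ k.val ∈ normalizer (P : Set G) := fun i k =>
      mul_mem (pow_mem haP _) (pow_mem hcP _)
    set T : Subgroup (Abelianization P) := (L.subgroupOf P).map π with hT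
    -- elements of `Abelianization P` fixed by a non-identity element lie in `T`
    have hfix : ∀ (b : normalizer (P : Set G)), (b : G) ∈ closure {a, c} → (b : G) ≠ 1 →
        (b : G) ^ q = 1 → ∀ m : Abelianization P, Abelianization.map (cj b) m = m → m ∈ T := by
      intro b hb hbne hbq m hm
      obtain ⟨y, rfl⟩ : ∃ y, π y = m := Quotient.inductionOn' m fun y => ⟨y, rfl⟩
      rw [Abelianization.map_of] at hm
      have hB : zpowers (b : G) ≤ normalizer (P : Set G) := zpowers_le.2 b.2
      have hBD : zpowers (b : G) ≤ normalizer (D : Set G) := zpowers_le.2 (hnorm _ b.2)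
      have hy : ∀ t ∈ zpowers (b : G), (y : G)⁻¹ * (t * y * t⁻¹) ∈ D := by
        let S : Subgroup G :=
          { carrier := {t | t ∈ normalizer (D : Set G) ∧ (y : G)⁻¹ * (t * y * t⁻¹) ∈ D}
            mul_mem' := fun {s t} hs ht => ⟨mul_mem hs.1 ht.1, by
              have h1 := mul_mem hs.2 (mem_normalizer_conj hs.1 ht.2)
              have e : (y : G)⁻¹ * (s * y * s⁻¹) * (s * ((y : G)⁻¹ * (t * y * t⁻¹)) * s⁻¹) =
                  (y : G)⁻¹ * (s * t * y * (s * t)⁻¹) := by group
              rwa [e] at h1⟩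
            one_mem' := ⟨one_mem _, by simp⟩
            inv_mem' := fun {s} hs => ⟨inv_mem hs.1, by
              have h1 := inv_mem (mem_normalizer_conj' hs.1 hs.2)
              have e : (s⁻¹ * ((y : G)⁻¹ * (s * y * s⁻¹)) * s)⁻¹ =
                  (y : G)⁻¹ * (s⁻¹ * y * s⁻¹⁻¹) := by group
              rwa [e] at h1⟩ }
        intro t ht
        refine ((zpowers_le (g := (b : G)) (H := S)).2 ⟨hnorm _ b.2, ?_⟩ ht).2
        have h2 : π (y⁻¹ * cj b y) = 1 := by
          rw [map_mul, map_inv]
          exact inv_mul_eq_one.2 hm.symm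
        exact hker _ h2
      have hcopb : (Nat.card (zpowers (b : G))).Coprime (Nat.card P) := by
        rw [Nat.card_zpowers]
        exact hcop.coprime_dvd_left (orderOf_dvd_of_pow_eq_one hbq)
      obtain ⟨z, hz, hzD⟩ := exists_centralizing_rep (zpowers (b : G)) P hB hcopb (Or.inr hsolv) D
        hD.le hBD y.2 hy
      have hzL : z ∈ L := hL b hb hbne ⟨hz.1, mem_centralizer_singleton_iff.2
        (mem_centralizer_iff.1 hz.2 b (mem_zpowers _)).symm⟩
      have hyL : (y : G) ∈ L := by
        have h3 := mul_mem hzL (inv_mem (hDL hzD))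
        rwa [show z * ((y : G)⁻¹ * z)⁻¹ = (y : G) by group] at h3
      exact ⟨y, hyL, rfl⟩
    intro x hx
    set m₀ : Abelianization P := π ⟨x, hx⟩
    let F : ZMod q → ZMod q → Abelianization P := fun i k =>
      π (cj ⟨_, hmem i k⟩ ⟨x, hx⟩)
    have hF00 : F 0 0 = m₀ := by
      refine congrArg π (Subtype.ext ?_)
      simp [cj]
    have hconj : ∀ (s t i k i' k' : ZMod q), i' = s + i → k' = t + k →
        Abelianization.map (cj ⟨_, hmem s t⟩) (F i k) = F i' k' := by
      intro s t i k i' k' hi hk
      simp only [F]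
      rw [Abelianization.map_of]
      refine congrArg π (Subtype.ext ?_)
      have hcomm : Commute (c ^ t.val) (a ^ i.val) := Commute.pow_pow (show Commute c a from hac.symm) _ _
      show (a ^ s.val * c ^ t.val) * ((a ^ i.val * c ^ k.val) * x * (a ^ i.val * c ^ k.val)⁻¹) *
          (a ^ s.val * c ^ t.val)⁻¹ = (a ^ i'.val * c ^ k'.val) * x * (a ^ i'.val * c ^ k'.val)⁻¹
      rw [hi, hk, pow_zmodVal_add ha, pow_zmodVal_add hc]
      have e : a ^ s.val * c ^ t.val * (a ^ i.val * c ^ k.val) =
          a ^ s.val * a ^ i.val * (c ^ t.val * c ^ k.val) := by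
        rw [mul_assoc, ← mul_assoc (c ^ t.val), hcomm.eq]; group
      rw [← e]; group
    have haB : a ∈ closure ({a, c} : Set G) := subset_closure (by simp)
    have hcB : c ∈ closure ({a, c} : Set G) := subset_closure (by simp)
    have hgen : ∀ (s t : ZMod q), a ^ s.val * c ^ t.val ∈ closure ({a, c} : Set G) := fun s t =>
      mul_mem (pow_mem haB _) (pow_mem hcB _)
    have hqpow : ∀ (s t : ZMod q), (a ^ s.val * c ^ t.val) ^ q = 1 := fun s t => by
      have h0 : Commute a c := hac
      have h1 : (a ^ s.val) ^ q = 1 := by rw [← pow_mul, mul_comm, pow_mul, ha, one_pow]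
      have h2 : (c ^ t.val) ^ q = 1 := by rw [← pow_mul, mul_comm, pow_mul, hc, one_pow]
      rw [(h0.pow_pow s.val t.val).mul_pow q, h1, h2, one_mul]
    have hne1 : ∀ j : ZMod q, a ^ (1 : ZMod q).val * c ^ j.val ≠ 1 := by
      intro j h
      haveI : Fact (1 < q) := ⟨hq.out.one_lt⟩
      rw [ZMod.val_one, pow_one] at h
      have hca : c ^ j.val ∈ zpowers a := by
        rw [eq_inv_of_mul_eq_one_right h]; exact inv_mem (mem_zpowers a)
      by_cases hj : j = 0
      · rw [hj, ZMod.val_zero, pow_zero, mul_one] at h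
        exact hane h
      · refine hcn ?_
        have : c = (c ^ j.val) ^ (j⁻¹).val := by
          rw [← pow_zmodVal_mul hc, inv_mul_cancel₀ hj, ZMod.val_one, pow_one]
        rw [this]
        exact pow_mem hca _
    have hlines : ∀ j : ZMod q, (∏ i, F i (i * j)) ∈ T := by
      intro j
      refine hfix ⟨_, hmem 1 j⟩ (hgen 1 j) (hne1 j) (hqpow 1 j) _ ?_
      rw [map_prod]
      exact Fintype.prod_equiv (Equiv.addLeft 1) _ _ fun i =>
        hconj 1 j i (i * j) (1 + i) ((1 + i) * j) rfl (by ring)
    have hvert : (∏ k, F 0 k) ∈ T := by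
      haveI : Fact (1 < q) := ⟨hq.out.one_lt⟩
      refine hfix ⟨_, hmem 0 1⟩ (hgen 0 1) ?_ (hqpow 0 1) _ ?_
      · show a ^ (0 : ZMod q).val * c ^ (1 : ZMod q).val ≠ 1
        rw [ZMod.val_zero, pow_zero, one_mul, ZMod.val_one, pow_one]
        exact fun e => hcn (e ▸ one_mem _)
      · rw [map_prod]
        exact Fintype.prod_equiv (Equiv.addLeft 1) _ _ fun k =>
          hconj 0 1 0 k 0 (1 + k) (by simp) rfl
    have hall : (∏ i, ∏ k, F i k) ∈ T := by
      refine hfix ⟨_, hmem 1 0⟩ (hgen 1 0) (hne1 0) (hqpow 1 0) _ ?_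
      rw [map_prod]
      refine Fintype.prod_equiv (Equiv.addLeft 1) _ _ fun i => ?_
      rw [map_prod]
      exact Finset.prod_congr rfl fun k _ => hconj 1 0 i k (1 + i) k rfl (by simp)
    have hpow : m₀ ^ q ∈ T := by
      have h1 : (∏ j, ∏ i, F i (i * j)) * ∏ k, F 0 k ∈ T :=
        mul_mem (prod_mem fun j _ => hlines j) hvert
      rw [prod_lines, hF00] at h1
      exact (T.mul_mem_cancel_right hall).1 h1
    have hm : m₀ ∈ T := by
      have hcop' : (orderOf m₀).Coprime q :=
        (hcop.symm).coprime_dvd_left ((orderOf_map_dvd π _).trans (orderOf_dvd_natCard _))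
      obtain ⟨k, hk⟩ := exists_pow_eq_self_of_coprime hcop'.symm
      rw [← hk]
      exact pow_mem hpow k
    obtain ⟨y, hy, hym⟩ := hm
    have h2 : ((⟨x, hx⟩ * y⁻¹ : P) : G) ∈ D := hker _ (by rw [map_mul, map_inv, hym, mul_inv_cancel])
    simpa using mul_mem (hDL h2) (show (y : G) ∈ L from hy)

/-- A noncyclic abelian group acting coprimely on `K`: the fixed points of its non-identity
elements generate `K`. -/
theorem iSup_centralizer_eq [Finite G] (A K : Subgroup G) [IsMulCommutative A] (hA : ¬ IsCyclic A)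
    (hAK : A ≤ normalizer (K : Set G)) (hcop : (Nat.card A).Coprime (Nat.card K)) :
    (⨆ a ∈ {a : G | a ∈ A ∧ a ≠ 1}, K ⊓ centralizer {a}) = K := by
  set L := ⨆ a ∈ {a : G | a ∈ A ∧ a ≠ 1}, K ⊓ centralizer {a} with hL
  refine le_antisymm (iSup₂_le fun a _ => inf_le_left) ?_
  letI : CommGroup A :=
    { (inferInstance : Group A) with mul_comm := fun a b => (IsMulCommutative.is_comm).comm a b }
  obtain ⟨q, a, c, hq, ha, hc, hca⟩ := exists_pair_of_not_cyclic hA
  haveI : Fact q.Prime := ⟨hq⟩
  have ha' : (a : G) ^ q = 1 := by rw [← ha, ← orderOf_coe, pow_orderOf_eq_one]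
  have hc' : (c : G) ^ q = 1 := by rw [← hc, ← orderOf_coe, pow_orderOf_eq_one]
  have hane : (a : G) ≠ 1 := fun e => hq.one_lt.ne' (by rw [← ha, ← orderOf_coe, e, orderOf_one])
  have hcn : (c : G) ∉ zpowers (a : G) := by
    rintro ⟨n, hn⟩
    exact hca ⟨n, Subtype.ext (by simpa using hn)⟩
  have hsolvA : Group.IsSolvable A := Group.isSolvable_of_comm fun x y => mul_comm x y
  refine subgroupOf_eq_top.1 (CfsgLib.Fitting.eq_top_of_forall_sylow_le fun p hp _ => ?_)
  haveI : Fact p.Prime := ⟨hp⟩
  obtain ⟨Q, hQ⟩ := exists_invariant_sylow A K hAK hcop (Or.inl hsolvA) p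
  set P := (Q : Subgroup K).map K.subtype with hP
  have hPK : P ≤ K := map_subtype_le _
  haveI := (Q.isPGroup'.map K.subtype).isNilpotent
  have hPsolv : Group.IsSolvable P := inferInstance
  have hqA : q ∣ Nat.card A := ha ▸ orderOf_dvd_natCard a
  have hle := le_of_pair (q := q) (a := (a : G)) (c := (c : G)) ha' hc'
    (congrArg Subtype.val (mul_comm a c)) hcn hane L P hPsolv
    ((hcop.coprime_dvd_left hqA).coprime_dvd_right (card_dvd_of_le hPK)) (hQ a.2) (hQ c.2)
    fun b hb hne => by
      refine le_trans (inf_le_inf_right _ hPK) ?_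
      have hbA : b ∈ A := (closure_le A).2 (Set.insert_subset a.2 (Set.singleton_subset_iff.2 c.2)) hb
      exact le_iSup₂ (f := fun a (_ : a ∈ {a : G | a ∈ A ∧ a ≠ 1}) => K ⊓ centralizer {a}) b ⟨hbA, hne⟩
  exact ⟨Q, map_le_iff_le_comap.1 hle⟩

/-- If the fixed points have prime index `p` then `[K, A]` has order `p`. -/
theorem card_commutator_of_index_prime [Finite G] (A K : Subgroup G)
    (hAK : A ≤ normalizer (K : Set G)) (hcop : (Nat.card A).Coprime (Nat.card K))
    (hsolv : Group.IsSolvable A ∨ Group.IsSolvable K) (p : ℕ) (hp : p.Prime)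
    (hidx : (K ⊓ centralizer (A : Set G)).relIndex K = p) :
    Nat.card (⁅K, A⁆ : Subgroup G) = p := by
  haveI : Fact p.Prime := ⟨hp⟩
  set C := K ⊓ centralizer (A : Set G) with hC
  obtain ⟨Q, hQ⟩ := exists_invariant_sylow A K hAK hcop hsolv p
  set P := (Q : Subgroup K).map K.subtype with hP
  have hPK : P ≤ K := map_subtype_le _
  have hPp : IsPGroup p P := Q.isPGroup'.map _
  have hne : ¬ P ≤ C := by
    intro hle
    have h1 : (Q : Subgroup K) ≤ C.subgroupOf K := map_le_iff_le_comap.1 hle
    apply Q.not_dvd_index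
    rw [← relIndex_mul_index h1]
    exact dvd_mul_of_dvd_right (by rw [show (C.subgroupOf K).index = p from hidx]) _
  set D := P ⊓ C with hD
  have hDP : D ≤ P := inf_le_left
  -- the index of `D` in `P` is `p`
  have hrle : C.relIndex P ≤ p := by
    rw [← hidx]
    exact Nat.card_le_card_of_injective _ (quotientSubgroupOfEmbeddingOfLE C hPK).injective
  have hrne : C.relIndex P ≠ 1 := fun h => hne (relIndex_eq_one.1 h)
  obtain ⟨k, hk⟩ := IsPGroup.iff_card.1 hPp
  have hrp : C.relIndex P = p := by
    have h1 : C.relIndex P ∣ p ^ k := hk ▸ index_dvd_card (C.subgroupOf P)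
    obtain ⟨j, -, hj⟩ := (Nat.dvd_prime_pow hp).1 h1
    rcases Nat.lt_or_ge j 2 with h2 | h2
    · rcases Nat.lt_or_ge j 1 with h3 | h3
      · exact absurd (by rw [hj, show j = 0 by omega, pow_zero]) hrne
      · rw [hj, show j = 1 by omega, pow_one]
    · exfalso
      rw [hj] at hrle
      have : p ^ 2 ≤ p ^ j := Nat.pow_le_pow_right hp.pos h2
      have : p < p ^ 2 := lt_self_pow₀ hp.one_lt (by norm_num)
      omega
  -- every element of `K` is a product of an element of `P` and one of `C`
  have hprod : ∀ x ∈ K, ∃ y ∈ P, y⁻¹ * x ∈ C := by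
    intro x hx
    have hbij : Function.Bijective (quotientSubgroupOfEmbeddingOfLE C hPK) :=
      Function.Injective.bijective_of_nat_card_le
        (quotientSubgroupOfEmbeddingOfLE C hPK).injective
        (le_of_eq (hidx.trans hrp.symm))
    obtain ⟨u, hu⟩ := hbij.2 (QuotientGroup.mk (⟨x, hx⟩ : K))
    obtain ⟨y, rfl⟩ := QuotientGroup.mk_surjective u
    rw [quotientSubgroupOfEmbeddingOfLE_apply_mk, QuotientGroup.eq] at hu
    exact ⟨y, y.2, hu⟩
  have hcomm : ⁅K, A⁆ = ⁅P, A⁆ := by
    refine le_antisymm (commutator_le.2 fun x hx a ha => ?_) (commutator_mono hPK le_rfl)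
    obtain ⟨y, hy, hyc⟩ := hprod x hx
    have hca : a * (y⁻¹ * x) = y⁻¹ * x * a := mem_centralizer_iff.1 hyc.2 a ha
    have e : ⁅x, a⁆ = ⁅y, a⁆ := by
      simp only [commutatorElement_def]
      have e1 : x = y * (y⁻¹ * x) := by group
      generalize y⁻¹ * x = c at e1 hca
      subst e1
      calc y * c * a * (y * c)⁻¹ * a⁻¹ = y * (c * a) * c⁻¹ * y⁻¹ * a⁻¹ := by group
        _ = y * (a * c) * c⁻¹ * y⁻¹ * a⁻¹ := by rw [hca]
        _ = y * a * y⁻¹ * a⁻¹ := by group
    rw [e]
    exact commutator_mem_commutator hy ha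
  rw [hcomm]
  have hDidx : (D.subgroupOf P).index = p := by
    rw [hD, inf_subgroupOf_left]; exact hrp
  have hk0 : k ≠ 0 := by
    rintro rfl
    rw [pow_zero] at hk
    exact hne ((eq_bot_of_card_eq P hk).trans_le bot_le)
  have hDn : (D.subgroupOf P).Normal := by
    apply normal_of_index_eq_minFac_card
    rw [hDidx, hk, Nat.pow_minFac hk0, hp.minFac_eq]
  have hDA : ⁅A, D⁆ = ⊥ := by
    rw [commutator_eq_bot_iff_le_centralizer]
    exact le_centralizer_iff.1 (inf_le_right.trans inf_le_right)
  have hDP' : ⁅D, P⁆ ≤ D :=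
    commutator_le_of_normalizes ((normal_subgroupOf_iff_le_normalizer hDP).1 hDn)
  have h3 : ⁅⁅P, A⁆, D⁆ = ⊥ := by
    refine commutator_commutator_eq_bot_of_rotate ?_ ?_
    · rw [hDA, commutator_bot_left]
    · rw [commutator_eq_bot_iff_le_centralizer]
      exact hDP'.trans (inf_le_right.trans inf_le_right)
  set R := ⁅P, A⁆ with hR
  have hRP : R ≤ P := commutator_le_of_normalizes hQ
  have hDR : ∀ r ∈ R, ∀ d ∈ D, r * d = d * r := fun r hr d hd =>
    (mem_centralizer_iff.1 (commutator_eq_bot_iff_le_centralizer.1 h3 hr) d hd).symm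
  -- `R` is abelian
  haveI : IsCyclic (P ⧸ D.subgroupOf P) := isCyclic_of_prime_card (p := p) hDidx
  set f : R →* P ⧸ D.subgroupOf P := (QuotientGroup.mk' _).comp (inclusion hRP) with hf
  have hker : f.ker ≤ center R := fun x hx => by
    have hxD : (x : G) ∈ D := (QuotientGroup.eq_one_iff (inclusion hRP x)).1 hx
    rw [mem_center_iff]
    exact fun y => Subtype.ext (hDR y y.2 x hxD)
  haveI : IsMulCommutative R := f.isMulCommutative_of_isCyclic_of_ker_le_center hker
  have hcop' : (Nat.card A).Coprime (Nat.card P) := hcop.coprime_dvd_right (card_dvd_of_le hPK)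
  haveI := hPp.isNilpotent
  have hPsolv : Group.IsSolvable P := inferInstance
  have hRR : ⁅R, A⁆ = R := commutator_commutator_eq A P hQ hcop' (Or.inr hPsolv)
  have hbot : R ⊓ centralizer (A : Set G) = ⊥ := by
    have := commutator_inf_centralizer_eq_bot A R (le_normalizer_commutator_right P A)
      (hcop'.coprime_dvd_right (card_dvd_of_le hRP))
    rwa [hRR] at this
  have hinj : Function.Injective f := by
    rw [← MonoidHom.ker_eq_bot_iff, eq_bot_iff]
    intro x hx
    have hxD : (x : G) ∈ D := (QuotientGroup.eq_one_iff (inclusion hRP x)).1 hx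
    exact Subtype.ext (mem_bot.1 (hbot ▸ (⟨x.2, hxD.2.2⟩ : (x : G) ∈ R ⊓ centralizer (A : Set G))))
  have hdvd : Nat.card R ∣ p := hDidx ▸ card_dvd_of_injective f hinj
  refine (hp.eq_one_or_self_of_dvd _ hdvd).resolve_left fun h1 => hne ?_
  have hb : R = ⊥ := card_eq_one.1 h1
  rw [hR, commutator_eq_bot_iff_le_centralizer] at hb
  exact le_inf hPK hb

end CfsgLib.CoprimeGeneration
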