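import Mathlib
import Cfsg.Prelude.Def_SolvableStructure
import Cfsg.Agent.Lib.Solvable.MinNormal

/-!
Supersolvable groups.
-/

set_option autoImplicit false

namespace CfsgLib.Supersolvable

open Subgroup

universe u v

variable {G : Type u} [Group G] {G' : Type v} [Group G']

theorem of_subsingleton [Subsingleton G] : Cfsg.IsSupersolvable G :=
  ⟨0, fun _ => ⊥, rfl, Subsingleton.elim _ _, fun _ => normal_bot, fun i => i.elim0⟩

theorem of_surjective (h : Cfsg.IsSupersolvable G) (f : G →* G') (hf : Function.Surjective f) :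
    Cfsg.IsSupersolvable G' := by
  obtain ⟨n, H, h0, hl, hn, hs⟩ := h
  refine ⟨n, fun i => (H i).map f, by simp [h0], ?_, fun i => (hn i).map f hf, fun i => ?_⟩
  · simp [hl, map_top_of_surjective f hf]
  · obtain ⟨g, hg⟩ := hs i
    exact ⟨f g, by simp [hg, Subgroup.map_sup, MonoidHom.map_zpowers]⟩

theorem of_mulEquiv (h : Cfsg.IsSupersolvable G) (e : G ≃* G') : Cfsg.IsSupersolvable G' :=
  of_surjective h e.toMonoidHom e.surjective

theorem of_injective (h : Cfsg.IsSupersolvable G) (f : G' →* G) (hf : Function.Injective f) :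
    Cfsg.IsSupersolvable G' := by
  obtain ⟨n, H, h0, hl, hn, hs⟩ := h
  refine ⟨n, fun i => (H i).comap f, ?_, by simp [hl], fun i => (hn i).comap f, fun i => ?_⟩
  · simp only [h0]
    exact (MonoidHom.ker_eq_bot_iff f).2 hf
  obtain ⟨g, hg⟩ := hs i
  have := hn i.castSucc
  let π := (QuotientGroup.mk' (H i.castSucc)).comp f
  have hle : ((H i.succ).comap f).map π ≤ zpowers (QuotientGroup.mk' (H i.castSucc) g) := by
    rw [map_le_iff_le_comap]
    intro x hx
    have hx' : f x ∈ H i.castSucc ⊔ zpowers g := hg ▸ hx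
    obtain ⟨a, ha, b, hb, hab⟩ := mem_sup_of_normal_left.1 hx'
    obtain ⟨k, rfl⟩ := mem_zpowers_iff.1 hb
    refine mem_zpowers_iff.2 ⟨k, ?_⟩
    have ha1 : QuotientGroup.mk' (H i.castSucc) a = 1 := (QuotientGroup.eq_one_iff a).2 ha
    simp only [π, MonoidHom.comp_apply, ← hab, map_mul, map_zpow, ha1, one_mul]
  have : IsCyclic (((H i.succ).comap f).map π) := isCyclic_of_le hle
  obtain ⟨y, hy⟩ := (Subgroup.isCyclic_iff_exists_zpowers_eq_top _).1 this
  have hymem : y ∈ ((H i.succ).comap f).map π := hy ▸ mem_zpowers y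
  obtain ⟨x, hx, rfl⟩ := hymem
  have hker : π.ker = (H i.castSucc).comap f := by
    rw [← MonoidHom.comap_ker, QuotientGroup.ker_mk']
  have hle' : (H i.castSucc).comap f ≤ (H i.succ).comap f := comap_mono (hg ▸ le_sup_left)
  refine ⟨x, le_antisymm ?_ (sup_le hle' (zpowers_le.2 hx))⟩
  intro z hz
  have h1 : π z ∈ zpowers (π x) := hy.symm ▸ mem_map_of_mem π hz
  obtain ⟨k, hk⟩ := mem_zpowers_iff.1 h1
  have h2 : z * (x ^ k)⁻¹ ∈ (H i.castSucc).comap f := by
    rw [← hker, MonoidHom.mem_ker, map_mul, map_inv, map_zpow, hk, mul_inv_cancel]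
  simpa using mul_mem_sup h2 (zpow_mem (mem_zpowers x) k)

theorem subgroup (h : Cfsg.IsSupersolvable G) (K : Subgroup G) : Cfsg.IsSupersolvable K :=
  of_injective h K.subtype K.subtype_injective

theorem quotient (h : Cfsg.IsSupersolvable G) (N : Subgroup G) [N.Normal] :
    Cfsg.IsSupersolvable (G ⧸ N) :=
  of_surjective h (QuotientGroup.mk' N) (QuotientGroup.mk'_surjective N)

theorem of_cyclic_normal_quotient (N : Subgroup G) [N.Normal] [IsCyclic N]
    (h : Cfsg.IsSupersolvable (G ⧸ N)) : Cfsg.IsSupersolvable G := by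
  obtain ⟨n, H, h0, hl, hn, hs⟩ := h
  set π := QuotientGroup.mk' N with hπ
  have hπs : Function.Surjective π := QuotientGroup.mk'_surjective N
  refine ⟨n + 1, Fin.cons ⊥ (fun i => (H i).comap π), rfl, ?_, ?_, ?_⟩
  · rw [← Fin.succ_last, Fin.cons_succ]
    simp [hl]
  · intro i
    refine Fin.cases ?_ ?_ i
    · exact normal_bot
    · intro j
      rw [Fin.cons_succ]
      exact (hn j).comap π
  · intro i
    refine Fin.cases ?_ ?_ i
    · obtain ⟨g, hg⟩ := (Subgroup.isCyclic_iff_exists_zpowers_eq_top N).1 inferInstance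
      refine ⟨g, ?_⟩
      simp only [Fin.cons_succ, Fin.castSucc_zero, Fin.cons_zero, bot_sup_eq, h0, MonoidHom.comap_bot]
      rw [hπ, QuotientGroup.ker_mk', hg]
    · intro j
      obtain ⟨q, hq⟩ := hs j
      obtain ⟨g, rfl⟩ := hπs q
      refine ⟨g, ?_⟩
      rw [Fin.castSucc_succ, Fin.cons_succ, Fin.cons_succ, hq]
      apply map_injective_of_ker_le π
      · exact ker_le_comap π _
      · exact (ker_le_comap π _).trans le_sup_left
      · rw [map_comap_eq_self_of_surjective hπs, Subgroup.map_sup,
          map_comap_eq_self_of_surjective hπs, MonoidHom.map_zpowers]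

/-- A normal subgroup of prime order is cyclic. -/
theorem isCyclic_of_card_prime {N : Subgroup G} {p : ℕ} (hp : p.Prime) (h : Nat.card N = p) :
    IsCyclic N :=
  haveI : Fact p.Prime := ⟨hp⟩
  isCyclic_of_prime_card h

theorem normal_of_mulEquiv_prime {N : Subgroup G} [N.Normal] [Finite G] {p : ℕ} [Fact p.Prime]
    (P : Sylow p N) (hP : (P : Subgroup N).Normal) : ((P : Subgroup N).map N.subtype).Normal := by
  have := P.characteristic_of_normal hP
  infer_instance

theorem card_map_subtype {N : Subgroup G} (K : Subgroup N) :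
    Nat.card (K.map N.subtype) = Nat.card K :=
  Nat.card_congr (equivMapOfInjective K N.subtype N.subtype_injective).toEquiv.symm

/-- A subgroup of prime order of a cyclic normal subgroup is normal. -/
theorem exists_normal_prime_le [Finite G] {N : Subgroup G} (hN : N.Normal) (hc : IsCyclic N)
    (hne : N ≠ ⊥) : ∃ (p : ℕ) (M : Subgroup G), p.Prime ∧ M.Normal ∧ M ≤ N ∧ Nat.card M = p := by
  obtain ⟨M, hM, hMN⟩ := CfsgLib.MinNormal.exists_isMinNormal_le hN hne
  have : IsCyclic M := isCyclic_of_le hMN
  obtain ⟨p, hp, hel, -, k, hk, hcard⟩ := hM.exists_prime_elementaryAbelian inferInstance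
  refine ⟨p, M, hp, hM.1, hMN, ?_⟩
  obtain ⟨g, hg⟩ := IsCyclic.exists_generator (α := M)
  have h1 : orderOf g = Nat.card M := orderOf_eq_card_of_forall_mem_zpowers hg
  have h2 : orderOf g ∣ p := by
    rw [orderOf_dvd_iff_pow_eq_one]
    exact Subtype.ext (by simpa using hel.2 g g.2)
  rcases hp.eq_one_or_self_of_dvd _ h2 with h | h
  · rw [h, hcard] at h1
    exact absurd h1.symm (Nat.one_lt_pow hk.ne' hp.one_lt).ne'
  · rw [← h1, h]

theorem exists_normal_prime [Finite G] [Nontrivial G] (h : Cfsg.IsSupersolvable G) :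
    ∃ (p : ℕ) (M : Subgroup G), p.Prime ∧ M.Normal ∧ Nat.card M = p := by
  obtain ⟨n, H, h0, hl, hn, hs⟩ := h
  by_contra hcon
  have : ∀ i, H i = ⊥ := by
    intro i
    refine Fin.induction h0 (fun i ih => ?_) i
    by_contra hne
    obtain ⟨g, hg⟩ := hs i
    have hc : IsCyclic (H i.succ) := by
      rw [hg, ih, bot_sup_eq]
      infer_instance
    obtain ⟨p, M, hp, hM, -, hc'⟩ := exists_normal_prime_le (hn i.succ) hc hne
    exact hcon ⟨p, M, hp, hM, hc'⟩
  exact bot_ne_top ((this (Fin.last n)).symm.trans hl)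

theorem card_quotient_lt [Finite G] {N : Subgroup G} (hN : N ≠ ⊥) :
    Nat.card (G ⧸ N) < Nat.card G := by
  rw [Subgroup.card_eq_card_quotient_mul_card_subgroup N]
  exact lt_mul_of_one_lt_right Nat.card_pos ((one_lt_card_iff_ne_bot N).2 hN)

theorem ne_bot_of_card_prime {N : Subgroup G} {p : ℕ} (hp : p.Prime) (h : Nat.card N = p) :
    N ≠ ⊥ := by
  rintro rfl
  rw [card_bot] at h
  exact hp.one_lt.ne h

theorem isSolvable [Finite G] (h : Cfsg.IsSupersolvable G) : Group.IsSolvable G := by
  induction hn : Nat.card G using Nat.strong_induction_on generalizing G with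
  | _ n ih =>
    subst hn
    rcases subsingleton_or_nontrivial G with h' | h'
    · infer_instance
    obtain ⟨p, N, hp, hN, hcard⟩ := exists_normal_prime h
    rw [Group.isSolvable_iff_subgroup_quotient N]
    have : IsCyclic N := isCyclic_of_card_prime hp hcard
    refine ⟨Group.isSolvable_of_comm fun a b => mul_comm' a b, ?_⟩
    exact ih _ (card_quotient_lt (ne_bot_of_card_prime hp hcard)) (quotient h N) rfl

theorem prod {H : Type v} [Group H] [Finite G] (hG : Cfsg.IsSupersolvable G)
    (hH : Cfsg.IsSupersolvable H) : Cfsg.IsSupersolvable (G × H) := by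
  induction hn : Nat.card G using Nat.strong_induction_on generalizing G with
  | _ n ih =>
    subst hn
    rcases subsingleton_or_nontrivial G with h' | h'
    · exact of_surjective hH (MonoidHom.inr G H) fun x => ⟨x.2, Prod.ext (Subsingleton.elim _ _) rfl⟩
    obtain ⟨p, N, hp, hN, hcard⟩ := exists_normal_prime hG
    let f : G × H →* (G ⧸ N) × H := (QuotientGroup.mk' N).prodMap (MonoidHom.id H)
    have hf : Function.Surjective f := fun x => by
      obtain ⟨g, hg⟩ := QuotientGroup.mk'_surjective N x.1
      exact ⟨(g, x.2), Prod.ext hg rfl⟩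
    have hker : f.ker = N.prod ⊥ := by
      rw [MonoidHom.ker_prodMap, QuotientGroup.ker_mk', MonoidHom.ker_id]
    have : IsCyclic f.ker := by
      refine isCyclic_of_card_dvd_prime (p := p) (hp := ⟨hp⟩) ?_
      rw [hker, Nat.card_congr (N.prodEquiv ⊥).toEquiv, Nat.card_prod, card_bot, hcard, mul_one]
    exact of_cyclic_normal_quotient f.ker (of_mulEquiv
      (ih _ (card_quotient_lt (ne_bot_of_card_prime hp hcard)) (quotient hG N) rfl)
      (QuotientGroup.quotientKerEquivOfSurjective f hf).symm)

/-- `G' ` centralises every cyclic normal subgroup. -/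
theorem commutator_le_centralizer_of_cyclic (N : Subgroup G) [N.Normal] [IsCyclic N] :
    commutator G ≤ centralizer (N : Set G) := by
  obtain ⟨g₀, hg₀⟩ := (Subgroup.isCyclic_iff_exists_zpowers_eq_top N).1 inferInstance
  have hex : ∀ z : G, ∃ i : ℤ, g₀ ^ i = z * g₀ * z⁻¹ := fun z =>
    mem_zpowers_iff.1 (hg₀.symm ▸ Normal.conj_mem inferInstance g₀ (hg₀ ▸ mem_zpowers g₀) z)
  have e : ∀ z : G, ∀ k : ℤ, z * g₀ ^ k * z⁻¹ = (z * g₀ * z⁻¹) ^ k := fun z k => (conj_zpow).symm
  have key : ∀ x y : G, (x * y) * g₀ * (x * y)⁻¹ = (y * x) * g₀ * (y * x)⁻¹ := by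
    intro x y
    obtain ⟨i, hi⟩ := hex x
    obtain ⟨j, hj⟩ := hex y
    have h1 : (x * y) * g₀ * (x * y)⁻¹ = x * (y * g₀ * y⁻¹) * x⁻¹ := by group
    have h2 : (y * x) * g₀ * (y * x)⁻¹ = y * (x * g₀ * x⁻¹) * y⁻¹ := by group
    rw [h1, h2, ← hj, ← hi, e, e, ← hi, ← hj, ← zpow_mul, ← zpow_mul, mul_comm i]
  rw [commutator_def, commutator_le]
  intro x _ y _ m hm
  rw [SetLike.mem_coe, ← hg₀, mem_zpowers_iff] at hm
  obtain ⟨k, rfl⟩ := hm
  have hc : Commute (x * y * x⁻¹ * y⁻¹) g₀ := by
    have h := key x⁻¹ y⁻¹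
    show x * y * x⁻¹ * y⁻¹ * g₀ = g₀ * (x * y * x⁻¹ * y⁻¹)
    have h' := congrArg (fun t => (x * y) * t * (x⁻¹ * y⁻¹)) h
    simpa [mul_assoc] using h'
  rw [commutatorElement_def]
  exact (hc.zpow_right k).symm.eq

theorem commutator_isNilpotent [Finite G] (h : Cfsg.IsSupersolvable G) :
    Group.IsNilpotent (commutator G) := by
  induction hn : Nat.card G using Nat.strong_induction_on generalizing G with
  | _ n ih =>
    subst hn
    rcases subsingleton_or_nontrivial G with h' | h'
    · infer_instance
    obtain ⟨p, N, hp, hN, hcard⟩ := exists_normal_prime h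
    have : IsCyclic N := isCyclic_of_card_prime hp hcard
    have hnil := ih _ (card_quotient_lt (ne_bot_of_card_prime hp hcard)) (quotient h N) rfl
    have hmap : (commutator G).map (QuotientGroup.mk' N) = commutator (G ⧸ N) := by
      rw [commutator_def, commutator_def, Subgroup.map_commutator,
        map_top_of_surjective _ (QuotientGroup.mk'_surjective N)]
    let f : commutator G →* commutator (G ⧸ N) :=
      ((QuotientGroup.mk' N).comp (commutator G).subtype).codRestrict _ fun x =>
        hmap ▸ mem_map_of_mem _ x.2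
    refine Subgroup.isNilpotent_of_ker_le_center f (fun x hx => ?_)
    rw [mem_center_iff]
    intro y
    have hxN : (x : G) ∈ N := (QuotientGroup.eq_one_iff _).1 (congrArg Subtype.val hx)
    exact Subtype.ext ((commutator_le_centralizer_of_cyclic N y.2) x hxN).symm

theorem prime_index_of_isCoatom [Finite G] (h : Cfsg.IsSupersolvable G) {M : Subgroup G}
    (hM : IsCoatom M) : M.index.Prime := by
  induction hn : Nat.card G using Nat.strong_induction_on generalizing G with
  | _ n ih =>
    subst hn
    have : Nontrivial G := by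
      by_contra h'
      rw [not_nontrivial_iff_subsingleton] at h'
      exact hM.1 (Subsingleton.elim _ _)
    obtain ⟨p, N, hp, hN, hcard⟩ := exists_normal_prime h
    by_cases hle : N ≤ M
    · have hker : (QuotientGroup.mk' N).ker ≤ M := by rwa [QuotientGroup.ker_mk']
      have hcm := comap_map_eq_self hker
      have hM' : IsCoatom (M.map (QuotientGroup.mk' N)) := by
        constructor
        · intro e
          apply hM.1
          rw [← hcm, e, comap_top]
        · intro K hK
          have h1 : M < K.comap (QuotientGroup.mk' N) := by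
            rw [← hcm]
            exact (comap_lt_comap_of_surjective (QuotientGroup.mk'_surjective N)).2 hK
          have h2 := congrArg (map (QuotientGroup.mk' N)) (hM.2 _ h1)
          rwa [map_comap_eq_self_of_surjective (QuotientGroup.mk'_surjective N),
            map_top_of_surjective _ (QuotientGroup.mk'_surjective N)] at h2
      have := ih _ (card_quotient_lt (ne_bot_of_card_prime hp hcard)) (quotient h N) hM' rfl
      rwa [index_map_eq _ (QuotientGroup.mk'_surjective N) hker] at this
    · have hc : IsMulCommutative N := by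
        have := isCyclic_of_card_prime hp hcard
        infer_instance
      have hmin : CfsgLib.MinNormal.IsMinNormal N := by
        refine ⟨hN, ne_bot_of_card_prime hp hcard, fun K _ hK => ?_⟩
        rcases hp.eq_one_or_self_of_dvd _ (hcard ▸ card_dvd_of_le hK) with h1 | h1
        · exact Or.inl (card_eq_one.1 h1)
        · exact Or.inr (eq_of_le_of_card_ge hK (by rw [h1, hcard]))
      rw [(hmin.isComplement'_of_isCoatom hc hM hle).index_eq_card, hcard]
      exact hp

/-- A supersolvable group has a normal subgroup whose order is the largest prime divisor. -/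
theorem exists_normal_max_prime [Finite G] (h : Cfsg.IsSupersolvable G) {p : ℕ} (hp : p.Prime)
    (hdvd : p ∣ Nat.card G) (hmax : ∀ q : ℕ, q.Prime → q ∣ Nat.card G → q ≤ p) :
    ∃ M : Subgroup G, M.Normal ∧ Nat.card M = p := by
  induction hn : Nat.card G using Nat.strong_induction_on generalizing G with
  | _ n ih =>
    subst hn
    have : Nontrivial G :=
      Finite.one_lt_card_iff_nontrivial.1
        (lt_of_lt_of_le hp.one_lt (Nat.le_of_dvd Nat.card_pos hdvd))
    obtain ⟨q, N, hq, hN, hcard⟩ := exists_normal_prime h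
    by_cases hqp : q = p
    · exact ⟨N, hN, hqp ▸ hcard⟩
    have hmul := Subgroup.card_eq_card_quotient_mul_card_subgroup N
    rw [hcard] at hmul
    have hpq : p ∣ Nat.card (G ⧸ N) :=
      (hp.dvd_mul.1 (hmul ▸ hdvd)).resolve_right fun h' =>
        hqp ((Nat.prime_dvd_prime_iff_eq hp hq).1 h').symm
    obtain ⟨M, hM, hMc⟩ := ih _ (card_quotient_lt (ne_bot_of_card_prime hq hcard)) (quotient h N)
      hpq (fun r hr hrd => hmax r hr (hrd.trans ⟨q, hmul⟩)) rfl
    set K := M.comap (QuotientGroup.mk' N) with hK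
    have : K.Normal := hM.comap _
    have hKc : Nat.card K = p * q := by
      have h1 := K.card_mul_index
      rw [hK, index_comap_of_surjective _ (QuotientGroup.mk'_surjective N)] at h1
      have h2 := M.card_mul_index
      rw [hMc] at h2
      have h3 : M.index ≠ 0 := index_ne_zero_of_finite
      apply mul_right_cancel₀ h3
      rw [h1, hmul, ← h2]; ring
    have : Fact p.Prime := ⟨hp⟩
    obtain ⟨P⟩ := (inferInstance : Nonempty (Sylow p K))
    have hlt : q < p :=
      lt_of_le_of_ne (hmax q hq (hcard ▸ card_subgroup_dvd_card N)) hqp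
    have hPc : Nat.card P = p := by
      rw [P.card_eq_multiplicity, hKc, Nat.factorization_mul hp.ne_zero hq.ne_zero,
        Finsupp.add_apply, hp.factorization_self, hq.factorization, Finsupp.single_eq_of_ne (Ne.symm hqp),
        add_zero, pow_one]
    have hidx : (P : Subgroup K).index = q := by
      have := (P : Subgroup K).card_mul_index
      rw [hKc, hPc] at this
      exact mul_left_cancel₀ hp.ne_zero this
    have hPn : (P : Subgroup K).Normal := by
      apply normal_of_index_eq_minFac_card
      rw [hidx, hKc]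
      have hne1 : p * q ≠ 1 := fun e => hp.one_lt.ne' (Nat.eq_one_of_mul_eq_one_right e)
      refine le_antisymm ?_ (Nat.minFac_le_of_dvd hq.two_le (dvd_mul_left q p))
      rcases (Nat.Prime.dvd_mul (Nat.minFac_prime hne1)).1 (Nat.minFac_dvd (p * q)) with h' | h'
      · rw [(Nat.prime_dvd_prime_iff_eq (Nat.minFac_prime hne1) hp).1 h']
        exact hlt.le
      · rw [(Nat.prime_dvd_prime_iff_eq (Nat.minFac_prime hne1) hq).1 h']
    exact ⟨_, normal_of_mulEquiv_prime P hPn, (card_map_subtype _).trans hPc⟩

theorem exists_max_prime {n : ℕ} (hn : 1 < n) :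
    ∃ p : ℕ, p.Prime ∧ p ∣ n ∧ ∀ q : ℕ, q.Prime → q ∣ n → q ≤ p := by
  have hne : n.primeFactors.Nonempty := Nat.nonempty_primeFactors.2 hn
  refine ⟨_, Nat.prime_of_mem_primeFactors (Finset.max'_mem _ hne),
    Nat.dvd_of_mem_primeFactors (Finset.max'_mem _ hne), fun q hq hqd => ?_⟩
  exact Finset.le_max' _ q (Nat.mem_primeFactors.2 ⟨hq, hqd, by omega⟩)

theorem exists_chief_series [Finite G] (h : Cfsg.IsSupersolvable G) :
    ∃ (n : ℕ) (H : Fin (n + 1) → Subgroup G), H 0 = ⊥ ∧ H (Fin.last n) = ⊤ ∧
      (∀ i, (H i).Normal) ∧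
      (∀ i : Fin n, H i.castSucc ≤ H i.succ ∧ ((H i.castSucc).relIndex (H i.succ)).Prime) ∧
      ∀ i j : Fin n, i ≤ j →
        (H j.castSucc).relIndex (H j.succ) ≤ (H i.castSucc).relIndex (H i.succ) := by
  induction hn : Nat.card G using Nat.strong_induction_on generalizing G with
  | _ n ih =>
    subst hn
    rcases subsingleton_or_nontrivial G with h' | h'
    · exact ⟨0, fun _ => ⊥, rfl, Subsingleton.elim _ _, fun _ => normal_bot, fun i => i.elim0,
        fun i => i.elim0⟩
    obtain ⟨p, hp, hpd, hmax⟩ := exists_max_prime (Finite.one_lt_card (α := G))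
    obtain ⟨N, hN, hcard⟩ := exists_normal_max_prime h hp hpd hmax
    obtain ⟨m, H, h0, hl, hn', hs, hd⟩ :=
      ih _ (card_quotient_lt (ne_bot_of_card_prime hp hcard)) (quotient h N) rfl
    set π := QuotientGroup.mk' N with hπ
    have hπs : Function.Surjective π := QuotientGroup.mk'_surjective N
    have hrel : ∀ i : Fin m, ((H i.castSucc).comap π).relIndex ((H i.succ).comap π) =
        (H i.castSucc).relIndex (H i.succ) := fun i => by
      rw [relIndex_comap, map_comap_eq_self_of_surjective hπs]
    have hfirst : (⊥ : Subgroup G).relIndex ((H 0).comap π) = p := by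
      rw [relIndex_bot_left, h0, MonoidHom.comap_bot, hπ, QuotientGroup.ker_mk', hcard]
    refine ⟨m + 1, Fin.cons ⊥ (fun i => (H i).comap π), rfl, ?_, ?_, ?_, ?_⟩
    · rw [← Fin.succ_last, Fin.cons_succ]
      simp [hl]
    · intro i
      refine Fin.cases ?_ ?_ i
      · exact normal_bot
      · intro j
        rw [Fin.cons_succ]
        exact (hn' j).comap π
    · intro i
      refine Fin.cases ?_ ?_ i
      · simp only [Fin.cons_succ, Fin.castSucc_zero, Fin.cons_zero, bot_le, true_and]
        rw [hfirst]
        exact hp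
      · intro j
        rw [Fin.castSucc_succ, Fin.cons_succ, Fin.cons_succ, hrel]
        exact ⟨comap_mono (hs j).1, (hs j).2⟩
    · intro i
      refine Fin.cases ?_ ?_ i
      · intro j _
        refine Fin.cases ?_ ?_ j
        · exact le_rfl
        · intro j'
          simp only [Fin.cons_succ, Fin.castSucc_zero, Fin.cons_zero, Fin.castSucc_succ]
          rw [hrel, hfirst]
          refine hmax _ (hs j').2 ?_
          exact ((relIndex_dvd_index_of_le (hs j').1).trans (index_dvd_card _)).trans
            (card_quotient_dvd_card N)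
      · intro i' j
        refine Fin.cases ?_ ?_ j
        · intro hle
          exact absurd hle (by simp)
        · intro j' hle
          rw [Fin.castSucc_succ, Fin.castSucc_succ, Fin.cons_succ, Fin.cons_succ, Fin.cons_succ,
            Fin.cons_succ, hrel, hrel]
          exact hd i' j' (Fin.succ_le_succ_iff.1 hle)

theorem hasSubgroupOfEveryOrder [Finite G] (h : Cfsg.IsSupersolvable G) :
    Cfsg.HasSubgroupOfEveryOrder G := by
  induction hn : Nat.card G using Nat.strong_induction_on generalizing G with
  | _ n ih =>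
    subst hn
    intro d hd
    rcases subsingleton_or_nontrivial G with h' | h'
    · rw [Nat.card_unique, Nat.dvd_one] at hd
      exact ⟨⊥, by rw [hd, card_bot]⟩
    obtain ⟨p, hp, hpd, hmax⟩ := exists_max_prime (Finite.one_lt_card (α := G))
    obtain ⟨N, hN, hcard⟩ := exists_normal_max_prime h hp hpd hmax
    have hmul := Subgroup.card_eq_card_quotient_mul_card_subgroup N
    rw [hcard] at hmul
    have hq := ih _ (card_quotient_lt (ne_bot_of_card_prime hp hcard)) (quotient h N) rfl
    have lift : ∀ L : Subgroup (G ⧸ N),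
        Nat.card (L.comap (QuotientGroup.mk' N)) = Nat.card L * p := by
      intro L
      have h1 := (L.comap (QuotientGroup.mk' N)).card_mul_index
      rw [index_comap_of_surjective _ (QuotientGroup.mk'_surjective N)] at h1
      apply mul_right_cancel₀ (index_ne_zero_of_finite (H := L))
      rw [h1, hmul, ← L.card_mul_index]; ring
    by_cases hpdd : p ∣ d
    · obtain ⟨e, rfl⟩ := hpdd
      rw [hmul, mul_comm _ p] at hd
      obtain ⟨L, hL⟩ := hq e (Nat.dvd_of_mul_dvd_mul_left hp.pos hd)
      exact ⟨L.comap (QuotientGroup.mk' N), by rw [lift, hL, mul_comm]⟩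
    · have hcop : Nat.Coprime p d := hp.coprime_iff_not_dvd.2 hpdd
      rw [hmul] at hd
      obtain ⟨L, hL⟩ := hq d (hcop.symm.dvd_of_dvd_mul_right hd)
      set K := L.comap (QuotientGroup.mk' N) with hK
      have hNK : N ≤ K := fun x hx => by
        show QuotientGroup.mk' N x ∈ L
        rw [QuotientGroup.mk'_apply, (QuotientGroup.eq_one_iff x).2 hx]
        exact one_mem L
      have hNc : Nat.card (N.subgroupOf K) = p :=
        (Nat.card_congr (subgroupOfEquivOfLe hNK).toEquiv).trans hcard
      have hKc : Nat.card K = d * p := by rw [lift, hL]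
      have hidx : (N.subgroupOf K).index = d := by
        have := (N.subgroupOf K).card_mul_index
        rw [hNc, hKc, mul_comm d] at this
        exact mul_left_cancel₀ hp.ne_zero this
      obtain ⟨R, hR⟩ := exists_right_complement'_of_coprime (N := N.subgroupOf K)
        (by rw [hNc, hidx]; exact hcop)
      refine ⟨R.map K.subtype, ?_⟩
      rw [card_map_subtype, ← hR.symm.index_eq_card, hidx]

end CfsgLib.Supersolvable
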