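import Mathlib
import Cfsg.Agent.Lib.Frobenius.Basic
import Cfsg.Agent.Lib.Frobenius.Action
import Cfsg.Agent.Lib.SubgroupCount.Basic
import Cfsg.Agent.Lib.Solvable.Supersolvable
import Cfsg.Agent.Lib.Coprime.Commutator

/-!
A fixed-point-free complement has nontrivial centre.
-/

set_option autoImplicit false
set_option linter.style.haveILetI false

namespace CfsgLib.FrobeniusCenter

open Subgroup

universe u
variable {G : Type u} [Group G]

/-- In a finite cyclic group subgroups of equal order are equal. -/
theorem eq_of_card_eq_of_isCyclic {C : Type*} [Group C] [Finite C] [IsCyclic C] {A B : Subgroup C}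
    (h : Nat.card A = Nat.card B) : A = B := by
  haveI := IsCyclic.isMulCommutative (α := C)
  obtain ⟨x, hx⟩ := IsCyclic.exists_generator (α := (A ⊔ B : Subgroup C))
  have hall : ∀ y ∈ A ⊔ B, y ^ Nat.card A = 1 := by
    intro y hy
    haveI : A.Normal := by
      refine ⟨fun a ha g => ?_⟩
      rwa [mul_comm' g a, mul_inv_cancel_right]
    obtain ⟨a, ha, b, hb, rfl⟩ := mem_sup_of_normal_left.1 hy
    rw [(Commute.mul_pow (mul_comm' a b) (Nat.card A))]
    have h1 : a ^ Nat.card A = 1 := congrArg Subtype.val (pow_card_eq_one' (x := (⟨a, ha⟩ : A)))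
    have h2 : b ^ Nat.card A = 1 := by
      rw [h]; exact congrArg Subtype.val (pow_card_eq_one' (x := (⟨b, hb⟩ : B)))
    rw [h1, h2, one_mul]
  have hcard : Nat.card (A ⊔ B : Subgroup C) ≤ Nat.card A := by
    rw [← orderOf_eq_card_of_forall_mem_zpowers hx]
    exact Nat.le_of_dvd Nat.card_pos (orderOf_dvd_of_pow_eq_one (Subtype.ext (hall x x.2)))
  have h1 : A = A ⊔ B := eq_of_le_of_card_ge le_sup_left hcard
  have h2 : B = A ⊔ B := eq_of_le_of_card_ge le_sup_right (h ▸ hcard)
  exact h1.trans h2.symm

theorem fpf_center_ne_bot [Finite G] (K H : Subgroup G) [K.Normal] (hc : IsComplement' K H)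
    (hK : K ≠ ⊥) (hH : H ≠ ⊥) (hfpf : ∀ h ∈ H, h ≠ 1 → K ⊓ centralizer {h} = ⊥) :
    center H ≠ ⊥ := by
  have hFC : Cfsg.IsFrobeniusComplement H :=
    CfsgLib.Frobenius.isFrobeniusComplement_of_normal_complement hc hK hH fun h hh hne k hk hcomm =>
      mem_bot.1 (hfpf h hh hne ▸ (⟨hk, mem_centralizer_singleton_iff.2 hcomm.symm⟩ :
        k ∈ K ⊓ centralizer {h}))
  haveI : Nontrivial H := (nontrivial_iff_ne_bot H).2 hH
  by_cases heven : 2 ∣ Nat.card H
  · -- the involution is central
    obtain ⟨⟨s, hs⟩, hso⟩ := exists_prime_orderOf_dvd_card' (G := H) 2 heven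
    haveI : Nontrivial K := (nontrivial_iff_ne_bot K).2 hK
    letI : MulDistribMulAction H K :=
      MulDistribMulAction.compHom K ((MulAut.conjNormal (H := K)).comp H.subtype)
    have hf := CfsgLib.Frobenius.fpf_of_complement hFC hc.disjoint
    have hs1 : (⟨s, hs⟩ : H) ≠ 1 := fun e => by rw [e, orderOf_one] at hso; omega
    have hs2 : (⟨s, hs⟩ : H) * ⟨s, hs⟩ = 1 := by
      have := pow_orderOf_eq_one (⟨s, hs⟩ : H)
      rwa [hso, pow_two] at this
    intro hbot
    refine hs1 (mem_bot.1 (hbot ▸ mem_center_iff.2 fun g => ?_))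
    have huniq : g * ⟨s, hs⟩ * g⁻¹ = ⟨s, hs⟩ := by
      refine hf.involution_unique ?_ ?_ hs1 hs2
      · intro e
        exact hs1 (conj_eq_one_iff.1 e)
      · rw [conj_mul, hs2, mul_one, mul_inv_cancel]
    exact mul_inv_eq_iff_eq_mul.1 huniq
  -- odd order: all Sylow subgroups are cyclic
  haveI hZ : IsZGroup H := by
    rw [isZGroup_iff]
    intro p hp S
    haveI : Fact p.Prime := ⟨hp⟩
    obtain ⟨n, hn⟩ := IsPGroup.iff_card.1 S.isPGroup'
    show IsCyclic (S : Subgroup H)
    refine CfsgLib.SubgroupCount.isCyclic_of_unique hp n hn ?_ fun hp2 => ?_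
    · rcases subsingleton_or_nontrivial (S : Subgroup H) with hsub | hnt
      · intro a b _ _
        rw [Subsingleton.elim b a]; exact mem_zpowers a
      obtain ⟨k, hk⟩ := IsPGroup.iff_card.1 (S.isPGroup'.to_subgroup (center (S : Subgroup H)))
      have hk0 : k ≠ 0 := by
        rintro rfl
        rw [pow_zero] at hk
        exact S.isPGroup'.bot_lt_center.ne' (card_eq_one.1 hk)
      obtain ⟨z, hz⟩ := exists_prime_orderOf_dvd_card' p (hk ▸ dvd_pow_self p hk0)
      rw [← orderOf_coe] at hz
      have key : ∀ a : (S : Subgroup H), orderOf a = p → zpowers a = zpowers (z : (S : Subgroup H)) := by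
        intro a ha
        set L : Subgroup (S : Subgroup H) := Subgroup.closure {(z : (S : Subgroup H)), a} with hL
        haveI : IsMulCommutative L := by
          refine isMulCommutative_closure fun x hx y hy => ?_
          rcases hx with rfl | rfl <;> rcases hy with rfl | rfl
          · rfl
          · exact (mem_center_iff.1 z.2 y).symm
          · exact mem_center_iff.1 z.2 x
          · rfl
        set L' : Subgroup G := (L.map (S : Subgroup H).subtype).map H.subtype with hL'
        haveI : IsMulCommutative L' := by rw [hL']; infer_instance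
        haveI hcyc : IsCyclic L' :=
          CfsgLib.Frobenius.isCyclic_le_complement_of_commutative hFC hc (map_subtype_le _)
        haveI : IsCyclic L := isCyclic_of_injective
          ((L.equivMapOfInjective _ (S : Subgroup H).subtype_injective).trans
            ((L.map (S : Subgroup H).subtype).equivMapOfInjective _ H.subtype_injective)).toMonoidHom
          (MulEquiv.injective _)
        have hcard : ∀ w : (S : Subgroup H), ∀ hw : w ∈ L, orderOf w = p →
            Nat.card (zpowers (⟨w, hw⟩ : L)) = p := fun w hw ho => by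
          rw [Nat.card_zpowers, ← orderOf_coe]; exact ho
        have haL : a ∈ L := subset_closure (by simp)
        have hzL : (z : (S : Subgroup H)) ∈ L := subset_closure (by simp)
        have heq : zpowers (⟨a, haL⟩ : L) = zpowers (⟨(z : (S : Subgroup H)), hzL⟩ : L) := by
          refine eq_of_card_eq_of_isCyclic ?_
          rw [hcard a haL ha, hcard _ hzL hz]
        have := congrArg (Subgroup.map L.subtype) heq
        simpa [MonoidHom.map_zpowers] using this
      intro a b ha hb
      rw [key a ha, ← key b hb]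
      exact mem_zpowers b
    · intro H1 K1 hH4 _
      exfalso
      subst hp2
      rcases Nat.eq_zero_or_pos n with rfl | hn0
      · have := card_subgroup_dvd_card H1
        rw [hH4, hn, pow_zero] at this
        norm_num at this
      · apply heven
        exact ((dvd_pow_self 2 hn0.ne').trans (hn ▸ dvd_rfl)).trans
          (card_subgroup_dvd_card (S : Subgroup H))
  haveI hcyc' : IsCyclic (_root_.commutator H) := IsZGroup.isCyclic_commutator H
  haveI : Group.IsSolvable H := inferInstance
  set D : Subgroup H := _root_.commutator H with hD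
  have hlt : D < ⊤ := Group.IsSolvable.commutator_lt_top_of_nontrivial H
  have hidx : D.index ≠ 1 := fun e => hlt.ne (index_eq_one.1 e)
  obtain ⟨q, hq, hqd⟩ := Nat.exists_prime_and_dvd hidx
  haveI : Fact q.Prime := ⟨hq⟩
  obtain ⟨B, hB⟩ := exists_right_complement'_of_coprime (IsZGroup.coprime_commutator_index H)
  obtain ⟨c, hc'⟩ := exists_prime_orderOf_dvd_card' (G := B) q (hB.symm.index_eq_card ▸ hqd)
  rw [← orderOf_coe] at hc'
  have hcne : (c : H) ≠ 1 := fun e => hq.one_lt.ne' (by rw [← hc', e, orderOf_one])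
  -- `B` is abelian
  have hBab : ∀ x ∈ B, ∀ y ∈ B, x * y = y * x := by
    intro x hx y hy
    have h1 : x * y * x⁻¹ * y⁻¹ ∈ D ⊓ B :=
      ⟨commutator_mem_commutator (mem_top x) (mem_top y),
        (mul_mem (mul_mem (mul_mem hx hy) (inv_mem hx)) (inv_mem hy) : x * y * x⁻¹ * y⁻¹ ∈ B)⟩
    rw [hB.disjoint.eq_bot, mem_bot] at h1
    calc x * y = (x * y * x⁻¹ * y⁻¹) * (y * x) := by group
      _ = y * x := by rw [h1, one_mul]
  -- `c` centralises `D`
  have hqD : q.Coprime (Nat.card D) :=
    (IsZGroup.coprime_commutator_index H).symm.coprime_dvd_left hqd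
  have hnorm : zpowers (c : H) ≤ normalizer (D : Set H) := by rw [normalizer_eq_top]; exact le_top
  have hcopA : (Nat.card (zpowers (c : H))).Coprime (Nat.card D) := by rwa [Nat.card_zpowers, hc']
  have hcD : zpowers (c : H) ≤ centralizer (D : Set H) := by
    haveI : IsMulCommutative D := inferInstance
    have h1 := CfsgLib.Coprime.commutator_inf_centralizer_eq_bot (zpowers (c : H)) D hnorm hcopA
    rw [le_centralizer_iff, ← commutator_eq_bot_iff_le_centralizer]
    by_contra hne
    obtain ⟨r, hr, hrd⟩ := Nat.exists_prime_and_dvd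
      (fun e => hne (card_eq_one.1 e) : Nat.card (⁅D, zpowers (c : H)⁆ : Subgroup H) ≠ 1)
    haveI : Fact r.Prime := ⟨hr⟩
    obtain ⟨w, hw⟩ := exists_prime_orderOf_dvd_card' r hrd
    rw [← orderOf_coe] at hw
    have hwD : (w : H) ∈ D := CfsgLib.Coprime.commutator_le_of_normalizes hnorm w.2
    have hWn : (zpowers (w : H)).Normal := by
      have hle : zpowers (w : H) ≤ D := zpowers_le.2 hwD
      refine ⟨fun x hx g => ?_⟩
      have hxD : g * x * g⁻¹ ∈ D := Normal.conj_mem inferInstance x (hle hx) g
      have heq : (zpowers (w : H)).map (MulAut.conj g).toMonoidHom = zpowers (w : H) := by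
        have hle' : (zpowers (w : H)).map (MulAut.conj g).toMonoidHom ≤ D := by
          rintro _ ⟨y, hy, rfl⟩
          exact Normal.conj_mem inferInstance y (hle hy) g
        have := eq_of_card_eq_of_isCyclic (C := D)
          (A := ((zpowers (w : H)).map (MulAut.conj g).toMonoidHom).subgroupOf D)
          (B := (zpowers (w : H)).subgroupOf D) (by
            rw [Nat.card_congr (subgroupOfEquivOfLe hle').toEquiv,
              Nat.card_congr (subgroupOfEquivOfLe hle).toEquiv,
              ← Nat.card_congr ((zpowers (w : H)).equivMapOfInjective _ (MulAut.conj g).injective).toEquiv])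
        have h3 := subgroupOf_inj.1 this
        rwa [inf_eq_left.2 hle', inf_eq_left.2 hle] at h3
      rw [← heq]
      exact ⟨x, hx, rfl⟩
    have hrq : r ≠ q := by
      rintro rfl
      exact hr.not_dvd_one (hqD.gcd_eq_one ▸ Nat.dvd_gcd dvd_rfl
        (hw ▸ (orderOf_coe (⟨(w : H), hwD⟩ : D)).symm ▸ orderOf_dvd_natCard _))
    set L : Subgroup H := zpowers (w : H) ⊔ zpowers (c : H) with hL
    have hLc : Nat.card L = r * q := by
      have hd : Disjoint (zpowers (w : H)) (zpowers (c : H)) := by
        rw [disjoint_iff]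
        exact (disjoint_of_coprime_natCard (by rw [Nat.card_zpowers, Nat.card_zpowers, hw, hc']; exact (Nat.coprime_primes hr hq).2 hrq)).eq_bot
      have h1 := CfsgLib.Coprime.card_sup_of_disjoint (H := zpowers (c : H)) (N := zpowers (w : H))
        (by rw [normalizer_eq_top]; exact le_top) (disjoint_iff.1 hd)
      rw [hL, sup_comm, h1, Nat.card_zpowers, Nat.card_zpowers, hw, hc', mul_comm]
    haveI : IsCyclic (L.map H.subtype) :=
      CfsgLib.Frobenius.isCyclic_le_complement_of_card_eq_mul hFC hc (map_subtype_le L) hr hq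
        ((CfsgLib.Supersolvable.card_map_subtype L).trans hLc)
    have hLab : ∀ x ∈ L, ∀ y ∈ L, x * y = y * x := fun x hx y hy => by
      have h2 := congrArg Subtype.val (mul_comm' (⟨(x : G), ⟨x, hx, rfl⟩⟩ : L.map H.subtype)
        ⟨(y : G), ⟨y, hy, rfl⟩⟩)
      exact Subtype.ext h2
    have hwC : (w : H) ∈ ⁅D, zpowers (c : H)⁆ ⊓ centralizer (zpowers (c : H) : Set H) :=
      ⟨w.2, mem_centralizer_iff.2 fun y hy =>
        hLab y (le_sup_right (α := Subgroup H) hy) w (le_sup_left (α := Subgroup H) (mem_zpowers _))⟩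
    rw [h1, mem_bot] at hwC
    rw [hwC, orderOf_one] at hw
    exact hr.one_lt.ne hw
  intro hbot
  refine hcne (mem_bot.1 (hbot ▸ mem_center_iff.2 fun g => ?_))
  have hg : g ∈ D ⊔ B := by rw [hB.sup_eq_top]; exact mem_top g
  obtain ⟨d, hd, b, hb, rfl⟩ := mem_sup_of_normal_left.1 hg
  have h1 : d * (c : H) = (c : H) * d := mem_centralizer_iff.1 (hcD (mem_zpowers _)) d hd
  rw [mul_assoc, hBab b hb c c.2, ← mul_assoc, h1, mul_assoc]

end CfsgLib.FrobeniusCenter
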