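import Mathlib.GroupTheory.GroupAction.Primitive
import Cfsg.Prelude.Def_Transfer
import Cfsg.Agent.Lib.Solvable.Fitting
import Cfsg.Agent.Lib.Solvable.Frattini
import Cfsg.Agent.Lib.Solvable.MinNormal

/-!
# Groups with a core-free maximal subgroup
-/

set_option autoImplicit false

open scoped Pointwise

namespace CfsgLib.CoreFreeMaximal

open Subgroup CfsgLib.MinNormal

variable {G : Type*} [Group G]

theorem sup_eq_top_of_normal {U : Subgroup G} (hU : IsCoatom U) (hcore : U.normalCore = ⊥)
    {N : Subgroup G} [hNn : N.Normal] (hN : N ≠ ⊥) : N ⊔ U = ⊤ :=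
  hU.2 _ (lt_of_le_of_ne le_sup_right fun e => hN (le_bot_iff.1 (hcore ▸
    (normal_le_normalCore.2 (le_sup_left.trans_eq e.symm) : N ≤ U.normalCore))))

theorem normal_of_le_normalizer_sup {X A B : Subgroup G} (hA : A ≤ normalizer (X : Set G))
    (hB : B ≤ normalizer (X : Set G)) (h : A ⊔ B = ⊤) : X.Normal :=
  normalizer_eq_top_iff.1 (eq_top_iff.2 (h ▸ sup_le hA hB))

theorem le_normalizer_inf {U K : Subgroup G} [K.Normal] :
    U ≤ normalizer ((K ⊓ U : Subgroup G) : Set G) := by
  intro u hu
  refine mem_normalizer_iff.2 fun x => ⟨fun hx => ?_, fun hx => ?_⟩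
  · exact ⟨Normal.conj_mem inferInstance x hx.1 u, U.mul_mem (U.mul_mem hu hx.2) (U.inv_mem hu)⟩
  · have h1 := Normal.conj_mem' (inferInstanceAs K.Normal) _ hx.1 u
    have h2 := U.mul_mem (U.mul_mem (U.inv_mem hu) hx.2) hu
    simp [mul_assoc] at h1 h2
    exact ⟨h1, h2⟩

theorem centralizer_inf_eq_bot {U : Subgroup G} (hU : IsCoatom U) (hcore : U.normalCore = ⊥)
    {N : Subgroup G} [N.Normal] (hN : N ≠ ⊥) : centralizer (N : Set G) ⊓ U = ⊥ := by
  have hnorm : (centralizer (N : Set G) ⊓ U).Normal := by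
    refine normal_of_le_normalizer_sup ?_ le_normalizer_inf (sup_eq_top_of_normal hU hcore hN)
    intro n hn
    refine mem_normalizer_iff.2 fun x => ⟨fun hx => ?_, fun hx => ?_⟩
    · rwa [mem_centralizer_iff.1 hx.1 n hn, mul_inv_cancel_right]
    · have h1 := mem_centralizer_iff.1 hx.1 n hn
      have h2 : n * x * n⁻¹ = x := by
        calc n * x * n⁻¹ = n⁻¹ * (n * (n * x * n⁻¹)) := by group
          _ = n⁻¹ * ((n * x * n⁻¹) * n) := by rw [h1]
          _ = x := by group
      rwa [h2] at hx
  exact le_bot_iff.1 (hcore ▸ (normal_le_normalCore.2 inf_le_right :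
    centralizer (N : Set G) ⊓ U ≤ U.normalCore))

theorem centralizer_minimal {U : Subgroup G} (hU : IsCoatom U) (hcore : U.normalCore = ⊥)
    {N : Subgroup G} [N.Normal] (hN : N ≠ ⊥) {K : Subgroup G} (hK : K.Normal)
    (hle : K ≤ centralizer (N : Set G)) : K = ⊥ ∨ K = centralizer (N : Set G) := by
  rw [or_iff_not_imp_left]
  intro hKb
  haveI := hK
  refine le_antisymm hle fun c hc => ?_
  have : c ∈ K ⊔ U := by rw [sup_eq_top_of_normal hU hcore hKb]; exact mem_top c
  obtain ⟨k, hk, u, hu, rfl⟩ := mem_sup_of_normal_left.1 this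
  have hmem : u ∈ centralizer (N : Set G) ⊓ U := by
    refine ⟨?_, hu⟩
    have := mul_mem (inv_mem (hle hk)) hc
    simpa using this
  rw [centralizer_inf_eq_bot hU hcore hN, mem_bot] at hmem
  simpa [hmem] using hk

theorem le_centralizer_of_inf_eq_bot {A B : Subgroup G} [A.Normal] [B.Normal] (h : A ⊓ B = ⊥) :
    A ≤ centralizer (B : Set G) := by
  rw [← commutator_eq_bot_iff_le_centralizer, eq_bot_iff, ← h]
  exact commutator_le_inf A B

theorem centralizer_eq_self {U : Subgroup G} (hU : IsCoatom U) (hcore : U.normalCore = ⊥)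
    {A : Subgroup G} [hAn : A.Normal] (hA : A ≠ ⊥) [IsMulCommutative A] :
    centralizer (A : Set G) = A :=
  ((centralizer_minimal hU hcore hA hAn (le_centralizer A)).resolve_left hA).symm

theorem isMinNormal_of_commutative {U : Subgroup G} (hU : IsCoatom U) (hcore : U.normalCore = ⊥)
    {A : Subgroup G} [hAn : A.Normal] (hA : A ≠ ⊥) [IsMulCommutative A] : IsMinNormal A := by
  refine ⟨hAn, hA, fun K hK hle => ?_⟩
  rcases centralizer_minimal hU hcore hA hK (hle.trans (le_centralizer A)) with h | h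
  · exact Or.inl h
  · exact Or.inr (le_antisymm hle (h ▸ (le_centralizer A)))

theorem isComplement'_of_commutative {U : Subgroup G} (hU : IsCoatom U)
    (hcore : U.normalCore = ⊥) {A : Subgroup G} [A.Normal] (hA : A ≠ ⊥) [IsMulCommutative A] :
    IsComplement' A U := by
  refine isComplement'_of_disjoint_and_mul_eq_univ (disjoint_iff.2 (le_bot_iff.1 ?_)) ?_
  · exact (inf_le_inf_right U (le_centralizer A)).trans (centralizer_inf_eq_bot hU hcore hA).le
  · rw [← Subgroup.normal_mul, sup_eq_top_of_normal hU hcore hA, coe_top]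

/-- The Fitting subgroup centralizes every minimal normal subgroup. -/
theorem fitting_le_centralizer [Finite G] {M : Subgroup G} [M.Normal]
    (hmin : ∀ K : Subgroup G, K.Normal → K ≤ M → K = ⊥ ∨ K = M) :
    Cfsg.fittingSubgroup G ≤ centralizer (M : Set G) := by
  haveI := CfsgLib.Fitting.fitting_normal (G := G)
  rcases hmin ⁅M, Cfsg.fittingSubgroup G⁆ inferInstance (commutator_le_left _ _) with h | h
  · rw [commutator_comm] at h
    exact commutator_eq_bot_iff_le_centralizer.1 h
  · obtain ⟨n, hn⟩ := (isNilpotent_iff_lowerCentralSeries (Cfsg.fittingSubgroup G)).1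
      CfsgLib.Fitting.fitting_isNilpotent
    have hle : ∀ k, M ≤ (Cfsg.fittingSubgroup G).lowerCentralSeries k := by
      intro k
      induction k with
      | zero => rw [Subgroup.lowerCentralSeries_zero]; exact h.ge.trans (commutator_le_right _ _)
      | succ k ih =>
        calc M = ⁅M, Cfsg.fittingSubgroup G⁆ := h.symm
          _ ≤ ⁅(Cfsg.fittingSubgroup G).lowerCentralSeries k, Cfsg.fittingSubgroup G⁆ :=
            commutator_mono ih le_rfl
          _ = _ := (Subgroup.lowerCentralSeries_succ _ k).symm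
    have hb : M = ⊥ := le_bot_iff.1 (hn ▸ hle n)
    subst hb
    intro x _
    simp [mem_centralizer_iff]

/-- `O_p(G)`, when nontrivial, is the unique abelian minimal normal subgroup. -/
theorem pCore_structure [Finite G] {p : ℕ} [Fact p.Prime] (hL : Cfsg.pCore p G ≠ ⊥)
    {U : Subgroup G} (hU : IsCoatom U) (hcore : U.normalCore = ⊥) :
    IsMinNormal (Cfsg.pCore p G) ∧ IsMulCommutative (Cfsg.pCore p G) := by
  haveI := CfsgLib.Fitting.pCore_normal (G := G) p
  obtain ⟨A, hA, hAL⟩ := exists_isMinNormal_le (K := Cfsg.pCore p G) inferInstance hL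
  haveI := hA.1
  have hAp : IsPGroup p A := (CfsgLib.Fitting.pCore_isPGroup p).to_le hAL
  haveI hAb : IsMulCommutative A := by
    haveI := hAp.isNilpotent
    rcases hA.2.2 ⁅A, A⁆ inferInstance (commutator_le_left _ _) with h | h
    · rw [commutator_eq_bot_iff_le_centralizer] at h
      exact ⟨⟨fun a b => Subtype.ext ((h b.2) a a.2)⟩⟩
    · exfalso
      haveI : Nontrivial A := (nontrivial_iff_ne_bot A).2 hA.2.1
      have h2 := Group.IsSolvable.commutator_lt_top_of_nontrivial A
      refine h2.ne (map_injective A.subtype_injective ?_)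
      rw [map_subtype_commutator, h, ← MonoidHom.range_eq_map, range_subtype]
  have hLA : Cfsg.pCore p G ≤ centralizer (A : Set G) :=
    (CfsgLib.Fitting.pCore_le_fitting Fact.out).trans (fitting_le_centralizer hA.2.2)
  rw [centralizer_eq_self hU hcore hA.2.1] at hLA
  rw [le_antisymm hLA hAL]
  exact ⟨hA, hAb⟩

theorem pCore_eq_of_commutative [Finite G] {p : ℕ} [Fact p.Prime] {U : Subgroup G}
    (hU : IsCoatom U) (hcore : U.normalCore = ⊥) {A : Subgroup G} [A.Normal] (hA : A ≠ ⊥)
    [IsMulCommutative A] (hAp : IsPGroup p A) : Cfsg.pCore p G = A := by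
  have hle : A ≤ Cfsg.pCore p G := CfsgLib.Fitting.le_pCore inferInstance hAp
  have hne : Cfsg.pCore p G ≠ ⊥ := fun e => hA (le_bot_iff.1 (e ▸ hle))
  obtain ⟨hm, -⟩ := pCore_structure hne hU hcore
  exact ((hm.2.2 A inferInstance hle).resolve_left hA).symm

/-- In a finite solvable group the core-free maximal subgroups are conjugate. -/
theorem exists_conj_eq [Finite G] [Group.IsSolvable G] {U V : Subgroup G} (hU : IsCoatom U)
    (hV : IsCoatom V) (hUc : U.normalCore = ⊥) (hVc : V.normalCore = ⊥) :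
    ∃ g : G, MulAut.conj g • U = V := by
  haveI : Nontrivial G := by
    by_contra h
    rw [not_nontrivial_iff_subsingleton] at h
    exact hU.1 (Subsingleton.elim _ _)
  obtain ⟨A, hA⟩ := exists_isMinNormal (G := G)
  haveI := hA.1
  haveI := hA.isMulCommutative
  obtain ⟨p, hp, -, hAp, -⟩ := hA.elementaryAbelian_of_solvable
  haveI := Fact.mk hp
  have hcU := isComplement'_of_commutative hU hUc hA.2.1
  have hcV := isComplement'_of_commutative hV hVc hA.2.1
  have hOp := pCore_eq_of_commutative (p := p) hU hUc hA.2.1 hAp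
  by_cases hAT : A = ⊤
  · have h1 : U = ⊥ := by
      have := hcU.disjoint; rw [hAT, top_disjoint] at this; exact this
    have h2 : V = ⊥ := by
      have := hcV.disjoint; rw [hAT, top_disjoint] at this; exact this
    exact ⟨1, by simp [h1, h2]⟩
  haveI : Nontrivial (G ⧸ A) := QuotientGroup.nontrivial_iff.2 hAT
  haveI : Group.IsSolvable (G ⧸ A) :=
    Group.isSolvable_of_surjective (QuotientGroup.mk'_surjective A)
  obtain ⟨Lb, hLb⟩ := exists_isMinNormal (G := G ⧸ A)
  obtain ⟨q, hq, -, hLq, k, hk0, hk⟩ := hLb.elementaryAbelian_of_solvable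
  haveI := Fact.mk hq
  let L : Subgroup G := Lb.comap (QuotientGroup.mk' A)
  haveI : L.Normal := hLb.1.comap _
  have hAL : A ≤ L := by
    intro x hx; simp [L, (QuotientGroup.eq_one_iff x).2 hx]
  have hmap : L.map (QuotientGroup.mk' A) = Lb :=
    map_comap_eq_self_of_surjective (QuotientGroup.mk'_surjective A) Lb
  have hLA : ¬ L ≤ A := by
    intro hle
    apply hLb.2.1
    rw [← hmap, Subgroup.map_eq_bot_iff, QuotientGroup.ker_mk']
    exact hle
  -- for a complement `W`, `L ⊓ W` is a `q`-group isomorphic to `L/A`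
  have key : ∀ W : Subgroup G, IsComplement' A W →
      Nat.card (L ⊓ W : Subgroup G) = q ^ k ∧ A ⊔ (L ⊓ W) = L := by
    intro W hW
    have hsup : A ⊔ (L ⊓ W) = L := by
      refine le_antisymm (sup_le hAL inf_le_left) fun l hl => ?_
      have : l ∈ A ⊔ W := by rw [hW.sup_eq_top]; exact mem_top l
      obtain ⟨a, ha, w, hw, rfl⟩ := mem_sup_of_normal_left.1 this
      refine mul_mem_sup ha ⟨?_, hw⟩
      simpa using mul_mem (inv_mem (hAL ha)) hl
    refine ⟨?_, hsup⟩
    rw [← hk, ← hmap]
    conv_rhs => rw [← hsup, Subgroup.map_sup,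
      (Subgroup.map_eq_bot_iff A).2 (QuotientGroup.ker_mk' A).ge, bot_sup_eq]
    let f : (L ⊓ W : Subgroup G) →* G ⧸ A :=
      (QuotientGroup.mk' A).comp (L ⊓ W : Subgroup G).subtype
    have hf : Function.Injective f := by
      rw [injective_iff_map_eq_one]
      intro x hx
      have hxA : (x : G) ∈ A := (QuotientGroup.eq_one_iff _).1 hx
      exact Subtype.ext (Subgroup.disjoint_def.1 hW.disjoint hxA x.2.2)
    have hr : (L ⊓ W : Subgroup G).map (QuotientGroup.mk' A) = f.range := by
      rw [MonoidHom.range_comp, range_subtype]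
    rw [hr]
    exact Nat.card_congr (MonoidHom.ofInjective hf).toEquiv
  have hqp : q ≠ p := by
    rintro rfl
    have hLp : IsPGroup q L := by
      refine hLq.comap_of_ker_isPGroup (QuotientGroup.mk' A) ?_
      rw [QuotientGroup.ker_mk']
      exact hAp
    exact hLA (hOp ▸ CfsgLib.Fitting.le_pCore inferInstance hLp)
  -- they are Sylow `q`-subgroups of `L`
  have hLcard : Nat.card L = Nat.card A * q ^ k := by
    rw [← (A.subgroupOf L).card_mul_index, ← Subgroup.relIndex,
      Nat.card_congr (subgroupOfEquivOfLe hAL).toEquiv]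
    congr 1
    rw [← hk, ← hmap]
    have := relIndex_ker (f := QuotientGroup.mk' A) L
    rw [QuotientGroup.ker_mk'] at this
    exact this
  obtain ⟨m, hm⟩ := IsPGroup.iff_card.1 hAp
  have hfac : (Nat.card L).factorization q = k := by
    rw [hLcard, hm, Nat.factorization_mul (pow_ne_zero _ hp.ne_zero) (pow_ne_zero _ hq.ne_zero),
      hp.factorization_pow, hq.factorization_pow]
    simp [hqp]
  have hsub : ∀ W : Subgroup G, IsComplement' A W →
      Nat.card ((L ⊓ W).subgroupOf L) = q ^ (Nat.card L).factorization q := by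
    intro W hW
    rw [hfac, Nat.card_congr (subgroupOfEquivOfLe inf_le_left).toEquiv]
    exact (key W hW).1
  obtain ⟨l, hl⟩ := MulAction.exists_smul_eq L (Sylow.ofCard _ (hsub U hcU))
    (Sylow.ofCard _ (hsub V hcV))
  have hconj : MulAut.conj (l : G) • (L ⊓ U) = L ⊓ V := by
    have h1 := congrArg Sylow.toSubgroup hl
    rw [Sylow.coe_subgroup_smul] at h1
    have h2 := congrArg (Subgroup.map L.subtype) h1
    simp only [Sylow.coe_ofCard, subgroupOf_map_subtype] at h2
    rw [inf_of_le_left inf_le_left] at h2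
    rw [← h2]
    ext x
    constructor
    · intro hx
      obtain ⟨y, hy, rfl⟩ := hx
      exact ⟨MulAut.conj l ⟨y, hy.1⟩, ⟨⟨y, hy.1⟩, hy, rfl⟩, rfl⟩
    · rintro ⟨_, ⟨y, hy, rfl⟩, rfl⟩
      exact ⟨y, hy, rfl⟩
  have hne : ∀ W : Subgroup G, IsCoatom W → W.normalCore = ⊥ → IsComplement' A W →
      Subgroup.normalizer ((L ⊓ W : Subgroup G) : Set G) = W := by
    intro W hW hWc hc
    refine ((lt_or_eq_of_le (le_normalizer_inf (K := L) (U := W))).resolve_left fun hlt => ?_).symm
    have hN := normalizer_eq_top_iff.1 (hW.2 _ hlt)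
    have hb : L ⊓ W = ⊥ :=
      le_bot_iff.1 (hWc ▸ (normal_le_normalCore.2 inf_le_right : L ⊓ W ≤ W.normalCore))
    have h2 := (key W hc).2
    rw [hb, sup_bot_eq] at h2
    exact hLA h2.ge
  refine ⟨l, ?_⟩
  rw [← hne U hU hUc hcU, ← hne V hV hVc hcV, ← hconj]
  ext x
  rw [mem_pointwise_smul_iff_inv_smul_mem]
  simp only [MulAut.smul_def, MulAut.inv_apply, MulAut.conj_symm_apply, mem_normalizer_iff]
  constructor
  · intro h y
    rw [mem_pointwise_smul_iff_inv_smul_mem, mem_pointwise_smul_iff_inv_smul_mem]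
    simp only [MulAut.smul_def, MulAut.inv_apply, MulAut.conj_symm_apply]
    have := h ((l : G)⁻¹ * y * l)
    simpa [mul_assoc] using this
  · intro h y
    have := h ((l : G) * y * (l : G)⁻¹)
    rw [mem_pointwise_smul_iff_inv_smul_mem, mem_pointwise_smul_iff_inv_smul_mem] at this
    simpa [MulAut.smul_def, mul_assoc] using this

/-- Two subgroups with the same join with a normal subgroup, both disjoint from it, are
isomorphic. -/
theorem nonempty_mulEquiv_of_sup_eq {B X Y : Subgroup G} [B.Normal] (hX : X ⊓ B = ⊥)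
    (hY : Y ⊓ B = ⊥) (h : X ⊔ B = Y ⊔ B) : Nonempty (X ≃* Y) := by
  let f := QuotientGroup.mk' B
  have inj : ∀ Z : Subgroup G, Z ⊓ B = ⊥ → Function.Injective (f.comp Z.subtype) := by
    intro Z hZ
    rw [injective_iff_map_eq_one]
    intro z hz
    have : (z : G) ∈ Z ⊓ B := ⟨z.2, (QuotientGroup.eq_one_iff _).1 hz⟩
    rw [hZ, mem_bot] at this
    exact Subtype.ext this
  have e : (f.comp X.subtype).range = (f.comp Y.subtype).range := by
    rw [MonoidHom.range_comp, MonoidHom.range_comp, range_subtype, range_subtype, map_eq_map_iff,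
      QuotientGroup.ker_mk', h]
  exact ⟨((MonoidHom.ofInjective (inj X hX)).trans (MulEquiv.subgroupCongr e)).trans
    (MonoidHom.ofInjective (inj Y hY)).symm⟩

section Primitive

variable {Ω : Type*} [MulAction G Ω] [FaithfulSMul G Ω]

theorem stabilizer_isCoatom (hprim : MulAction.IsPreprimitive G Ω) {M : Subgroup G}
    (hM : M ≠ ⊥) (ω : Ω) : IsCoatom (MulAction.stabilizer G ω) := by
  haveI : Nontrivial Ω := by
    by_contra h
    rw [not_nontrivial_iff_subsingleton] at h
    obtain ⟨⟨m, hm⟩, hm1⟩ := ne_bot_iff_exists_ne_one.1 hM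
    refine hm1 (Subtype.ext (FaithfulSMul.eq_of_smul_eq_smul (α := Ω) fun x => ?_))
    exact Subsingleton.elim _ _
  exact MulAction.IsPreprimitive.isCoatom_stabilizer_of_isPreprimitive G ω

theorem stabilizer_normalCore (hprim : MulAction.IsPreprimitive G Ω) (ω : Ω) :
    (MulAction.stabilizer G ω).normalCore = ⊥ := by
  rw [eq_bot_iff]
  intro x hx
  rw [mem_bot]
  refine FaithfulSMul.eq_of_smul_eq_smul (α := Ω) fun y => ?_
  obtain ⟨g, rfl⟩ := MulAction.exists_smul_eq G ω y
  have : g⁻¹ * x * g ∈ MulAction.stabilizer G ω := by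
    have := hx g⁻¹
    simpa using this
  rw [one_smul]
  calc x • g • ω = g • ((g⁻¹ * x * g) • ω) := by simp [mul_smul]
    _ = g • ω := by rw [MulAction.mem_stabilizer_iff.1 this]

end Primitive

end CfsgLib.CoreFreeMaximal
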