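import Mathlib

/-!
Gaschütz: complements of an abelian normal subgroup of order prime to the index of a subgroup
containing it.
-/

set_option autoImplicit false
set_option linter.style.haveILetI false
set_option linter.unusedSectionVars false

namespace CfsgLib.Gaschutz

open Subgroup
open scoped Pointwise IsMulCommutative

universe u
variable {G : Type u} [Group G]

/-- A complement `A` of the normal subgroup `K` inside `U`. -/
structure Data (K U A : Subgroup G) : Prop where
  kle : K ≤ U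
  ale : A ≤ U
  inf : A ⊓ K = ⊥
  sup : K ⊔ A = U

/-- Sections of `G ⧸ A → G ⧸ U`. -/
def IsSection {U A : Subgroup G} (h : A ≤ U) (s : G ⧸ U → G ⧸ A) : Prop :=
  ∀ Q, quotientMapOfLE h (s Q) = Q

/-- The action of `G` on functions between coset spaces. -/
def shift {U A : Subgroup G} (g : G) (s : G ⧸ U → G ⧸ A) : G ⧸ U → G ⧸ A := fun Q => g • s (g⁻¹ • Q)

theorem shift_mul {U A : Subgroup G} (g h : G) (s : G ⧸ U → G ⧸ A) :
    shift (g * h) s = shift g (shift h s) := by
  funext Q
  simp [shift, mul_smul, mul_inv_rev]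

theorem shift_one {U A : Subgroup G} (s : G ⧸ U → G ⧸ A) : shift 1 s = s := by
  funext Q
  simp [shift]

theorem isSection_shift {U A : Subgroup G} (h : A ≤ U) (g : G) {s : G ⧸ U → G ⧸ A}
    (hs : IsSection h s) : IsSection h (shift g s) := by
  intro Q
  obtain ⟨x, hx⟩ := QuotientGroup.mk_surjective (s (g⁻¹ • Q))
  have h1 := hs (g⁻¹ • Q)
  rw [← hx, quotientMapOfLE_apply_mk] at h1
  show quotientMapOfLE h (g • s (g⁻¹ • Q)) = Q
  rw [← hx]
  show g • (QuotientGroup.mk x : G ⧸ U) = Q
  rw [h1, smul_inv_smul]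

variable {K U A : Subgroup G} [K.Normal]

theorem exists_unique_diff (D : Data K U A) {x y : G ⧸ A}
    (h : quotientMapOfLE D.ale x = quotientMapOfLE D.ale y) : ∃! k : K, (k : G) • x = y := by
  obtain ⟨g, rfl⟩ := QuotientGroup.mk_surjective x
  obtain ⟨g', rfl⟩ := QuotientGroup.mk_surjective y
  rw [quotientMapOfLE_apply_mk, quotientMapOfLE_apply_mk, QuotientGroup.eq, ← D.sup] at h
  obtain ⟨k, hk, a, ha, hka⟩ := mem_sup_of_normal_left.1 h
  refine ⟨⟨g * k * g⁻¹, Normal.conj_mem inferInstance k hk g⟩, ?_, fun k' hk' => ?_⟩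
  · show (g * k * g⁻¹) • (QuotientGroup.mk g : G ⧸ A) = QuotientGroup.mk g'
    show (QuotientGroup.mk (g * k * g⁻¹ * g) : G ⧸ A) = QuotientGroup.mk g'
    rw [QuotientGroup.eq]
    have : (g * k * g⁻¹ * g)⁻¹ * g' = k⁻¹ * (g⁻¹ * g') := by group
    rw [this, ← hka, inv_mul_cancel_left]
    exact ha
  · have h1 : ((k' : G) * g)⁻¹ * g' ∈ A := QuotientGroup.eq.1 hk'
    have h2 : k⁻¹ * (g⁻¹ * (k' : G) * g) ∈ A ⊓ K := by
      refine ⟨?_, (mul_mem (inv_mem hk) ?_ : k⁻¹ * (g⁻¹ * (k' : G) * g) ∈ K)⟩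
      · have h3 : k⁻¹ * (g⁻¹ * (k' : G) * g) = k⁻¹ * (g⁻¹ * g') * (((k' : G) * g)⁻¹ * g')⁻¹ := by
          group
        rw [h3, ← hka, inv_mul_cancel_left]
        exact (mul_mem ha (inv_mem h1) : a * (((k' : G) * g)⁻¹ * g')⁻¹ ∈ A)
      · have := Normal.conj_mem (inferInstanceAs K.Normal) _ k'.2 g⁻¹
        rwa [inv_inv] at this
    rw [D.inf, mem_bot, inv_mul_eq_one] at h2
    exact Subtype.ext (by show (k' : G) = g * k * g⁻¹; rw [h2]; group)

open scoped Classical in
/-- The element of `K` moving `x` to `y`. -/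
noncomputable def step (D : Data K U A) (x y : G ⧸ A) : K :=
  if h : quotientMapOfLE D.ale x = quotientMapOfLE D.ale y then (exists_unique_diff D h).choose
  else 1

theorem step_smul (D : Data K U A) {x y : G ⧸ A}
    (h : quotientMapOfLE D.ale x = quotientMapOfLE D.ale y) : (step D x y : G) • x = y := by
  rw [step, dif_pos h]
  exact (exists_unique_diff D h).choose_spec.1

theorem step_eq (D : Data K U A) {x y : G ⧸ A}
    (h : quotientMapOfLE D.ale x = quotientMapOfLE D.ale y) {k : K} (hk : (k : G) • x = y) :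
    step D x y = k :=
  (exists_unique_diff D h).unique (step_smul D h) hk

variable [IsMulCommutative K] [Finite G]

/-- The averaged difference of two sections. -/
noncomputable def diff (D : Data K U A) (s t : G ⧸ U → G ⧸ A) : K :=
  letI := Fintype.ofFinite (G ⧸ U)
  ∏ Q, step D (s Q) (t Q)

theorem sec_eq (D : Data K U A) {s t : G ⧸ U → G ⧸ A} (hs : IsSection D.ale s)
    (ht : IsSection D.ale t) (Q : G ⧸ U) :
    quotientMapOfLE D.ale (s Q) = quotientMapOfLE D.ale (t Q) := (hs Q).trans (ht Q).symm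

theorem diff_trans (D : Data K U A) {r s t : G ⧸ U → G ⧸ A} (hr : IsSection D.ale r)
    (hs : IsSection D.ale s) (ht : IsSection D.ale t) :
    diff D r t = diff D r s * diff D s t := by
  letI := Fintype.ofFinite (G ⧸ U)
  rw [diff, diff, diff, ← Finset.prod_mul_distrib]
  refine Finset.prod_congr rfl fun Q _ => step_eq D (sec_eq D hr ht Q) ?_
  rw [mul_comm (step D (r Q) (s Q)), coe_mul, mul_smul, step_smul D (sec_eq D hr hs Q),
    step_smul D (sec_eq D hs ht Q)]

theorem diff_self (D : Data K U A) {s : G ⧸ U → G ⧸ A} (hs : IsSection D.ale s) :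
    diff D s s = 1 := by
  have h := diff_trans D hs hs hs
  exact left_eq_mul.1 h

theorem diff_shift (D : Data K U A) (g : G) {s t : G ⧸ U → G ⧸ A} (hs : IsSection D.ale s)
    (ht : IsSection D.ale t) :
    diff D (shift g s) (shift g t) = MulAut.conjNormal g (diff D s t) := by
  letI := Fintype.ofFinite (G ⧸ U)
  rw [diff, diff, map_prod]
  refine (Fintype.prod_equiv (MulAction.toPerm g) _ _ fun Q => ?_).symm
  symm
  refine step_eq D (sec_eq D (isSection_shift D.ale g hs) (isSection_shift D.ale g ht) _) ?_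
  simp only [shift, MulAction.toPerm_apply, inv_smul_smul, MulAut.conjNormal_apply]
  rw [← mul_smul, inv_mul_cancel_right, mul_smul, step_smul D (sec_eq D hs ht Q)]

theorem diff_shift_mem (D : Data K U A) (k : K) {s : G ⧸ U → G ⧸ A} (hs : IsSection D.ale s) :
    diff D s (shift (k : G) s) = k ^ U.index := by
  letI := Fintype.ofFinite (G ⧸ U)
  rw [diff, Finset.prod_congr rfl (fun Q _ => step_eq D
    (sec_eq D hs (isSection_shift D.ale _ hs) Q) (k := k) ?_), Finset.prod_const,
    Finset.card_univ, ← Nat.card_eq_fintype_card, Subgroup.index]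
  obtain ⟨x, rfl⟩ := QuotientGroup.mk_surjective Q
  show (k : G) • s (QuotientGroup.mk x) = (k : G) • s ((k : G)⁻¹ • QuotientGroup.mk x)
  congr 2
  show (QuotientGroup.mk x : G ⧸ U) = QuotientGroup.mk ((k : G)⁻¹ * x)
  rw [QuotientGroup.eq]
  have : x⁻¹ * ((k : G)⁻¹ * x) = x⁻¹ * (k : G)⁻¹ * x⁻¹⁻¹ := by group
  rw [this]
  exact D.kle (Normal.conj_mem inferInstance _ (inv_mem k.2) _)

/-- The stabiliser of the class of a section. -/
noncomputable def stab (D : Data K U A) {s : G ⧸ U → G ⧸ A} (hs : IsSection D.ale s) :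
    Subgroup G where
  carrier := {g | diff D s (shift g s) = 1}
  one_mem' := by simp [shift_one, diff_self D hs]
  mul_mem' := fun {g h} hg hh => by
    show diff D s (shift (g * h) s) = 1
    rw [shift_mul, diff_trans D hs (isSection_shift D.ale g hs)
      (isSection_shift D.ale g (isSection_shift D.ale h hs)), hg,
      diff_shift D g hs (isSection_shift D.ale h hs), hh, map_one, one_mul]
  inv_mem' := fun {g} hg => by
    show diff D s (shift g⁻¹ s) = 1
    have h1 := diff_shift D g⁻¹ hs (isSection_shift D.ale g hs)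
    rw [hg, map_one, ← shift_mul, inv_mul_cancel, shift_one] at h1
    have h2 := diff_trans D hs (isSection_shift D.ale g⁻¹ hs) hs
    rwa [diff_self D hs, h1, mul_one, eq_comm] at h2

theorem isComplement'_stab (D : Data K U A) (hcop : (Nat.card K).Coprime U.index)
    {s : G ⧸ U → G ⧸ A} (hs : IsSection D.ale s) : IsComplement' K (stab D hs) := by
  refine isComplement'_of_disjoint_and_mul_eq_univ ?_ ?_
  · rw [disjoint_iff, eq_bot_iff]
    rintro x ⟨hx, hx'⟩
    have h1 : diff D s (shift x s) = 1 := hx'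
    rw [diff_shift_mem D ⟨x, hx⟩ hs] at h1
    have h2 : powCoprime hcop (⟨x, hx⟩ : K) = powCoprime hcop 1 := by
      simpa [powCoprime_apply] using h1
    exact mem_bot.2 (congrArg Subtype.val ((powCoprime hcop).injective h2))
  · rw [Set.eq_univ_iff_forall]
    intro g
    obtain ⟨k, hk⟩ := (powCoprime hcop).surjective ((diff D s (shift g s))⁻¹)
    have hmem : (k : G) * g ∈ stab D hs := by
      show diff D s (shift ((k : G) * g) s) = 1
      rw [shift_mul, diff_trans D hs (isSection_shift D.ale g hs)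
        (isSection_shift D.ale _ (isSection_shift D.ale g hs)),
        diff_shift_mem D k (isSection_shift D.ale g hs), ← powCoprime_apply hcop, hk,
        mul_inv_cancel]
    exact ⟨(k : G)⁻¹, inv_mem k.2, (k : G) * g, hmem, inv_mul_cancel_left _ _⟩

omit [IsMulCommutative K] [Finite G] in
theorem exists_section (D : Data K U A) : ∃ s : G ⧸ U → G ⧸ A, IsSection D.ale s :=
  ⟨fun Q => QuotientGroup.mk Q.out, fun Q => by
    rw [quotientMapOfLE_apply_mk]; exact QuotientGroup.out_eq' Q⟩

theorem exists_complement (D : Data K U A) (hcop : (Nat.card K).Coprime U.index) :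
    ∃ H : Subgroup G, IsComplement' K H :=
  let ⟨_, hs⟩ := exists_section D
  ⟨_, isComplement'_stab D hcop hs⟩

/-- A complement of `K` that meets `U` in `A` fixes a section. -/
theorem exists_fixed_section {H : Subgroup G} (D : Data K U A) (hH : IsComplement' K H)
    (hHU : H ⊓ U = A) : ∃ s : G ⧸ U → G ⧸ A, IsSection D.ale s ∧ ∀ h ∈ H, shift h s = s := by
  have hrep : ∀ Q : G ⧸ U, ∃ h ∈ H, (QuotientGroup.mk h : G ⧸ U) = Q := fun Q => by
    obtain ⟨g, rfl⟩ := QuotientGroup.mk_surjective Q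
    have hg : g ∈ K ⊔ H := by rw [hH.sup_eq_top]; exact mem_top g
    obtain ⟨k, hk, h, hh, rfl⟩ := mem_sup_of_normal_left.1 hg
    refine ⟨h, hh, QuotientGroup.eq.2 ?_⟩
    have : h⁻¹ * (k * h) = h⁻¹ * k * h⁻¹⁻¹ := by group
    rw [this]
    exact D.kle (Normal.conj_mem inferInstance k hk h⁻¹)
  choose r hr hrQ using hrep
  refine ⟨fun Q => QuotientGroup.mk (r Q), fun Q => ?_, fun h hh => ?_⟩
  · rw [quotientMapOfLE_apply_mk]; exact hrQ Q
  · funext Q
    show h • (QuotientGroup.mk (r (h⁻¹ • Q)) : G ⧸ A) = QuotientGroup.mk (r Q)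
    show (QuotientGroup.mk (h * r (h⁻¹ • Q)) : G ⧸ A) = QuotientGroup.mk (r Q)
    rw [QuotientGroup.eq, ← hHU]
    refine ⟨(mul_mem (inv_mem (mul_mem hh (hr _))) (hr Q) :
      (h * r (h⁻¹ • Q))⁻¹ * r Q ∈ H), ?_⟩
    have h1 : (QuotientGroup.mk (h * r (h⁻¹ • Q)) : G ⧸ U) = QuotientGroup.mk (r Q) := by
      show h • (QuotientGroup.mk (r (h⁻¹ • Q)) : G ⧸ U) = QuotientGroup.mk (r Q)
      rw [hrQ, hrQ, smul_inv_smul]
    exact QuotientGroup.eq.1 h1

theorem exists_conj (D : Data K U A) (hcop : (Nat.card K).Coprime U.index) {H₀ H₁ : Subgroup G}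
    (h₀ : IsComplement' K H₀) (h₁ : IsComplement' K H₁) (hU₀ : H₀ ⊓ U = A) (hU₁ : H₁ ⊓ U = A) :
    ∃ g : G, MulAut.conj g • H₀ = H₁ := by
  obtain ⟨s, hs, hs'⟩ := exists_fixed_section D h₀ hU₀
  obtain ⟨t, ht, ht'⟩ := exists_fixed_section D h₁ hU₁
  obtain ⟨k, hk⟩ := (powCoprime hcop).surjective (diff D s t)
  rw [powCoprime_apply, ← diff_shift_mem D k hs] at hk
  have hks := isSection_shift D.ale (k : G) hs
  have h0 : diff D (shift (k : G) s) t = 1 := by
    have := diff_trans D hs hks ht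
    rwa [hk, left_eq_mul] at this
  have hcard : ∀ H : Subgroup G, IsComplement' K H → Nat.card H = K.index := fun H hH =>
    hH.symm.index_eq_card.symm
  have hst := isComplement'_stab D hcop ht
  have e1 : H₁ = stab D ht := eq_of_le_of_card_ge (fun h hh => by
    show diff D t (shift h t) = 1
    rw [ht' h hh, diff_self D ht]) (by rw [hcard _ hst, hcard _ h₁])
  refine ⟨(k : G), ?_⟩
  rw [e1]
  refine eq_of_le_of_card_ge ?_ (le_of_eq ?_)
  · rintro _ ⟨x, hx, rfl⟩
    show diff D t (shift ((k : G) * x * (k : G)⁻¹) t) = 1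
    have hfix : shift ((k : G) * x * (k : G)⁻¹) (shift (k : G) s) = shift (k : G) s := by
      rw [← shift_mul, inv_mul_cancel_right, shift_mul, hs' x hx]
    have hsec := isSection_shift D.ale ((k : G) * x * (k : G)⁻¹) ht
    rw [diff_trans D ht hks hsec]
    have h2 := diff_shift D ((k : G) * x * (k : G)⁻¹) hks ht
    rw [hfix, h0, map_one] at h2
    rw [h2, mul_one]
    have h3 := diff_trans D ht hks ht
    rwa [diff_self D ht, h0, mul_one, eq_comm] at h3
  · rw [hcard _ hst, Nat.card_congr (equivSMul (MulAut.conj (k : G)) H₀).toEquiv.symm, hcard _ h₀]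

end CfsgLib.Gaschutz
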