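import Mathlib.GroupTheory.Sylow
import Mathlib.GroupTheory.Solvable
import Mathlib.GroupTheory.Index

/-!
# Products of two subgroups, and Itô's theorem

A factorization is given as `∀ g, ∃ h ∈ H, ∃ k ∈ K, g = h * k`.
-/

set_option autoImplicit false

open scoped Pointwise commutatorElement

namespace CfsgLib.Factorization

open Subgroup

variable {G : Type*} [Group G] {H K : Subgroup G}

theorem swap (hHK : ∀ g : G, ∃ h ∈ H, ∃ k ∈ K, g = h * k) :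
    ∀ g : G, ∃ k ∈ K, ∃ h ∈ H, g = k * h := fun g =>
  let ⟨h, hh, k, hk, e⟩ := hHK g⁻¹
  ⟨k⁻¹, inv_mem hk, h⁻¹, inv_mem hh, by rw [← mul_inv_rev, ← e, inv_inv]⟩

theorem mem_conj_smul {g x : G} {H : Subgroup G} :
    x ∈ MulAut.conj g • H ↔ g⁻¹ * x * g ∈ H := by
  rw [Subgroup.mem_pointwise_smul_iff_inv_smul_mem]
  simp [MulAut.smul_def, mul_assoc]

theorem conj_smul_of_mem {h : G} (hh : h ∈ H) : MulAut.conj h • H = H := by
  ext x
  rw [mem_conj_smul, Subgroup.mul_mem_cancel_right _ hh,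
    Subgroup.mul_mem_cancel_left _ (inv_mem hh)]

theorem exists_conj (hHK : ∀ g : G, ∃ h ∈ H, ∃ k ∈ K, g = h * k) (x y : G) :
    ∃ g : G, MulAut.conj x • H = MulAut.conj g • H ∧ MulAut.conj y • K = MulAut.conj g • K := by
  obtain ⟨h, hh, k, hk, e⟩ := hHK (x⁻¹ * y)
  refine ⟨x * h, by rw [map_mul, mul_smul, conj_smul_of_mem hh], ?_⟩
  have : y = x * h * k := by rw [mul_assoc, ← e, mul_inv_cancel_left]
  rw [this, map_mul, mul_smul, conj_smul_of_mem hk]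

theorem conj_factorization (hHK : ∀ g : G, ∃ h ∈ H, ∃ k ∈ K, g = h * k) (x : G) :
    ∀ g : G, ∃ a ∈ MulAut.conj x • H, ∃ b ∈ MulAut.conj x • K, g = a * b := by
  intro g
  obtain ⟨h, hh, k, hk, e⟩ := hHK (x⁻¹ * g * x)
  exact ⟨x * h * x⁻¹, mem_conj_smul.2 (by simpa [mul_assoc] using hh), x * k * x⁻¹,
    mem_conj_smul.2 (by simpa [mul_assoc] using hk), by
      calc g = x * (x⁻¹ * g * x) * x⁻¹ := by group
        _ = _ := by rw [e]; group⟩

theorem index_eq_relIndex (hHK : ∀ g : G, ∃ h ∈ H, ∃ k ∈ K, g = h * k) :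
    K.index = K.relIndex H := by
  refine (Nat.card_congr (Equiv.ofBijective
    (Quotient.lift (fun h : H => (QuotientGroup.mk (h : G) : G ⧸ K)) ?_) ⟨?_, ?_⟩)).symm
  · intro a b hab
    have hab' : a⁻¹ * b ∈ K.subgroupOf H := QuotientGroup.leftRel_apply.1 hab
    exact QuotientGroup.eq.2 hab'
  · intro a b
    induction a using Quotient.inductionOn with | h a => ?_
    induction b using Quotient.inductionOn with | h b => ?_
    intro hab
    have hab' : (QuotientGroup.mk (a : G) : G ⧸ K) = QuotientGroup.mk (b : G) := hab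
    exact Quotient.sound (QuotientGroup.leftRel_apply.2 (show a⁻¹ * b ∈ K.subgroupOf H from
      (QuotientGroup.eq (s := K) (a := (a : G)) (b := (b : G))).1 hab'))
  · intro q
    induction q using QuotientGroup.induction_on with | H g => ?_
    obtain ⟨h, hh, k, hk, rfl⟩ := hHK g
    exact ⟨Quotient.mk'' ⟨h, hh⟩, QuotientGroup.eq.2 (by simpa using hk)⟩

variable [Finite G]

theorem card_mul_card (hHK : ∀ g : G, ∃ h ∈ H, ∃ k ∈ K, g = h * k) :
    Nat.card H * Nat.card K = Nat.card G * Nat.card (H ⊓ K : Subgroup G) := by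
  rw [← K.card_mul_index, index_eq_relIndex hHK, ← (K.subgroupOf H).card_mul_index,
    ← Subgroup.relIndex,
    show Nat.card (K.subgroupOf H) = Nat.card (H ⊓ K : Subgroup G) by
      rw [← card_map_of_injective H.subtype_injective, subgroupOf_map_subtype, inf_comm]]
  ring

/-- Sylow subgroups of `H` and `K` whose product is a Sylow subgroup of `G`. -/
theorem exists_sylow_product {p : ℕ} [Fact p.Prime]
    (hHK : ∀ g : G, ∃ h ∈ H, ∃ k ∈ K, g = h * k) :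
    ∃ (P : Sylow p H) (Q : Sylow p K) (R : Sylow p G),
      ((R : Subgroup G) : Set G) = (((P : Subgroup H).map H.subtype : Subgroup G) : Set G) *
        (((Q : Subgroup K).map K.subtype : Subgroup G) : Set G) := by
  obtain ⟨P₀⟩ : Nonempty (Sylow p H) := inferInstance
  obtain ⟨Q₀⟩ : Nonempty (Sylow p K) := inferInstance
  obtain ⟨R₀, hR₀⟩ := (P₀.isPGroup'.map H.subtype).exists_le_sylow
  obtain ⟨R₁, hR₁⟩ := (Q₀.isPGroup'.map K.subtype).exists_le_sylow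
  obtain ⟨g, hg⟩ := MulAction.exists_smul_eq G R₀ R₁
  obtain ⟨k, hk, h, hh, rfl⟩ := swap hHK g
  set P : Sylow p H := (⟨h, hh⟩ : H) • P₀ with hP
  set Q : Sylow p K := (⟨k, hk⟩ : K)⁻¹ • Q₀ with hQ
  set R : Sylow p G := h • R₀ with hR
  have hR' : R = k⁻¹ • R₁ := by rw [← hg, mul_smul, inv_smul_smul]
  have hPR : (P : Subgroup H).map H.subtype ≤ R := by
    rintro _ ⟨_, ⟨y, hy, rfl⟩, rfl⟩
    exact ⟨y, hR₀ ⟨y, hy, rfl⟩, rfl⟩
  have hQR : (Q : Subgroup K).map K.subtype ≤ R := by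
    rw [hR']
    rintro _ ⟨_, ⟨y, hy, rfl⟩, rfl⟩
    exact ⟨y, hR₁ ⟨y, hy, rfl⟩, rfl⟩
  refine ⟨P, Q, R, ?_⟩
  set P' := (P : Subgroup H).map H.subtype with hP'
  set Q' := (Q : Subgroup K).map K.subtype with hQ'
  -- cardinal bookkeeping
  have e := card_mul_card hHK
  have hfac := congrArg (fun n => n.factorization p) e
  simp only [Nat.factorization_mul Nat.card_pos.ne' Nat.card_pos.ne', Finsupp.add_apply] at hfac
  have hcP : Nat.card P' = p ^ (Nat.card H).factorization p := by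
    rw [card_map_of_injective H.subtype_injective, P.card_eq_multiplicity]
  have hcQ : Nat.card Q' = p ^ (Nat.card K).factorization p := by
    rw [card_map_of_injective K.subtype_injective, Q.card_eq_multiplicity]
  have hcR : Nat.card (R : Subgroup G) = p ^ (Nat.card G).factorization p := R.card_eq_multiplicity
  have hPQ : Nat.card (P' ⊓ Q' : Subgroup G) ≤
      p ^ (Nat.card (H ⊓ K : Subgroup G)).factorization p := by
    obtain ⟨j, hj⟩ := IsPGroup.iff_card.1 ((P.isPGroup'.map H.subtype).to_le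
      (inf_le_left : P' ⊓ Q' ≤ P'))
    have hd : p ^ j ∣ Nat.card (H ⊓ K : Subgroup G) := hj ▸ Subgroup.card_dvd_of_le
      (inf_le_inf (map_subtype_le _) (map_subtype_le _))
    rw [hj]
    exact Nat.pow_le_pow_right (Fact.out : p.Prime).pos
      (((Fact.out : p.Prime).pow_dvd_iff_le_factorization Nat.card_pos.ne').1 hd)
  -- the map `P'/(P' ∩ Q') → R/Q'` is bijective
  let f : P' ⧸ Q'.subgroupOf P' → (R : Subgroup G) ⧸ Q'.subgroupOf R :=
    Quotient.lift (fun x : P' => QuotientGroup.mk (Subgroup.inclusion hPR x)) (fun a b hab =>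
      QuotientGroup.eq.2 (show (Subgroup.inclusion hPR a)⁻¹ * Subgroup.inclusion hPR b ∈
        Q'.subgroupOf R from (QuotientGroup.leftRel_apply.1 hab : a⁻¹ * b ∈ Q'.subgroupOf P')))
  have hf : Function.Injective f := by
    intro a b
    induction a using Quotient.inductionOn with | h a => ?_
    induction b using Quotient.inductionOn with | h b => ?_
    intro hab
    exact Quotient.sound (QuotientGroup.leftRel_apply.2 (QuotientGroup.eq.1 hab :))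
  have hcard : Nat.card ((R : Subgroup G) ⧸ Q'.subgroupOf R) ≤
      Nat.card (P' ⧸ Q'.subgroupOf P') := by
    have h1 : Nat.card (P' ⊓ Q' : Subgroup G) * Nat.card (P' ⧸ Q'.subgroupOf P') = Nat.card P' := by
      rw [show Nat.card (P' ⊓ Q' : Subgroup G) = Nat.card (Q'.subgroupOf P') by
        rw [← card_map_of_injective P'.subtype_injective, subgroupOf_map_subtype, inf_comm]]
      exact (Q'.subgroupOf P').card_mul_index
    have h2 : Nat.card Q' * Nat.card ((R : Subgroup G) ⧸ Q'.subgroupOf R) =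
        Nat.card (R : Subgroup G) := by
      rw [← Nat.card_congr (subgroupOfEquivOfLe hQR).toEquiv]
      exact (Q'.subgroupOf (R : Subgroup G)).card_mul_index
    set m := Nat.card (P' ⧸ Q'.subgroupOf P')
    set n := Nat.card ((R : Subgroup G) ⧸ Q'.subgroupOf R)
    rw [hcQ, hcR] at h2
    rw [hcP] at h1
    set w := (Nat.card (H ⊓ K : Subgroup G)).factorization p
    refine Nat.le_of_mul_le_mul_left ?_ (Nat.mul_pos (pow_pos (Fact.out : p.Prime).pos w)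
      (pow_pos (Fact.out : p.Prime).pos ((Nat.card K).factorization p)))
    calc p ^ w * p ^ (Nat.card K).factorization p * n
        = p ^ w * p ^ (Nat.card G).factorization p := by rw [mul_assoc, h2]
      _ = p ^ (Nat.card H).factorization p * p ^ (Nat.card K).factorization p := by
          rw [← pow_add, ← pow_add, hfac, add_comm]
      _ ≤ p ^ w * m * p ^ (Nat.card K).factorization p := by
          rw [← h1]; gcongr
      _ = _ := by ring
  have hbij : Function.Bijective f :=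
    hf.bijective_of_nat_card_le hcard
  refine Set.Subset.antisymm (fun r hr => ?_) ?_
  · obtain ⟨a, ha⟩ := hbij.2 (QuotientGroup.mk ⟨r, hr⟩)
    induction a using Quotient.inductionOn with | h a => ?_
    have hmem := QuotientGroup.eq.1 ha
    exact ⟨a, a.2, (a : G)⁻¹ * r, hmem, by simp⟩
  · rintro _ ⟨a, ha, b, hb, rfl⟩
    exact mul_mem (hPR ha) (hQR hb)

omit [Finite G]

/-- Itô: if `G = AB` with `A`, `B` abelian then `G'` is abelian. -/
theorem ito (A B : Subgroup G) [IsMulCommutative A] [IsMulCommutative B]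
    (hAB : ∀ g : G, ∃ a ∈ A, ∃ b ∈ B, g = a * b) : derivedSeries G 2 = ⊥ := by
  have hcA : ∀ {x y : G}, x ∈ A → y ∈ A → x * y = y * x := fun {x y} hx hy =>
    congrArg Subtype.val (mul_comm' (⟨x, hx⟩ : A) ⟨y, hy⟩)
  have hcB : ∀ {x y : G}, x ∈ B → y ∈ B → x * y = y * x := fun {x y} hx hy =>
    congrArg Subtype.val (mul_comm' (⟨x, hx⟩ : B) ⟨y, hy⟩)
  -- conjugation of a commutator by an element of `A`
  have hA : ∀ a ∈ A, ∀ b ∈ B, ∀ a₁ ∈ A, ∀ b₂ ∈ B, ∀ a₂ ∈ A, a₁ * b * a₁⁻¹ = b₂ * a₂ →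
      a₁ * ⁅a, b⁆ * a₁⁻¹ = ⁅a, b₂⁆ := by
    intro a ha b _ a₁ ha₁ b₂ _ a₂ ha₂ e
    have h1 : a₁ * ⁅a, b⁆ * a₁⁻¹ = ⁅a₁ * a * a₁⁻¹, a₁ * b * a₁⁻¹⁆ := by
      simp [commutatorElement_def, mul_assoc]
    have h2 : a₁ * a * a₁⁻¹ = a := by rw [hcA ha₁ ha]; group
    rw [h1, h2, e]
    have h3 : a * a₂ * a⁻¹ = a₂ := by rw [hcA ha ha₂]; group
    calc ⁅a, b₂ * a₂⁆ = a * b₂ * a⁻¹ * (a * a₂ * a⁻¹) * a₂⁻¹ * b₂⁻¹ := by
          simp [commutatorElement_def, mul_assoc]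
      _ = ⁅a, b₂⁆ := by rw [h3]; simp [commutatorElement_def, mul_assoc]
  have hB : ∀ a ∈ A, ∀ b ∈ B, ∀ b₁ ∈ B, ∀ a₃ ∈ A, ∀ b₃ ∈ B, b₁ * a * b₁⁻¹ = a₃ * b₃ →
      b₁ * ⁅a, b⁆ * b₁⁻¹ = ⁅a₃, b⁆ := by
    intro a _ b hb b₁ hb₁ a₃ _ b₃ hb₃ e
    have h1 : b₁ * ⁅a, b⁆ * b₁⁻¹ = ⁅b₁ * a * b₁⁻¹, b₁ * b * b₁⁻¹⁆ := by
      simp [commutatorElement_def, mul_assoc]
    have h2 : b₁ * b * b₁⁻¹ = b := by rw [hcB hb₁ hb]; group
    rw [h1, h2, e]
    have h3 : b₃ * b * b₃⁻¹ = b := by rw [hcB hb₃ hb]; group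
    calc ⁅a₃ * b₃, b⁆ = a₃ * (b₃ * b * b₃⁻¹) * a₃⁻¹ * b⁻¹ := by
          simp [commutatorElement_def, mul_assoc]
      _ = ⁅a₃, b⁆ := by rw [h3]; simp [commutatorElement_def]
  -- `G'` lies in the normal subgroup generated by the commutators `⁅a, b⁆`
  have hnA : A ≤ normalizer ((⁅A, B⁆ : Subgroup G) : Set G) := by
    intro a₁ ha₁
    have key : ∀ a₁ ∈ A, ∀ x ∈ ⁅A, B⁆, a₁ * x * a₁⁻¹ ∈ ⁅A, B⁆ := by
      intro a₁ ha₁ x hx
      suffices hle : ⁅A, B⁆ ≤ (⁅A, B⁆).comap (MulAut.conj a₁).toMonoidHom from hle hx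
      rw [commutator_le]
      intro a ha b hb
      obtain ⟨b₂, hb₂, a₂, ha₂, e⟩ := swap hAB (a₁ * b * a₁⁻¹)
      show a₁ * ⁅a, b⁆ * a₁⁻¹ ∈ ⁅A, B⁆
      rw [hA a ha b hb a₁ ha₁ b₂ hb₂ a₂ ha₂ e]
      exact commutator_mem_commutator ha hb₂
    refine mem_normalizer_iff.2 fun x => ⟨key a₁ ha₁ x, fun hx => ?_⟩
    simpa [mul_assoc] using key a₁⁻¹ (inv_mem ha₁) _ hx
  have hnB : B ≤ normalizer ((⁅A, B⁆ : Subgroup G) : Set G) := by
    intro b₁ hb₁
    have key : ∀ b₁ ∈ B, ∀ x ∈ ⁅A, B⁆, b₁ * x * b₁⁻¹ ∈ ⁅A, B⁆ := by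
      intro b₁ hb₁ x hx
      suffices hle : ⁅A, B⁆ ≤ (⁅A, B⁆).comap (MulAut.conj b₁).toMonoidHom from hle hx
      rw [commutator_le]
      intro a ha b hb
      obtain ⟨a₃, ha₃, b₃, hb₃, e⟩ := hAB (b₁ * a * b₁⁻¹)
      show b₁ * ⁅a, b⁆ * b₁⁻¹ ∈ ⁅A, B⁆
      rw [hB a ha b hb b₁ hb₁ a₃ ha₃ b₃ hb₃ e]
      exact commutator_mem_commutator ha₃ hb
    refine mem_normalizer_iff.2 fun x => ⟨key b₁ hb₁ x, fun hx => ?_⟩
    simpa [mul_assoc] using key b₁⁻¹ (inv_mem hb₁) _ hx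
  haveI hn : (⁅A, B⁆ : Subgroup G).Normal := by
    refine normalizer_eq_top_iff.1 (eq_top_iff.2 fun g _ => ?_)
    obtain ⟨a, ha, b, hb, rfl⟩ := hAB g
    exact mul_mem (hnA ha) (hnB hb)
  have hle : commutator G ≤ ⁅A, B⁆ := by
    refine Normal.quotient_commutative_iff_commutator_le.1 ⟨⟨fun x y => ?_⟩⟩
    induction x using QuotientGroup.induction_on with | H x => ?_
    induction y using QuotientGroup.induction_on with | H y => ?_
    obtain ⟨a, ha, b, hb, rfl⟩ := hAB x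
    obtain ⟨a', ha', b', hb', rfl⟩ := hAB y
    have c : ∀ a ∈ A, ∀ b ∈ B, Commute (a : G ⧸ ⁅A, B⁆) (b : G ⧸ ⁅A, B⁆) := by
      intro a ha b hb
      refine commutatorElement_eq_one_iff_commute.1 ?_
      rw [← QuotientGroup.mk'_apply, ← QuotientGroup.mk'_apply, ← map_commutatorElement,
        QuotientGroup.mk'_apply, QuotientGroup.eq_one_iff]
      exact commutator_mem_commutator ha hb
    have ca : Commute (a : G ⧸ ⁅A, B⁆) (a' : G ⧸ ⁅A, B⁆) :=
      (show Commute a a' from hcA ha ha').map (QuotientGroup.mk' _)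
    have cb : Commute (b : G ⧸ ⁅A, B⁆) (b' : G ⧸ ⁅A, B⁆) :=
      (show Commute b b' from hcB hb hb').map (QuotientGroup.mk' _)
    exact (((ca.mul_right (c a ha b' hb')).mul_left ((c a' ha' b hb).symm.mul_right cb))).eq
  -- the generators of `⁅A, B⁆` commute
  have hconj : ∀ a ∈ A, ∀ b ∈ B, ∀ a₁ ∈ A, ∀ b₁ ∈ B,
      (a₁ * b₁) * ⁅a, b⁆ * (a₁ * b₁)⁻¹ = (b₁ * a₁) * ⁅a, b⁆ * (b₁ * a₁)⁻¹ := by
    intro a ha b hb a₁ ha₁ b₁ hb₁
    obtain ⟨b₂, hb₂, a₂, ha₂, e₂⟩ := swap hAB (a₁ * b * a₁⁻¹)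
    obtain ⟨a₃, ha₃, b₃, hb₃, e₃⟩ := hAB (b₁ * a * b₁⁻¹)
    calc (a₁ * b₁) * ⁅a, b⁆ * (a₁ * b₁)⁻¹ = a₁ * (b₁ * ⁅a, b⁆ * b₁⁻¹) * a₁⁻¹ := by group
      _ = ⁅a₃, b₂⁆ := by
        rw [hB a ha b hb b₁ hb₁ a₃ ha₃ b₃ hb₃ e₃, hA a₃ ha₃ b hb a₁ ha₁ b₂ hb₂ a₂ ha₂ e₂]
      _ = b₁ * (a₁ * ⁅a, b⁆ * a₁⁻¹) * b₁⁻¹ := by
        rw [hA a ha b hb a₁ ha₁ b₂ hb₂ a₂ ha₂ e₂, hB a ha b₂ hb₂ b₁ hb₁ a₃ ha₃ b₃ hb₃ e₃]
      _ = _ := by group
  have hcomm : ∀ a ∈ A, ∀ b ∈ B, ∀ a' ∈ A, ∀ b' ∈ B, Commute ⁅a', b'⁆ ⁅a, b⁆ := by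
    intro a ha b hb a' ha' b' hb'
    set c := ⁅a, b⁆
    have h1 := hconj a ha b hb a'⁻¹ (inv_mem ha') b'⁻¹ (inv_mem hb')
    show ⁅a', b'⁆ * c = c * ⁅a', b'⁆
    calc ⁅a', b'⁆ * c = a' * b' * ((a'⁻¹ * b'⁻¹) * c * (a'⁻¹ * b'⁻¹)⁻¹) * (a'⁻¹ * b'⁻¹) := by
          simp [commutatorElement_def, mul_assoc]
      _ = c * ⁅a', b'⁆ := by rw [h1]; simp [c, commutatorElement_def, mul_assoc]
  have hab : ⁅(⁅A, B⁆ : Subgroup G), ⁅A, B⁆⁆ = ⊥ := by
    rw [commutator_eq_bot_iff_le_centralizer, commutator_le]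
    intro a ha b hb
    refine mem_centralizer_iff.2 fun x hx => ?_
    suffices hle : ⁅A, B⁆ ≤ centralizer ({⁅a, b⁆} : Set G) from
      ((mem_centralizer_iff.1 (hle hx)) _ rfl).symm
    rw [commutator_le]
    intro a' ha' b' hb'
    refine mem_centralizer_iff.2 ?_
    rintro _ rfl
    exact (hcomm a ha b hb a' ha' b' hb').eq.symm
  rw [derivedSeries_succ, derivedSeries_one, eq_bot_iff, ← hab]
  exact commutator_mono hle hle

end CfsgLib.Factorization
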