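import Cfsg.Prelude.Def_SolvableStructure
import Cfsg.Agent.Lib.Coprime.SchurZassenhaus
import Cfsg.Agent.Lib.PCore.Basic
import Cfsg.Agent.Lib.Transfer.NormalComplement
import Cfsg.Agent.Lib.Solvable.NilpotentSubgroups

/-!
# Carter subgroups of finite solvable groups
-/

set_option autoImplicit false
set_option linter.style.haveILetI false
open Pointwise
open scoped commutatorElement

namespace CfsgLib.Carter

universe u

variable {G : Type u} [Group G]

/-- The subgroup generated by the `p'`-elements of `C`. -/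
def pp (p : ℕ) (C : Subgroup G) : Subgroup G :=
  Subgroup.closure {x | x ∈ C ∧ (orderOf x).Coprime p}

theorem mem_pp {p : ℕ} {C : Subgroup G} {x : G} (hx : x ∈ C) (h : (orderOf x).Coprime p) :
    x ∈ pp p C :=
  Subgroup.subset_closure ⟨hx, h⟩

theorem pp_le (p : ℕ) (C : Subgroup G) : pp p C ≤ C :=
  (Subgroup.closure_le C).2 fun _ hx => hx.1

theorem pp_map {H : Type u} [Group H] (p : ℕ) (e : G ≃* H) (C : Subgroup G) :
    pp p (C.map e.toMonoidHom) = (pp p C).map e.toMonoidHom := by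
  unfold pp
  rw [MonoidHom.map_closure]
  congr 1
  ext y
  constructor
  · rintro ⟨⟨x, hx, rfl⟩, hy⟩
    exact ⟨x, ⟨hx, by rwa [← orderOf_injective e.toMonoidHom e.injective]⟩, rfl⟩
  · rintro ⟨x, ⟨hx, hxo⟩, rfl⟩
    exact ⟨⟨x, hx, rfl⟩, by rwa [orderOf_injective e.toMonoidHom e.injective]⟩

theorem pp_smul (p : ℕ) (g : G) (C : Subgroup G) :
    pp p (MulAut.conj g • C) = MulAut.conj g • pp p C :=
  pp_map p (MulAut.conj g) C

theorem pp_eq_map (p : ℕ) (C : Subgroup G) : pp p C = (Cfsg.pResidual p C).map C.subtype := by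
  unfold pp Cfsg.pResidual
  rw [MonoidHom.map_closure]
  congr 1
  ext y
  constructor
  · rintro ⟨hy, hyo⟩
    exact ⟨⟨y, hy⟩, show Nat.Coprime _ p by rwa [← Subgroup.orderOf_coe], rfl⟩
  · rintro ⟨x, hx, rfl⟩
    exact ⟨x.2, by rw [Subgroup.coe_subtype, Subgroup.orderOf_coe]; exact hx⟩

theorem normalizer_le_pp (p : ℕ) (C : Subgroup G) :
    Subgroup.normalizer (C : Set G) ≤ Subgroup.normalizer (pp p C : Set G) := by
  intro g hg
  rw [Subgroup.mem_normalizer_iff_map_conj_eq] at hg ⊢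
  exact (pp_map p (MulAut.conj g) C).symm.trans (congrArg _ hg)

theorem not_dvd_card_pp [Finite G] (p : ℕ) [Fact p.Prime] (C : Subgroup G) [Group.IsNilpotent C] :
    ¬ p ∣ Nat.card (pp p C) := by
  rw [pp_eq_map, Subgroup.card_map_of_injective C.subtype_injective]
  exact CfsgLib.Transfer.hasNormalPComplement_iff.1
    CfsgLib.NilpotentSubgroups.hasNormalPComplement_of_nilpotent

/-- Two normal subgroups meeting trivially, with nilpotent quotients. -/
theorem isNilpotent_of_two_quotients {X : Type u} [Group X] (A B : Subgroup X) [A.Normal]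
    [B.Normal] (h : A ⊓ B = ⊥) (hA : Group.IsNilpotent (X ⧸ A)) (hB : Group.IsNilpotent (X ⧸ B)) :
    Group.IsNilpotent X :=
  haveI := hA
  haveI := hB
  Subgroup.isNilpotent_of_ker_le_center ((QuotientGroup.mk' A).prod (QuotientGroup.mk' B))
    (by rw [MonoidHom.ker_prod, QuotientGroup.ker_mk', QuotientGroup.ker_mk', h]; exact bot_le)

theorem mem_normalizer_of_smul_eq {H : Subgroup G} {g : G} (h : MulAut.conj g • H = H) :
    g ∈ Subgroup.normalizer (H : Set G) :=
  Subgroup.mem_normalizer_iff_map_conj_eq.2 h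

theorem smul_eq_of_mem_normalizer {H : Subgroup G} {g : G}
    (h : g ∈ Subgroup.normalizer (H : Set G)) : MulAut.conj g • H = H :=
  Subgroup.mem_normalizer_iff_map_conj_eq.1 h

theorem isCarter_smul {C : Subgroup G} (hC : Cfsg.IsCarterSubgroup C) (g : G) :
    Cfsg.IsCarterSubgroup (MulAut.conj g • C) := by
  obtain ⟨hn, hN⟩ := hC
  haveI := hn
  refine ⟨?_, ?_⟩
  · exact Group.nilpotent_of_mulEquiv (Subgroup.equivSMul (MulAut.conj g) C)
  · show Subgroup.normalizer ((C.map (MulAut.conj g).toMonoidHom : Subgroup G) : Set G) =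
      C.map (MulAut.conj g).toMonoidHom
    rw [← Subgroup.map_equiv_normalizer_eq, hN]

theorem isCarter_subgroupOf {C K : Subgroup G} (hC : Cfsg.IsCarterSubgroup C) (hle : C ≤ K) :
    Cfsg.IsCarterSubgroup (C.subgroupOf K) := by
  obtain ⟨hn, hN⟩ := hC
  haveI := hn
  refine ⟨Group.nilpotent_of_mulEquiv (Subgroup.subgroupOfEquivOfLe hle).symm, ?_⟩
  refine le_antisymm (fun x hx => ?_) Subgroup.le_normalizer
  have h1 := Subgroup.le_normalizer_map K.subtype (Subgroup.mem_map_of_mem K.subtype hx)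
  rw [Subgroup.map_subgroupOf_eq_of_le hle, hN] at h1
  exact h1

/-- Complements to an abelian normal subgroup inside an intermediate subgroup. -/
theorem conj_in [Finite G] (A M : Subgroup G) [A.Normal] [IsMulCommutative A] (hAM : A ≤ M)
    {n : ℕ} (hn : Nat.card M = Nat.card A * n) (hcop : (Nat.card A).Coprime n) {H K : Subgroup G}
    (hH : H ≤ M) (hK : K ≤ M) (hHc : Nat.card H = n) (hKc : Nat.card K = n) :
    ∃ a ∈ A, MulAut.conj a • H = K := by
  haveI : IsMulCommutative (A.subgroupOf M) := ⟨⟨fun a b => Subtype.ext (Subtype.ext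
    (setLike_mul_comm (Subgroup.mem_subgroupOf.1 a.2) (Subgroup.mem_subgroupOf.1 b.2)))⟩⟩
  have hidx : (A.subgroupOf M).index = n := by
    have h1 := (A.subgroupOf M).card_mul_index
    rw [CfsgLib.Coprime.card_subgroupOf hAM, hn] at h1
    exact Nat.eq_of_mul_eq_mul_left Nat.card_pos h1
  obtain ⟨a, ha, he⟩ := CfsgLib.Coprime.conj_complement_abelian (A.subgroupOf M)
    (by rwa [CfsgLib.Coprime.card_subgroupOf hAM, hidx]) (H.subgroupOf M) (K.subgroupOf M)
    (by rw [CfsgLib.Coprime.card_subgroupOf hH, hHc, hidx])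
    (by rw [CfsgLib.Coprime.card_subgroupOf hK, hKc, hidx])
  refine ⟨a, ha, CfsgLib.Coprime.conj_smul_eq_of_le (CfsgLib.Coprime.conj_smul_le.2 fun x hx => ?_)
    (by rw [hHc, hKc])⟩
  have h1 : (a * ⟨x, hH hx⟩ * a⁻¹ : M) ∈ MulAut.conj a • H.subgroupOf M :=
    Subgroup.smul_mem_pointwise_smul (⟨x, hH hx⟩ : M) (MulAut.conj a) _ hx
  rw [he] at h1
  exact h1

theorem inf_eq_bot_of_not_dvd [Finite G] {p : ℕ} [hp : Fact p.Prime] {N Q : Subgroup G}
    (hN : IsPGroup p N) (hQ : ¬ p ∣ Nat.card Q) : N ⊓ Q = ⊥ :=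
  CfsgLib.PCore.inf_eq_bot_of_isPGroup_coprime hN (CfsgLib.PCore.coprime_of_not_dvd_card hQ)

/-- An extension of `N` by a `p'`-group times a complement: `x ^ (p ^ k)` falls in the complement. -/
theorem pow_mem_of_normal {X : Type u} [Group X] [Finite X] {p : ℕ} [Fact p.Prime]
    (N Q : Subgroup X) [Q.Normal] (hN : IsPGroup p N) {x : X} (hx : x ∈ N ⊔ Q) :
    ∃ k : ℕ, x ^ p ^ k ∈ Q := by
  rw [← SetLike.mem_coe, Subgroup.mul_normal] at hx
  obtain ⟨a, ha, b, hb, rfl⟩ := hx
  obtain ⟨k, hk⟩ := hN ⟨a, ha⟩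
  refine ⟨k, (QuotientGroup.eq_one_iff _).1 ?_⟩
  have h1 : a ^ p ^ k = 1 := congrArg Subtype.val hk
  rw [QuotientGroup.mk_pow, QuotientGroup.mk_mul, (QuotientGroup.eq_one_iff b).2 hb, mul_one,
    ← QuotientGroup.mk_pow, h1, QuotientGroup.mk_one]

theorem card_lt_of_ne_top [Finite G] {K : Subgroup G} (h : K ≠ ⊤) : Nat.card K < Nat.card G :=
  lt_of_le_of_ne (Subgroup.card_le_card_group K) fun h' => h (Subgroup.eq_top_of_card_eq K h')

theorem card_quot_lt [Finite G] {N : Subgroup G} [N.Normal] (h : N ≠ ⊥) :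
    Nat.card (G ⧸ N) < Nat.card G := by
  rw [Subgroup.card_eq_card_quotient_mul_card_subgroup N]
  exact lt_mul_of_one_lt_right Nat.card_pos ((Subgroup.one_lt_card_iff_ne_bot N).2 h)

/-- Existence of Carter subgroups. -/
theorem exists_carter : ∀ (n : ℕ) {G : Type u} [Group G] [Finite G], Nat.card G = n →
    Group.IsSolvable G → ∃ C : Subgroup G, Cfsg.IsCarterSubgroup C := by
  intro n
  induction n using Nat.strong_induction_on with
  | _ n IH =>
  intro G _ _ hn hsol
  subst hn
  rcases subsingleton_or_nontrivial G with hG | hG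
  · refine ⟨⊤, ?_, ?_⟩
    · exact inferInstance
    · exact le_antisymm le_top Subgroup.le_normalizer
  obtain ⟨p, hp, P, hPn, hPp, hP⟩ := CfsgLib.Coprime.exists_normal_pgroup_of_solvable G hsol
  haveI := Fact.mk hp
  obtain ⟨N, hNn, hNc, hN, hNP⟩ := CfsgLib.Coprime.exists_normal_abelian_le P inferInstance hP
  haveI := hNn
  haveI := hNc
  have hNp : IsPGroup p N := hPp.to_le hNP
  let q := QuotientGroup.mk' N
  have hqs : Function.Surjective q := QuotientGroup.mk'_surjective N
  obtain ⟨Cb, hCb⟩ := IH _ (card_quot_lt hN) (G := G ⧸ N) rfl inferInstance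
  haveI := hCb.1
  let K := Cb.comap q
  let M := (pp p Cb).comap q
  have hNM : N ≤ M := fun x hx => by
    show q x ∈ pp p Cb
    rw [show q x = 1 from (QuotientGroup.eq_one_iff x).2 hx]; exact one_mem _
  have hMK : M ≤ K := Subgroup.comap_mono (pp_le p Cb)
  have hKM : K ≤ Subgroup.normalizer (M : Set G) := by
    refine le_trans (Subgroup.comap_mono ?_) (Subgroup.le_normalizer_comap q)
    exact Subgroup.le_normalizer.trans (normalizer_le_pp p Cb)
  set m := Nat.card (pp p Cb) with hm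
  have hpm : ¬ p ∣ m := not_dvd_card_pp p Cb
  have hMcard : Nat.card M = Nat.card N * m := CfsgLib.PCore.card_comap_mk' N _
  have hcop : (Nat.card N).Coprime m := by
    obtain ⟨i, hi⟩ := hNp.exists_card_eq
    rw [hi]; exact (hp.coprime_iff_not_dvd.2 hpm).pow_left i
  -- a complement of `N` in `M`
  obtain ⟨Q0, hQ0⟩ := Subgroup.exists_right_complement'_of_coprime (N := N.subgroupOf M) (by
    have h1 := (N.subgroupOf M).card_mul_index
    rw [CfsgLib.Coprime.card_subgroupOf hNM, hMcard] at h1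
    rw [CfsgLib.Coprime.card_subgroupOf hNM, Nat.eq_of_mul_eq_mul_left Nat.card_pos h1]
    exact hcop)
  let Q := Q0.map M.subtype
  have hQM : Q ≤ M := Subgroup.map_subtype_le _
  have hQc : Nat.card Q = m := by
    have h1 := hQ0.card_mul_card
    rw [CfsgLib.Coprime.card_subgroupOf hNM, hMcard] at h1
    rw [Subgroup.card_map_of_injective M.subtype_injective]
    exact Nat.eq_of_mul_eq_mul_left Nat.card_pos h1
  have hNQ : N ⊔ Q = M := by
    have h1 := congrArg (Subgroup.map M.subtype) hQ0.sup_eq_top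
    rwa [Subgroup.map_sup, Subgroup.map_subgroupOf_eq_of_le hNM, ← MonoidHom.range_eq_map,
      Subgroup.range_subtype] at h1
  have hdis : N ⊓ Q = ⊥ := inf_eq_bot_of_not_dvd hNp (hQc ▸ hpm)
  let C := K ⊓ Subgroup.normalizer (Q : Set G)
  have hQC : Q ≤ C := le_inf (hQM.trans hMK) Subgroup.le_normalizer
  have hfr : ∀ k ∈ K, ∃ a ∈ N, a * k ∈ C := by
    intro k hk
    obtain ⟨a, ha, he⟩ := conj_in N M hNM hMcard hcop (H := MulAut.conj k • Q) (K := Q)
      (CfsgLib.Coprime.conj_smul_le.2 fun x hx =>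
        (Subgroup.mem_normalizer_iff.1 (hKM hk) x).1 (hQM hx))
      hQM (by rw [CfsgLib.Coprime.card_conj_smul, hQc]) hQc
    refine ⟨a, ha, mul_mem (hMK (hNM ha)) hk, mem_normalizer_of_smul_eq ?_⟩
    rw [map_mul, mul_smul, he]
  -- the `p'`-elements of `C` lie in `Q`
  have hpC : ∀ c ∈ C, (orderOf c).Coprime p → c ∈ Q := by
    intro c hc ho
    have hcM : c ∈ M := mem_pp hc.1 (ho.coprime_dvd_left (orderOf_map_dvd q c))
    rw [← hNQ, ← SetLike.mem_coe, Subgroup.normal_mul] at hcM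
    obtain ⟨a, ha, y, hy, rfl⟩ := hcM
    have haN : a ∈ Subgroup.normalizer (Q : Set G) := by
      have hcN : a * y ∈ Subgroup.normalizer (Q : Set G) := (Subgroup.mem_inf.1 hc).2
      have := mul_mem hcN (inv_mem (Subgroup.le_normalizer hy))
      rwa [mul_inv_cancel_right] at this
    have hcomm : Commute a y := by
      have h1 : ⁅a, y⁆ ∈ N ⊓ Q := by
        refine Subgroup.mem_inf.2 ⟨?_, ?_⟩
        · have := mul_mem ha (Subgroup.Normal.conj_mem hNn _ (inv_mem ha) y)
          rw [commutatorElement_def]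
          simpa [mul_assoc] using this
        · exact mul_mem ((Subgroup.mem_normalizer_iff.1 haN y).1 hy) (inv_mem hy)
      rw [hdis, Subgroup.mem_bot] at h1
      exact commutatorElement_eq_one_iff_mul_comm.1 h1
    have h2 : a ^ orderOf (a * y) = 1 := by
      have h3 := pow_orderOf_eq_one (a * y)
      rw [hcomm.mul_pow] at h3
      have h4 : a ^ orderOf (a * y) ∈ N ⊓ Q := Subgroup.mem_inf.2
        ⟨pow_mem ha _, by rw [eq_inv_of_mul_eq_one_left h3]; exact inv_mem (pow_mem hy _)⟩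
      rwa [hdis, Subgroup.mem_bot] at h4
    obtain ⟨i, hi⟩ := IsPGroup.iff_orderOf.1 hNp ⟨a, ha⟩
    rw [Subgroup.orderOf_mk] at hi
    have h5 : orderOf a = 1 := Nat.eq_one_of_dvd_coprimes (ho.pow_right i)
      (orderOf_dvd_of_pow_eq_one h2) hi.dvd
    show a * y ∈ Q
    rw [orderOf_eq_one_iff.1 h5, one_mul]
    exact hy
  have hpp : pp p C = Q := by
    refine le_antisymm ((Subgroup.closure_le Q).2 fun x hx => hpC x hx.1 hx.2) fun y hy => ?_
    exact mem_pp (hQC hy) (CfsgLib.Transfer.coprime_orderOf_of_not_dvd (hQc ▸ hpm) hy)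
  have hCmap : C.map q = Cb := by
    refine le_antisymm ?_ fun y hy => ?_
    · rintro _ ⟨x, hx, rfl⟩
      exact hx.1
    · obtain ⟨k, rfl⟩ := hqs y
      obtain ⟨a, ha, hak⟩ := hfr k hy
      refine ⟨a * k, hak, ?_⟩
      rw [map_mul, show q a = 1 from (QuotientGroup.eq_one_iff a).2 ha, one_mul]
  refine ⟨C, ?_, le_antisymm (fun g hg => ?_) Subgroup.le_normalizer⟩
  · haveI : (Q.subgroupOf C).Normal :=
      Subgroup.normal_subgroupOf_iff_le_normalizer hQC |>.2 inf_le_right
    refine isNilpotent_of_two_quotients (N.subgroupOf C) (Q.subgroupOf C) ?_ ?_ ?_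
    · show (N ⊓ Q).subgroupOf C = ⊥
      rw [hdis, Subgroup.bot_subgroupOf]
    · let f : C →* Cb := (q.comp C.subtype).codRestrict Cb fun x => x.2.1
      have hf : Function.Surjective f := by
        rintro ⟨y, hy⟩
        rw [← hCmap] at hy
        obtain ⟨x, hx, rfl⟩ := hy
        exact ⟨⟨x, hx⟩, rfl⟩
      have hker : f.ker = N.subgroupOf C := by
        ext x
        rw [MonoidHom.mem_ker, Subgroup.mem_subgroupOf]
        exact ⟨fun h => (QuotientGroup.eq_one_iff _).1 (congrArg Subtype.val h),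
          fun h => Subtype.ext ((QuotientGroup.eq_one_iff _).2 h)⟩
      exact Group.nilpotent_of_mulEquiv
        ((QuotientGroup.quotientMulEquivOfEq hker.symm).trans
          (QuotientGroup.quotientKerEquivOfSurjective f hf)).symm
    · refine IsPGroup.isNilpotent (p := p) fun z => ?_
      induction z using QuotientGroup.induction_on with
      | H c =>
        obtain ⟨i, j, hj, ho⟩ :=
          Nat.exists_eq_pow_mul_and_not_dvd (orderOf_pos (c : G)).ne' p hp.ne_one
        refine ⟨i, ?_⟩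
        rw [← QuotientGroup.mk_pow, QuotientGroup.eq_one_iff, Subgroup.mem_subgroupOf]
        refine hpC _ (C.pow_mem c.2 _) ?_
        rw [Subgroup.coe_pow, orderOf_pow, ho, Nat.gcd_mul_right_left,
          Nat.mul_div_cancel_left _ (pow_pos hp.pos i)]
        exact CfsgLib.PCore.coprime_of_not_dvd_card hj
  · refine ⟨?_, hpp ▸ normalizer_le_pp p C hg⟩
    have h1 := Subgroup.le_normalizer_map q (Subgroup.mem_map_of_mem q hg)
    rw [hCmap, hCb.2] at h1
    exact h1

/-- Conjugacy of Carter subgroups. -/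
theorem carter_conj : ∀ (n : ℕ) {G : Type u} [Group G] [Finite G], Nat.card G = n →
    Group.IsSolvable G → ∀ C D : Subgroup G, Cfsg.IsCarterSubgroup C → Cfsg.IsCarterSubgroup D →
      ∃ g : G, MulAut.conj g • C = D := by
  intro n
  induction n using Nat.strong_induction_on with
  | _ n IH =>
  intro G _ _ hn hsol C D hC hD
  subst hn
  rcases subsingleton_or_nontrivial G with hG | hG
  · exact ⟨1, Subsingleton.elim _ _⟩
  have conj_sub : ∀ (K C₁ D₁ : Subgroup G), K ≠ ⊤ → C₁ ≤ K → D₁ ≤ K → Cfsg.IsCarterSubgroup C₁ →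
      Cfsg.IsCarterSubgroup D₁ → ∃ k ∈ K, MulAut.conj k • C₁ = D₁ := by
    intro K C₁ D₁ hK h1 h2 hC₁ hD₁
    obtain ⟨k, hk⟩ := IH _ (card_lt_of_ne_top hK) (G := K) rfl inferInstance _ _
      (isCarter_subgroupOf hC₁ h1) (isCarter_subgroupOf hD₁ h2)
    refine ⟨k, k.2, le_antisymm ?_ ?_⟩
    · refine CfsgLib.Coprime.conj_smul_le.2 fun x hx => ?_
      have h3 : (k * ⟨x, h1 hx⟩ * k⁻¹ : K) ∈ MulAut.conj k • C₁.subgroupOf K :=
        Subgroup.smul_mem_pointwise_smul (⟨x, h1 hx⟩ : K) (MulAut.conj k) _ hx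
      rw [hk] at h3
      exact h3
    · intro y hy
      rw [CfsgLib.Coprime.mem_conj_smul]
      have h3 : (⟨y, h2 hy⟩ : K) ∈ MulAut.conj k • C₁.subgroupOf K := by rw [hk]; exact hy
      rw [CfsgLib.Coprime.mem_conj_smul] at h3
      exact h3
  obtain ⟨p, hp, P, hPn, hPp, hP⟩ := CfsgLib.Coprime.exists_normal_pgroup_of_solvable G hsol
  haveI := Fact.mk hp
  obtain ⟨N₀, hN₀n, hN₀c, hN₀, hN₀P⟩ := CfsgLib.Coprime.exists_normal_abelian_le P inferInstance hP
  obtain ⟨N, -, hNmin⟩ := (Set.toFinite {N : Subgroup G | N.Normal ∧ IsMulCommutative N ∧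
    IsPGroup p N ∧ N ≠ ⊥}).exists_le_minimal (a := N₀) ⟨hN₀n, hN₀c, hPp.to_le hN₀P, hN₀⟩
  obtain ⟨⟨hNn, hNc, hNp, hN⟩, hmin⟩ := hNmin
  haveI := hNn
  haveI := hNc
  let q := QuotientGroup.mk' N
  have hqs : Function.Surjective q := QuotientGroup.mk'_surjective N
  have himg : ∀ C₁ : Subgroup G, Cfsg.IsCarterSubgroup C₁ →
      Cfsg.IsCarterSubgroup (C₁.map q) := by
    intro C₁ hC₁
    haveI := hC₁.1
    refine ⟨Group.nilpotent_of_surjective (q.subgroupMap C₁) (q.subgroupMap_surjective C₁), ?_⟩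
    refine le_antisymm (fun y hy => ?_) Subgroup.le_normalizer
    obtain ⟨g, rfl⟩ := hqs y
    have hK : (C₁.map q).comap q = C₁ ⊔ N := by
      rw [Subgroup.comap_map_eq, QuotientGroup.ker_mk']
    suffices hg : g ∈ C₁ ⊔ N by
      rw [← hK] at hg
      exact hg
    by_cases ht : C₁ ⊔ N = ⊤
    · rw [ht]; exact Subgroup.mem_top g
    have hgC : MulAut.conj g • C₁ ≤ C₁ ⊔ N := by
      refine CfsgLib.Coprime.conj_smul_le.2 fun x hx => ?_
      rw [← hK, Subgroup.mem_comap, map_mul, map_mul, map_inv]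
      exact (Subgroup.mem_normalizer_iff.1 hy _).1 (Subgroup.mem_map_of_mem q hx)
    obtain ⟨k, hk, he⟩ := conj_sub _ C₁ _ ht le_sup_left hgC hC₁ (isCarter_smul hC₁ g)
    have h1 : k⁻¹ * g ∈ Subgroup.normalizer (C₁ : Set G) := by
      refine mem_normalizer_of_smul_eq ?_
      rw [map_mul, mul_smul, ← he, ← mul_smul, ← map_mul, inv_mul_cancel, map_one, one_smul]
    rw [hC₁.2] at h1
    have := mul_mem hk (Subgroup.mem_sup_left (T := N) h1)
    rwa [mul_inv_cancel_left] at this
  obtain ⟨gb, hgb⟩ := IH _ (card_quot_lt hN) (G := G ⧸ N) rfl inferInstance _ _ (himg C hC) (himg D hD)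
  obtain ⟨g, rfl⟩ := hqs gb
  -- replace `C` by a conjugate with the same image
  suffices key : ∀ C₁ : Subgroup G, Cfsg.IsCarterSubgroup C₁ → C₁.map q = D.map q →
      ∃ x : G, MulAut.conj x • C₁ = D by
    obtain ⟨x, hx⟩ := key (MulAut.conj g • C) (isCarter_smul hC g) (by
      rw [← hgb]
      show (C.map (MulAut.conj g).toMonoidHom).map q = (C.map q).map (MulAut.conj (q g)).toMonoidHom
      rw [Subgroup.map_map, Subgroup.map_map]
      congr 1)
    exact ⟨x * g, by rw [map_mul, mul_smul, hx]⟩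
  intro C₁ hC₁ heq
  have hsup : C₁ ⊔ N = D ⊔ N := by
    have := congrArg (Subgroup.comap q) heq
    rwa [Subgroup.comap_map_eq, Subgroup.comap_map_eq, QuotientGroup.ker_mk'] at this
  by_cases ht : D ⊔ N = ⊤
  swap
  · obtain ⟨k, -, hk⟩ := conj_sub _ C₁ D ht (hsup ▸ le_sup_left) le_sup_left hC₁ hD
    exact ⟨k, hk⟩
  have hnilp : Group.IsNilpotent G → ∃ x : G, MulAut.conj x • C₁ = D := by
    intro hGn
    have hall : ∀ X : Subgroup G, Cfsg.IsCarterSubgroup X → X = ⊤ := by
      intro X hX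
      by_contra hne
      have := Group.normalizerCondition_of_isNilpotent (G := G) X (lt_top_iff_ne_top.2 hne)
      exact this.ne hX.2.symm
    exact ⟨1, by rw [hall C₁ hC₁, hall D hD, map_one, one_smul]⟩
  -- a Carter subgroup supplementing `N` complements it, unless `G` is nilpotent
  have hcompl : ∀ X : Subgroup G, Cfsg.IsCarterSubgroup X → X ⊔ N = ⊤ →
      N ≤ X → Group.IsNilpotent G := by
    intro X hX hXN hle
    have hXt : X = ⊤ := by rwa [sup_eq_left.2 hle] at hXN
    haveI := hX.1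
    subst hXt
    exact Group.nilpotent_of_mulEquiv Subgroup.topEquiv
  have hinf : ∀ X : Subgroup G, Cfsg.IsCarterSubgroup X → X ⊔ N = ⊤ →
      X ⊓ N = ⊥ ∨ Group.IsNilpotent G := by
    intro X hX hXN
    have hXNn : (X ⊓ N).Normal := by
      rw [← Subgroup.normalizer_eq_top_iff, ← top_le_iff, ← hXN, sup_le_iff]
      constructor
      · intro x hx
        rw [Subgroup.mem_normalizer_iff]
        intro y
        constructor
        · exact fun h => Subgroup.mem_inf.2 ⟨mul_mem (mul_mem hx (Subgroup.mem_inf.1 h).1) (inv_mem hx),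
            hNn.conj_mem y (Subgroup.mem_inf.1 h).2 x⟩
        · intro h
          have : x⁻¹ * (x * y * x⁻¹) * x ∈ X ⊓ N := Subgroup.mem_inf.2
            ⟨mul_mem (mul_mem (inv_mem hx) (Subgroup.mem_inf.1 h).1) hx, by
              simpa [mul_assoc] using hNn.conj_mem _ (Subgroup.mem_inf.1 h).2 x⁻¹⟩
          simpa [mul_assoc] using this
      · intro a ha
        rw [Subgroup.mem_normalizer_iff]
        intro y
        have key : ∀ b ∈ N, ∀ z ∈ X ⊓ N, b * z * b⁻¹ = z := fun b hb z hz => by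
          rw [show b * z = z * b from
            congrArg Subtype.val ((IsMulCommutative.is_comm (M := N)).comm ⟨b, hb⟩ ⟨z, hz.2⟩),
            mul_inv_cancel_right]
        constructor
        · exact fun h => by rw [key a ha y h]; exact h
        · intro h
          have h2 := key a⁻¹ (inv_mem ha) _ h
          rw [inv_inv] at h2
          rw [← h2] at h
          simpa [mul_assoc] using h
    by_cases hb : X ⊓ N = ⊥
    · exact Or.inl hb
    · right
      refine hcompl X hX hXN (le_trans (hmin ⟨hXNn, ⟨⟨fun a b => Subtype.ext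
        (setLike_mul_comm (s := N) (Subgroup.mem_inf.1 a.2).2 (Subgroup.mem_inf.1 b.2).2)⟩⟩,
        hNp.to_le inf_le_right, hb⟩ inf_le_right) inf_le_left)
  rcases hinf C₁ hC₁ (hsup.trans ht) with hdC | h
  swap
  · exact hnilp h
  rcases hinf D hD ht with hdD | h
  swap
  · exact hnilp h
  haveI := hC₁.1
  haveI := hD.1
  let R := Cfsg.pResidual p (G ⧸ N)
  let M := R.comap q
  have hR : ∀ X : Subgroup G, X ⊔ N = ⊤ → X ⊓ N = ⊥ →
      (pp p X).map q = R ∧ Nat.card (pp p X) = Nat.card R ∧ Function.Surjective (q.comp X.subtype) := by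
    intro X hXN hXd
    have hs : Function.Surjective (q.comp X.subtype) := by
      intro y
      obtain ⟨x, rfl⟩ := hqs y
      have hx : x ∈ X ⊔ N := by rw [hXN]; exact Subgroup.mem_top x
      rw [← SetLike.mem_coe, Subgroup.mul_normal] at hx
      obtain ⟨a, ha, b, hb, rfl⟩ := hx
      refine ⟨⟨a, ha⟩, ?_⟩
      show q a = q (a * b)
      rw [map_mul, show q b = 1 from (QuotientGroup.eq_one_iff b).2 hb, mul_one]
    have hi : Function.Injective (q.comp X.subtype) := by
      rw [injective_iff_map_eq_one]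
      intro x hx
      have : (x : G) ∈ X ⊓ N := ⟨x.2, (QuotientGroup.eq_one_iff _).1 hx⟩
      rw [hXd, Subgroup.mem_bot] at this
      exact Subtype.ext this
    have h1 := CfsgLib.Transfer.map_pResidual_of_surjective (p := p) (q.comp X.subtype) hs
    refine ⟨?_, ?_, hs⟩
    · rw [pp_eq_map, Subgroup.map_map, h1]
    · rw [pp_eq_map, Subgroup.card_map_of_injective X.subtype_injective]
      show Nat.card (Cfsg.pResidual p X) = Nat.card (Cfsg.pResidual p (G ⧸ N))
      rw [← h1, Subgroup.card_map_of_injective hi]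
  obtain ⟨hCmap, hCcard, -⟩ := hR C₁ (hsup.trans ht) hdC
  obtain ⟨hDmap, hDcard, hDs⟩ := hR D ht hdD
  have hQp : ¬ p ∣ Nat.card R := hDcard ▸ not_dvd_card_pp p D
  have hNM : N ≤ M := fun x hx => by
    show q x ∈ R
    rw [show q x = 1 from (QuotientGroup.eq_one_iff x).2 hx]; exact one_mem _
  have hcop : (Nat.card N).Coprime (Nat.card R) := by
    obtain ⟨i, hi⟩ := hNp.exists_card_eq
    rw [hi]; exact (hp.coprime_iff_not_dvd.2 hQp).pow_left i
  obtain ⟨a, -, ha⟩ := conj_in N M hNM (CfsgLib.PCore.card_comap_mk' N R) hcop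
    (Subgroup.map_le_iff_le_comap.1 hCmap.le) (Subgroup.map_le_iff_le_comap.1 hDmap.le)
    hCcard hDcard
  let C₂ := MulAut.conj a • C₁
  have hC₂ : Cfsg.IsCarterSubgroup C₂ := isCarter_smul hC₁ a
  have hpp : pp p C₂ = pp p D := by rw [pp_smul, ha]
  let W := Subgroup.normalizer (pp p D : Set G)
  by_cases hW : W = ⊤
  swap
  · obtain ⟨k, -, hk⟩ := conj_sub W C₂ D hW
      (Subgroup.le_normalizer.trans ((normalizer_le_pp p C₂).trans (by rw [hpp])))
      (Subgroup.le_normalizer.trans (normalizer_le_pp p D)) hC₂ hD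
    exact ⟨k * a, by rw [map_mul, mul_smul]; exact hk⟩
  refine hnilp ?_
  haveI : (pp p D).Normal := Subgroup.normalizer_eq_top_iff.1 hW
  haveI : Group.IsNilpotent (G ⧸ N) := Group.nilpotent_of_surjective (q.comp D.subtype) hDs
  refine isNilpotent_of_two_quotients N (pp p D)
    (inf_eq_bot_of_not_dvd hNp (hDcard ▸ hQp)) inferInstance ?_
  refine IsPGroup.isNilpotent (p := p) fun z => ?_
  induction z using QuotientGroup.induction_on with
  | H x =>
    obtain ⟨i, hi⟩ := CfsgLib.Transfer.exists_pow_mem_pResidual (p := p) (q x)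
    have hx : x ^ p ^ i ∈ N ⊔ pp p D := by
      have h1 : q (x ^ p ^ i) ∈ (pp p D).map q := by rw [hDmap, map_pow]; exact hi
      have h2 : x ^ p ^ i ∈ ((pp p D).map q).comap q := h1
      rwa [Subgroup.comap_map_eq, QuotientGroup.ker_mk', sup_comm] at h2
    obtain ⟨j, hj⟩ := pow_mem_of_normal N (pp p D) hNp hx
    refine ⟨i + j, ?_⟩
    rw [← QuotientGroup.mk_pow, QuotientGroup.eq_one_iff, pow_add, pow_mul]
    exact hj

/-- Carter's theorem. -/
theorem exists_and_conj {G : Type u} [Group G] [Finite G] [hs : Group.IsSolvable G] :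
    (∃ C : Subgroup G, Cfsg.IsCarterSubgroup C) ∧ ∀ C D : Subgroup G,
      Cfsg.IsCarterSubgroup C → Cfsg.IsCarterSubgroup D → ∃ g : G, MulAut.conj g • C = D :=
  ⟨exists_carter _ rfl hs, carter_conj _ rfl hs⟩

end CfsgLib.Carter
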