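import Mathlib
import Cfsg.Agent.Lib.Solvable.Fitting
import Cfsg.Agent.Lib.LocalEven.CharP

/-!
Eigen-subgroups for a four-group-like `2`-group `I` acting on a nilpotent group of odd order.
-/

set_option autoImplicit false
set_option linter.style.haveILetI false

namespace CfsgLib.Solvable.EigenChain

open Subgroup
open scoped commutatorElement

universe u

variable {G : Type u} [Group G] [Finite G]

/-- Sylow subgroups of a finite nilpotent group are normal. -/
theorem sylow_normal (hG : Group.IsNilpotent G) {p : ℕ} [hp : Fact p.Prime] (P : Sylow p G) :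
    (P : Subgroup G).Normal :=
  ((Group.isNilpotent_of_finite_tfae (G := G)).out 0 3 : Group.IsNilpotent G ↔
    ∀ (p : ℕ) (_hp : Fact p.Prime) (P : Sylow p G), (P : Subgroup G).Normal).1 hG p hp P

/-- In a nilpotent subgroup, elements of coprime order commute. -/
theorem commute_of_coprime {F : Subgroup G} (hnil : Group.IsNilpotent F) {a b : G} (ha : a ∈ F)
    (hb : b ∈ F) {p q : ℕ} (hp : p.Prime) (hq : q.Prime) (hpq : p ≠ q)
    (hA : ∃ k, a ^ p ^ k = 1) (hB : ∃ k, b ^ q ^ k = 1) : Commute a b := by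
  haveI := Fact.mk hp
  haveI := Fact.mk hq
  haveI := hnil
  obtain ⟨k, hk⟩ := hA
  obtain ⟨l, hl⟩ := hB
  have hpA : IsPGroup p (zpowers (⟨a, ha⟩ : F)) := by
    rintro ⟨x, hx⟩
    obtain ⟨i, rfl⟩ := mem_zpowers_iff.1 hx
    refine ⟨k, Subtype.ext (Subtype.ext ?_)⟩
    simp only [SubgroupClass.coe_pow, SubgroupClass.coe_zpow, OneMemClass.coe_one]
    rw [← zpow_natCast, ← zpow_mul, mul_comm, zpow_mul, zpow_natCast, hk, one_zpow]
  have hpB : IsPGroup q (zpowers (⟨b, hb⟩ : F)) := by
    rintro ⟨x, hx⟩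
    obtain ⟨i, rfl⟩ := mem_zpowers_iff.1 hx
    refine ⟨l, Subtype.ext (Subtype.ext ?_)⟩
    simp only [SubgroupClass.coe_pow, SubgroupClass.coe_zpow, OneMemClass.coe_one]
    rw [← zpow_natCast, ← zpow_mul, mul_comm, zpow_mul, zpow_natCast, hl, one_zpow]
  obtain ⟨P, hP⟩ := hpA.exists_le_sylow
  obtain ⟨Q, hQ⟩ := hpB.exists_le_sylow
  have hPn : (P : Subgroup F).Normal :=
    sylow_normal hnil P
  have hQn : (Q : Subgroup F).Normal :=
    sylow_normal hnil Q
  exact congrArg Subtype.val (commute_of_normal_of_disjoint _ _ hPn hQn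
    (IsPGroup.disjoint_of_ne p q hpq _ _ P.2 Q.2) _ _ (hP (mem_zpowers _)) (hQ (mem_zpowers _))).eq

/-- `I` normalises a commuting pair's data: every nontrivial action yields an invariant subgroup of
prime order. -/
theorem exists_eigen {I F : Subgroup G} (hI : Cfsg.IsElementaryAbelian 2 I)
    (hIF : I ≤ normalizer (F : Set G)) (hnil : Group.IsNilpotent F) (hodd : Odd (Nat.card F))
    {t : G} (ht : t ∈ I) (hnc : ¬ ∀ x ∈ F, t * x = x * t) :
    ∃ y ∈ F, ∃ q : ℕ, q.Prime ∧ q ≠ 2 ∧ orderOf y = q ∧ t * y * t⁻¹ = y⁻¹ ∧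
      ∀ u ∈ I, u * y * u⁻¹ = y ∨ u * y * u⁻¹ = y⁻¹ := by
  classical
  have hcomm : ∀ u ∈ I, ∀ v ∈ I, u * v = v * u := fun u hu v hv =>
    congrArg Subtype.val (hI.1.1.1 ⟨u, hu⟩ ⟨v, hv⟩)
  have hsq : ∀ u ∈ I, u * u = 1 := fun u hu => by rw [← pow_two]; exact hI.2 u hu
  have hodd' : ∀ x ∈ F, x * x = 1 → x = 1 := by
    intro x hx h
    have h1 := orderOf_dvd_of_pow_eq_one (x := x) (n := 2) (by rwa [pow_two])
    have h2 := Subgroup.orderOf_dvd_natCard F hx
    rcases (Nat.dvd_prime Nat.prime_two).1 h1 with h' | h'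
    · exact orderOf_eq_one_iff.1 h'
    · rw [h'] at h2; exact absurd (even_iff_two_dvd.2 h2) (Nat.not_even_iff_odd.2 hodd)
  -- choose a minimal invariant subgroup on which t acts nontrivially
  set S := {R : Subgroup G | R ≤ F ∧ I ≤ normalizer (R : Set G) ∧ ¬ ∀ x ∈ R, t * x = x * t}
  obtain ⟨R, ⟨hRF, hIR, hRt⟩, hmin⟩ :=
    (Set.toFinite S).exists_minimal ⟨F, le_rfl, hIF, hnc⟩
  have hconj : ∀ u ∈ I, ∀ x ∈ R, u * x * u⁻¹ ∈ R := fun u hu x hx =>
    (mem_normalizer_iff.1 (hIR hu) x).1 hx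
  have hfix : ∀ M : Subgroup G, M ≤ R → (∀ u ∈ I, ∀ x ∈ M, u * x * u⁻¹ ∈ M) → M ≠ R →
      ∀ x ∈ M, t * x = x * t := by
    intro M hMR hMI hne
    by_contra hnc'
    refine hne (le_antisymm hMR (hmin ⟨hMR.trans hRF, fun u hu => mem_normalizer_iff.2 fun x =>
      ⟨hMI u hu x, fun h => ?_⟩, hnc'⟩ hMR))
    have h' := hMI u hu _ h
    have e : u * (u * x * u⁻¹) * u⁻¹ = (u * u) * x * (u * u)⁻¹ := by group
    rwa [e, hsq u hu, one_mul, inv_one, mul_one] at h'
  -- R is generated by the elements x⁻¹ (t x t⁻¹)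
  set K := closure {z | ∃ x ∈ R, z = x⁻¹ * (t * x * t⁻¹)}
  have hK : K = R := by
    have hKR : K ≤ R := (closure_le R).2 (by
      rintro _ ⟨x, hx, rfl⟩; exact mul_mem (inv_mem hx) (hconj t ht x hx))
    by_contra hne
    have hKI : ∀ u ∈ I, ∀ z ∈ K, u * z * u⁻¹ ∈ K := by
      intro u hu z hz
      induction hz using closure_induction with
      | mem z hz =>
        obtain ⟨x, hx, rfl⟩ := hz
        refine subset_closure ⟨u * x * u⁻¹, hconj u hu x hx, ?_⟩
        have e := hcomm u hu t ht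
        calc u * (x⁻¹ * (t * x * t⁻¹)) * u⁻¹
            = (u * x * u⁻¹)⁻¹ * ((u * t) * x * (u * t)⁻¹) := by group
          _ = _ := by rw [e]; group
      | one => simpa using one_mem K
      | mul a b _ _ ia ib =>
        have e : u * (a * b) * u⁻¹ = (u * a * u⁻¹) * (u * b * u⁻¹) := by group
        rw [e]; exact mul_mem ia ib
      | inv a _ ia =>
        have e : u * a⁻¹ * u⁻¹ = (u * a * u⁻¹)⁻¹ := by group
        rw [e]; exact inv_mem ia
    have hfK := hfix K hKR hKI hne
    apply hRt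
    intro x hx
    set z := x⁻¹ * (t * x * t⁻¹) with hz
    have hzK : z ∈ K := subset_closure ⟨x, hx, hz⟩
    have h1 : t * z * t⁻¹ = z := by rw [hfK z hzK, mul_inv_cancel_right]
    have h2 : t * z * t⁻¹ = z⁻¹ := by
      calc t * z * t⁻¹ = (t * x * t⁻¹)⁻¹ * ((t * t) * x * (t * t)⁻¹) := by rw [hz]; group
        _ = z⁻¹ := by rw [hsq t ht, hz]; group
    have hz1 : z = 1 := hodd' z (hRF (hKR hzK)) (by
      nth_rewrite 1 [← h1]; rw [h2, inv_mul_cancel])
    have := inv_mul_eq_one.1 (hz ▸ hz1)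
    calc t * x = (t * x * t⁻¹) * t := by group
      _ = x * t := by rw [← this]
  -- invariant proper subgroups are central in R
  have hcentral : ∀ M : Subgroup G, M ≤ R → (∀ u ∈ I, ∀ x ∈ M, u * x * u⁻¹ ∈ M) →
      (∀ g ∈ R, ∀ x ∈ M, g * x * g⁻¹ ∈ M) → M ≠ R → ∀ a ∈ M, ∀ g ∈ R, g * a = a * g := by
    intro M hMR hMI hMn hne a ha g hg
    have hf := hfix M hMR hMI hne
    have hle : R ≤ centralizer ({a} : Set G) := by
      rw [← hK, closure_le]
      rintro _ ⟨x, hx, rfl⟩
      refine mem_centralizer_singleton_iff.2 ?_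
      have e1 : t * (x * a * x⁻¹) * t⁻¹ = x * a * x⁻¹ := by
        rw [hf _ (hMn x hx a ha), mul_inv_cancel_right]
      have e2 : t * a * t⁻¹ = a := by rw [hf a ha, mul_inv_cancel_right]
      have e3 : (t * x * t⁻¹) * a * (t * x * t⁻¹)⁻¹ = x * a * x⁻¹ := by
        calc (t * x * t⁻¹) * a * (t * x * t⁻¹)⁻¹
            = (t * x * t⁻¹) * (t * a * t⁻¹) * (t * x * t⁻¹)⁻¹ := by rw [e2]
          _ = t * (x * a * x⁻¹) * t⁻¹ := by group
          _ = _ := e1
      calc x⁻¹ * (t * x * t⁻¹) * a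
          = x⁻¹ * ((t * x * t⁻¹) * a * (t * x * t⁻¹)⁻¹) * (t * x * t⁻¹) := by group
        _ = a * (x⁻¹ * (t * x * t⁻¹)) := by rw [e3]; group
    exact mem_centralizer_singleton_iff.1 (hle hg)
  -- an element of prime order inverted by t
  obtain ⟨z, hzR, hzinv, hz1⟩ : ∃ z ∈ R, t * z * t⁻¹ = z⁻¹ ∧ z ≠ 1 := by
    push Not at hRt
    obtain ⟨x, hx, hxt⟩ := hRt
    refine ⟨x⁻¹ * (t * x * t⁻¹), mul_mem (inv_mem hx) (hconj t ht x hx), ?_, fun h => hxt ?_⟩
    · calc t * (x⁻¹ * (t * x * t⁻¹)) * t⁻¹ = (t * x * t⁻¹)⁻¹ * ((t * t) * x * (t * t)⁻¹) := by group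
        _ = _ := by rw [hsq t ht]; group
    · have := inv_mul_eq_one.1 h
      calc t * x = (t * x * t⁻¹) * t := by group
        _ = x * t := by rw [← this]
  obtain ⟨q, hq, hqz⟩ := Nat.exists_prime_and_dvd (n := orderOf z) (orderOf_eq_one_iff.not.2 hz1)
  haveI := Fact.mk hq
  set x₀ := z ^ (orderOf z / q) with hx₀
  have hx₀o : orderOf x₀ = q := orderOf_pow_orderOf_div (orderOf_pos z).ne' hqz
  have hx₀R : x₀ ∈ R := pow_mem hzR _
  have hx₀inv : t * x₀ * t⁻¹ = x₀⁻¹ := by
    rw [hx₀, ← conj_pow, hzinv, inv_pow]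
  have hx₀1 : x₀ ≠ 1 := fun h => by rw [h, orderOf_one] at hx₀o; exact hq.ne_one hx₀o.symm
  have hq2 : q ≠ 2 := fun h => hx₀1 (hodd' x₀ (hRF hx₀R) (by
    rw [← pow_two, ← h, ← hx₀o]; exact pow_orderOf_eq_one x₀))
  have hnilR : Group.IsNilpotent R := CfsgLib.Fitting.isNilpotent_of_le hnil hRF
  -- the derived subgroup is central
  have hderne : ⁅R, R⁆ ≠ R := by
    intro h
    haveI : Nontrivial R := ⟨⟨⟨x₀, hx₀R⟩, 1, fun e => hx₀1 (congrArg Subtype.val e)⟩⟩
    haveI := hnilR
    haveI : Group.IsSolvable R := inferInstance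
    have hlt := Group.IsSolvable.commutator_lt_top_of_nontrivial (G := R)
    apply hlt.ne
    apply map_injective R.subtype_injective
    rw [_root_.commutator_def, map_commutator, ← MonoidHom.range_eq_map, range_subtype, h]
  set D := ⁅R, R⁆
  have hDR : D ≤ R := commutator_le_self R
  have hDI : ∀ u ∈ I, ∀ x ∈ D, u * x * u⁻¹ ∈ D := by
    intro u hu x hx
    have hmap : R.map (MulAut.conj u).toMonoidHom = R := by
      ext w
      simp only [mem_map_equiv, MulAut.conj_symm_apply]
      refine ⟨fun h => ?_, fun h => ?_⟩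
      · have := hconj u hu _ h
        simpa [mul_assoc] using this
      · exact (mem_normalizer_iff''.1 (hIR hu) w).1 h
    have e : D.map (MulAut.conj u).toMonoidHom = D := by rw [map_commutator, hmap]
    exact e.le ⟨x, hx, rfl⟩
  have hDc : ∀ a ∈ D, ∀ g ∈ R, g * a = a * g := by
    refine hcentral D hDR hDI (fun g hg x hx => ?_) hderne
    have : g * x * g⁻¹ = ⁅g, x⁆ * x := by rw [commutatorElement_def]; group
    rw [this]; exact mul_mem (commutator_mem_commutator hg (hDR hx)) hx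
  -- R has exponent q
  have hbracket : ∀ a ∈ R, ∀ b ∈ R, ∀ n : ℕ, ⁅a ^ n, b⁆ = ⁅a, b⁆ ^ n := by
    intro a ha b hb n
    induction n with
    | zero => simp
    | succ n ih =>
      have hc := hDc _ (commutator_mem_commutator ha hb) _ (pow_mem ha n)
      calc ⁅a ^ (n + 1), b⁆ = (a ^ n * ⁅a, b⁆) * (a ^ n)⁻¹ * ⁅a ^ n, b⁆ := by
            simp only [commutatorElement_def, pow_succ]; group
        _ = ⁅a, b⁆ * ⁅a ^ n, b⁆ := by rw [hc, mul_inv_cancel_right]
        _ = _ := by rw [ih, ← pow_succ']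
  have hclass : ∀ a ∈ R, ∀ b ∈ R, ∀ n : ℕ, (a * b) ^ n = a ^ n * b ^ n * ⁅b, a⁆ ^ (n.choose 2) := by
    intro a ha b hb n
    have hcm : ∀ g ∈ R, Commute g ⁅b, a⁆ := fun g hg => hDc _ (commutator_mem_commutator hb ha) g hg
    have hba : ∀ m : ℕ, b ^ m * a = a * b ^ m * ⁅b, a⁆ ^ m := by
      intro m
      have h1 : b ^ m * a = ⁅b ^ m, a⁆ * (a * b ^ m) := by rw [commutatorElement_def]; group
      rw [h1, hbracket b hb a ha m]
      exact ((hcm _ (mul_mem ha (pow_mem hb m))).pow_right m).symm.eq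
    induction n with
    | zero => simp
    | succ n ih =>
      have hc2 : Commute (⁅b, a⁆ ^ (n.choose 2)) (a * b) := ((hcm _ (mul_mem ha hb)).pow_right _).symm
      calc (a * b) ^ (n + 1) = a ^ n * b ^ n * (⁅b, a⁆ ^ (n.choose 2) * (a * b)) := by
            rw [pow_succ, ih]; group
        _ = a ^ n * (b ^ n * a) * b * ⁅b, a⁆ ^ (n.choose 2) := by rw [hc2.eq]; group
        _ = a ^ n * (a * b ^ n) * (⁅b, a⁆ ^ n * b) * ⁅b, a⁆ ^ (n.choose 2) := by rw [hba n]; group
        _ = a ^ n * (a * b ^ n) * (b * ⁅b, a⁆ ^ n) * ⁅b, a⁆ ^ (n.choose 2) := by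
            rw [((hcm b hb).pow_right n).eq]
        _ = a ^ (n + 1) * b ^ (n + 1) * ⁅b, a⁆ ^ ((n + 1).choose 2) := by
            rw [Nat.choose_succ_succ, Nat.choose_one_right, pow_add, pow_succ, pow_succ]; group
  let Ω : Subgroup G :=
    { carrier := {y | y ∈ R ∧ y ^ q = 1}
      one_mem' := ⟨one_mem R, one_pow q⟩
      mul_mem' := by
        rintro a b ⟨ha, ha'⟩ ⟨hb, hb'⟩
        refine ⟨mul_mem ha hb, ?_⟩
        obtain ⟨c, hc⟩ : q ∣ q.choose 2 := hq.dvd_choose_self two_ne_zero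
          (lt_of_le_of_ne hq.two_le (Ne.symm hq2))
        rw [hclass a ha b hb q, ha', hb', hc, pow_mul, ← hbracket b hb a ha q, hb',
          commutatorElement_one_left, one_pow, one_mul, one_mul]
      inv_mem' := by
        rintro a ⟨ha, ha'⟩
        exact ⟨inv_mem ha, by rw [inv_pow, ha', inv_one]⟩ }
  have hΩR : Ω = R := by
    by_contra hne
    have hx₀Ω : x₀ ∈ Ω := ⟨hx₀R, by rw [← hx₀o]; exact pow_orderOf_eq_one x₀⟩
    have h := hfix Ω (fun y hy => hy.1)
      (fun u hu y hy => ⟨hconj u hu y hy.1, by rw [conj_pow, hy.2, mul_one, mul_inv_cancel]⟩) hne x₀ hx₀Ω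
    rw [h, mul_inv_cancel_right] at hx₀inv
    exact hx₀1 (hodd' x₀ (hRF hx₀R) (by nth_rewrite 1 [hx₀inv]; exact inv_mul_cancel _))
  have hexp : ∀ y ∈ R, y ^ q = 1 := fun y hy => (hΩR.ge hy).2
  have hpdiff : x₀ ∉ D := fun h => by
    have := hfix D hDR hDI hderne x₀ h
    rw [this, mul_inv_cancel_right] at hx₀inv
    exact hx₀1 (hodd' x₀ (hRF hx₀R) (by nth_rewrite 1 [hx₀inv]; exact inv_mul_cancel _))
  -- an element eigen for all of I modulo D
  have hDn : ∀ g ∈ R, ∀ d ∈ D, g * d * g⁻¹ = d := fun g hg d hd => by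
    rw [hDc d hd g hg, mul_inv_cancel_right]
  have hab : ∀ a ∈ R, ∀ b ∈ R, ∃ d ∈ D, b * a = a * b * d := by
    intro a ha b hb
    exact ⟨⁅b⁻¹, a⁻¹⁆, commutator_mem_commutator (inv_mem hb) (inv_mem ha),
      by rw [commutatorElement_def]; group⟩
  have hstep : ∀ s : Finset G, (∀ u ∈ s, u ∈ I) → ∃ y ∈ R, y ∉ D ∧
      (∃ d ∈ D, t * y * t⁻¹ = y⁻¹ * d) ∧
      ∀ u ∈ s, (∃ d ∈ D, u * y * u⁻¹ = y * d) ∨ (∃ d ∈ D, u * y * u⁻¹ = y⁻¹ * d) := by
    intro s
    induction s using Finset.induction_on with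
    | empty =>
      exact fun _ => ⟨x₀, hx₀R, hpdiff, ⟨1, one_mem D, by rw [hx₀inv, mul_one]⟩,
        fun u hu => absurd hu (Finset.notMem_empty u)⟩
    | insert u s hus ih =>
      intro hs
      obtain ⟨y, hyR, hyD, ⟨d₀, hd₀, hty⟩, hys⟩ := ih fun v hv => hs v (Finset.mem_insert_of_mem hv)
      have hu : u ∈ I := hs u (Finset.mem_insert_self u s)
      by_cases hneg : ∃ d ∈ D, u * y * u⁻¹ = y⁻¹ * d
      · refine ⟨y, hyR, hyD, ⟨d₀, hd₀, hty⟩, fun v hv => ?_⟩
        rcases Finset.mem_insert.1 hv with rfl | hv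
        · exact Or.inr hneg
        · exact hys v hv
      set w := u * y * u⁻¹ with hw
      have hwR : w ∈ R := hconj u hu y hyR
      refine ⟨y * w, mul_mem hyR hwR, fun h => hneg ?_, ?_, fun v hv => ?_⟩
      · exact ⟨y * w, h, by group⟩
      · -- still inverted by t
        obtain ⟨e, he, hyw⟩ := hab (y⁻¹) (inv_mem hyR) (w⁻¹) (inv_mem hwR)
        refine ⟨d₀ * (u * d₀ * u⁻¹) * e⁻¹, mul_mem (mul_mem hd₀ (hDI u hu d₀ hd₀)) (inv_mem he), ?_⟩
        have htw : t * w * t⁻¹ = w⁻¹ * (u * d₀ * u⁻¹) := by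
          calc t * w * t⁻¹ = (t * u) * y * (t * u)⁻¹ := by rw [hw]; group
            _ = u * (t * y * t⁻¹) * u⁻¹ := by rw [hcomm t ht u hu]; group
            _ = _ := by rw [hty, hw]; group
        have hDd : Commute d₀ w⁻¹ := (hDc d₀ hd₀ w⁻¹ (inv_mem hwR)).symm
        have he' : w⁻¹ * y⁻¹ = y⁻¹ * w⁻¹ * e := hyw
        calc t * (y * w) * t⁻¹ = (t * y * t⁻¹) * (t * w * t⁻¹) := by group
          _ = y⁻¹ * (d₀ * w⁻¹) * (u * d₀ * u⁻¹) := by rw [hty, htw]; group
          _ = y⁻¹ * w⁻¹ * (d₀ * (u * d₀ * u⁻¹)) := by rw [hDd.eq]; group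
          _ = w⁻¹ * y⁻¹ * e⁻¹ * (d₀ * (u * d₀ * u⁻¹)) := by rw [he']; group
          _ = w⁻¹ * y⁻¹ * (e⁻¹ * (d₀ * (u * d₀ * u⁻¹))) := by group
          _ = (y * w)⁻¹ * (d₀ * (u * d₀ * u⁻¹) * e⁻¹) := by
              rw [(hDc e⁻¹ (inv_mem he) _ (hDR (mul_mem hd₀ (hDI u hu d₀ hd₀)))), mul_inv_rev y w]
      · rcases Finset.mem_insert.1 hv with rfl | hv
        · left
          obtain ⟨e, he, hyw⟩ := hab y hyR w hwR
          refine ⟨e, he, ?_⟩
          calc v * (y * w) * v⁻¹ = w * ((v * v) * y * (v * v)⁻¹) := by rw [hw]; group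
            _ = y * w * e := by rw [hsq v hu, one_mul, inv_one, mul_one, hyw]
        · have hvI := hs v (Finset.mem_insert_of_mem hv)
          have hvw : ∀ y' d, v * y * v⁻¹ = y' * d → v * w * v⁻¹ = (u * y' * u⁻¹) * (u * d * u⁻¹) := by
            intro y' d h
            calc v * w * v⁻¹ = (v * u) * y * (v * u)⁻¹ := by rw [hw]; group
              _ = u * (v * y * v⁻¹) * u⁻¹ := by rw [hcomm v hvI u hu]; group
              _ = _ := by rw [h]; group
          rcases hys v hv with ⟨d, hd, hd'⟩ | ⟨d, hd, hd'⟩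
          · left
            refine ⟨d * (u * d * u⁻¹), mul_mem hd (hDI u hu d hd), ?_⟩
            calc v * (y * w) * v⁻¹ = (v * y * v⁻¹) * (v * w * v⁻¹) := by group
              _ = y * (d * w) * (u * d * u⁻¹) := by rw [hd', hvw y d hd', ← hw]; group
              _ = y * w * (d * (u * d * u⁻¹)) := by rw [← hDc d hd w hwR]; group
          · right
            obtain ⟨e, he, hyw⟩ := hab (y⁻¹) (inv_mem hyR) (w⁻¹) (inv_mem hwR)
            refine ⟨d * (u * d * u⁻¹) * e⁻¹, mul_mem (mul_mem hd (hDI u hu d hd)) (inv_mem he), ?_⟩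
            calc v * (y * w) * v⁻¹ = (v * y * v⁻¹) * (v * w * v⁻¹) := by group
              _ = y⁻¹ * (d * w⁻¹) * (u * d * u⁻¹) := by
                  rw [hd', hvw y⁻¹ d hd', show u * y⁻¹ * u⁻¹ = w⁻¹ by rw [hw]; group]; group
              _ = y⁻¹ * w⁻¹ * (d * (u * d * u⁻¹)) := by rw [← hDc d hd w⁻¹ (inv_mem hwR)]; group
              _ = w⁻¹ * y⁻¹ * e⁻¹ * (d * (u * d * u⁻¹)) := by rw [hyw]; group
              _ = w⁻¹ * y⁻¹ * (e⁻¹ * (d * (u * d * u⁻¹))) := by group
              _ = (y * w)⁻¹ * (d * (u * d * u⁻¹) * e⁻¹) := by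
                  rw [(hDc e⁻¹ (inv_mem he) _ (hDR (mul_mem hd (hDI u hu d hd)))), mul_inv_rev y w]
  haveI := Fintype.ofFinite G
  obtain ⟨y, hyR, hyD, ⟨d₀, hd₀, hty⟩, hys⟩ :=
    hstep (Finset.univ.filter (· ∈ I)) fun u hu => (Finset.mem_filter.1 hu).2
  -- then `<y> D` is abelian, invariant and not centralised, so R is abelian
  set M := zpowers y ⊔ D with hM
  have hMR : M ≤ R := sup_le (zpowers_le.2 hyR) hDR
  have hMI : ∀ u ∈ I, ∀ x ∈ M, u * x * u⁻¹ ∈ M := by
    intro u hu x hx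
    have hmap : M ≤ M.comap (MulAut.conj u).toMonoidHom := by
      refine sup_le (zpowers_le.2 ?_) (fun d hd => mem_sup_right (hDI u hu d hd))
      show u * y * u⁻¹ ∈ M
      rcases hys u (Finset.mem_filter.2 ⟨Finset.mem_univ u, hu⟩) with ⟨d, hd, h⟩ | ⟨d, hd, h⟩ <;> rw [h]
      · exact mul_mem (mem_sup_left (mem_zpowers y)) (mem_sup_right hd)
      · exact mul_mem (mem_sup_left (inv_mem (mem_zpowers y))) (mem_sup_right hd)
    exact hmap hx
  have hMR' : M = R := by
    by_contra hne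
    have h := hfix M hMR hMI hne y (mem_sup_left (mem_zpowers y))
    rw [h, mul_inv_cancel_right] at hty
    refine hyD ?_
    have hy2 : y ^ 2 = d₀ := by
      rw [pow_two]
      nth_rewrite 2 [hty]
      group
    obtain ⟨k, hk⟩ := hq.odd_of_ne_two hq2
    have e : y = ((y ^ 2) ^ k)⁻¹ := by
      apply eq_inv_of_mul_eq_one_left
      rw [← pow_mul, ← pow_succ', ← hk]; exact hexp y hyR
    rw [e, hy2]; exact inv_mem (pow_mem hd₀ k)
  have hRab : ∀ a ∈ R, ∀ b ∈ R, a * b = b * a := by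
    have hcy : R ≤ centralizer ({y} : Set G) := by
      rw [← hMR']
      refine sup_le (zpowers_le.2 (mem_centralizer_singleton_iff.2 rfl)) fun d hd => ?_
      exact mem_centralizer_singleton_iff.2 (hDc d hd y hyR).symm
    intro a ha b hb
    have hle : R ≤ centralizer ({a} : Set G) := by
      rw [← hMR']
      refine sup_le (zpowers_le.2 (mem_centralizer_singleton_iff.2
        (mem_centralizer_singleton_iff.1 (hcy ha)).symm)) fun d hd => ?_
      exact mem_centralizer_singleton_iff.2 (hDc d hd a ha).symm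
    exact (mem_centralizer_singleton_iff.1 (hle hb)).symm
  have hD1 : D = ⊥ := commutator_eq_bot_iff_le_centralizer.2 fun a ha =>
    mem_centralizer_iff.2 fun b hb => hRab b hb a ha
  have hd0 : ∀ d ∈ D, d = 1 := fun d hd => by rw [hD1] at hd; exact hd
  refine ⟨y, hRF hyR, q, hq, hq2, orderOf_eq_prime (hexp y hyR) (fun h => hyD (h ▸ one_mem D)), ?_,
    fun u hu => ?_⟩
  · rw [hty, hd0 d₀ hd₀, mul_one]
  · rcases hys u (Finset.mem_filter.2 ⟨Finset.mem_univ u, hu⟩) with ⟨d, hd, h⟩ | ⟨d, hd, h⟩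
    · exact Or.inl (by rw [h, hd0 d hd, mul_one])
    · exact Or.inr (by rw [h, hd0 d hd, mul_one])

/-- The chain of eigen-subgroups. -/
theorem exists_chain {I : Subgroup G} (hI : Cfsg.IsElementaryAbelian 2 I) :
    ∀ (n : ℕ) (J F A : Subgroup G), J ≤ I → Nat.card J = 2 ^ n → I ≤ normalizer (F : Set G) →
      Group.IsNilpotent F → Odd (Nat.card F) → A ≤ F → (∀ a ∈ A, ∀ x ∈ F, x * a = a * x) →
      (∀ u ∈ J, ∀ a ∈ A, u * a = a * u) → (∀ u ∈ J, (∀ x ∈ F, u * x = x * u) → u = 1) →
      ∃ f : Fin n → Subgroup G, (∀ i, (Nat.card (f i)).Prime) ∧ (∀ i, f i ≤ F) ∧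
        (∀ i, I ≤ normalizer ((f i) : Set G)) ∧
        (∀ i, ∃ y, orderOf y = Nat.card (f i) ∧ f i = zpowers y) ∧
        (∀ i j, i ≠ j → ∀ a ∈ f i, ∀ b ∈ f j, a * b = b * a) ∧
        Nat.card ↥(A ⊔ ⨆ i, f i) = Nat.card A * ∏ i, Nat.card (f i) ∧
        J ⊓ centralizer ((⨆ i, f i : Subgroup G) : Set G) = ⊥ := by
  classical
  haveI : Fact (Nat.Prime 2) := ⟨Nat.prime_two⟩
  have hJp : ∀ J : Subgroup G, J ≤ I → IsPGroup 2 J := fun J hJ x =>
    ⟨1, Subtype.ext (by simpa using hI.2 x (hJ x.2))⟩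
  intro n
  induction n with
  | zero =>
    intro J F A _ hJc _ _ _ _ _ _ _
    refine ⟨Fin.elim0, fun i => i.elim0, fun i => i.elim0, fun i => i.elim0, fun i => i.elim0,
      fun i => i.elim0, by simp, ?_⟩
    rw [pow_zero, card_eq_one] at hJc
    rw [hJc, bot_inf_eq]
  | succ n ih =>
    intro J F A hJI hJc hIF hnil hodd hAF hAc hJA hfaith
    obtain ⟨t, htJ, ht1⟩ : ∃ t ∈ J, t ≠ 1 := by
      by_contra h; push Not at h
      rw [(eq_bot_iff_forall J).2 h, card_bot] at hJc
      exact (Nat.one_lt_two_pow n.succ_ne_zero).ne hJc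
    obtain ⟨y, hyF, q, hq, hq2, hyo, hty, hyI⟩ :=
      exists_eigen hI hIF hnil hodd (hJI htJ) (fun h => ht1 (hfaith t htJ h))
    haveI := Fact.mk hq
    have hy1 : y ≠ 1 := fun h => by rw [h, orderOf_one] at hyo; exact hq.ne_one hyo.symm
    set X := zpowers y with hX
    have hXF : X ≤ F := zpowers_le.2 hyF
    have hXc : Nat.card X = q := by rw [hX, Nat.card_zpowers, hyo]
    have hXI : I ≤ normalizer (X : Set G) := by
      intro u hu
      have hc : ∀ x ∈ X, u * x * u⁻¹ ∈ X := by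
        intro x hx
        obtain ⟨k, rfl⟩ := mem_zpowers_iff.1 hx
        rw [← conj_zpow]
        rcases hyI u hu with h | h <;> rw [h]
        · exact zpow_mem (mem_zpowers y) k
        · exact zpow_mem (inv_mem (mem_zpowers y)) k
      refine mem_normalizer_iff.2 fun x => ⟨hc x, fun h => ?_⟩
      have := hc _ h
      have e : u * (u * x * u⁻¹) * u⁻¹ = (u * u) * x * (u * u)⁻¹ := by group
      rwa [e, ← pow_two, hI.2 u hu, one_mul, inv_one, mul_one] at this
    set F' := F ⊓ centralizer ({y} : Set G) with hF'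
    set J' := J ⊓ centralizer ({y} : Set G) with hJ'
    have hJ'c : Nat.card J' = 2 ^ n := by
      have hi : (J'.subgroupOf J).index = 2 := by
        rw [index_eq_two_iff]
        refine ⟨⟨t, htJ⟩, fun b => ?_⟩
        have hneg : ∀ {u : G}, u ∈ J → u ∉ J' → u * y * u⁻¹ = y⁻¹ := by
          intro u hu hn
          refine (hyI u (hJI hu)).resolve_left fun h => hn ⟨hu, ?_⟩
          exact mem_centralizer_singleton_iff.2 (mul_inv_eq_iff_eq_mul.1 h)
        have hne2 : y⁻¹ ≠ y := fun h => by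
          have h2 : y ^ 2 = 1 := by rw [pow_two]; nth_rewrite 1 [← h]; exact inv_mul_cancel y
          have := orderOf_dvd_of_pow_eq_one h2
          rw [hyo] at this
          exact hq2 ((Nat.prime_dvd_prime_iff_eq hq Nat.prime_two).1 this)
        have htn : t ∉ J' := fun h => hne2 (by
          rw [← hty, mem_centralizer_singleton_iff.1 h.2, mul_inv_cancel_right])
        simp only [mem_subgroupOf, coe_mul, Xor']
        by_cases hb : (b : G) ∈ J'
        · exact Or.inr ⟨hb, fun h => htn ((J'.mul_mem_cancel_left hb).1 h)⟩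
        · refine Or.inl ⟨⟨mul_mem b.2 htJ, mem_centralizer_singleton_iff.2 ?_⟩, hb⟩
          have e1 := hneg b.2 hb
          have : (b : G) * t * y * ((b : G) * t)⁻¹ = y := by
            calc (b : G) * t * y * ((b : G) * t)⁻¹ = (b : G) * (t * y * t⁻¹) * (b : G)⁻¹ := by group
              _ = ((b : G) * y * (b : G)⁻¹)⁻¹ := by rw [hty]; group
              _ = y := by rw [e1, inv_inv]
          exact mul_inv_eq_iff_eq_mul.1 this
      have e := (J'.subgroupOf J).card_mul_index
      rw [hi, Nat.card_congr (subgroupOfEquivOfLe (inf_le_left : J' ≤ J)).toEquiv, hJc, pow_succ] at e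
      exact Nat.eq_of_mul_eq_mul_right two_pos e
    have hIF' : I ≤ normalizer (F' : Set G) := by
      intro u hu
      have hc : ∀ x ∈ F', u * x * u⁻¹ ∈ F' := by
        rintro x ⟨hxF, hxy⟩
        refine ⟨(mem_normalizer_iff.1 (hIF hu) x).1 hxF, mem_centralizer_singleton_iff.2 ?_⟩
        have hxy' : Commute x y := mem_centralizer_singleton_iff.1 hxy
        have h' : Commute (u * x * u⁻¹) (u * y * u⁻¹) := hxy'.map (MulAut.conj u).toMonoidHom
        rcases hyI u hu with h | h <;> rw [h] at h'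
        · exact h'.eq
        · exact (Commute.inv_right_iff.1 h').eq
      refine mem_normalizer_iff.2 fun x => ⟨hc x, fun h => ?_⟩
      have := hc _ h
      have e : u * (u * x * u⁻¹) * u⁻¹ = (u * u) * x * (u * u)⁻¹ := by group
      rwa [e, ← pow_two, hI.2 u hu, one_mul, inv_one, mul_one] at this
    -- faithfulness on the centraliser, by the A×B lemma
    have hfaith' : ∀ u ∈ J', (∀ x ∈ F', u * x = x * u) → u = 1 := by
      intro u hu hfix
      refine hfaith u hu.1 ?_
      have htop : (centralizer ({u} : Set G)).subgroupOf F = ⊤ := by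
        refine CfsgLib.Fitting.eq_top_of_forall_sylow_le fun r hr hrd => ?_
        haveI := Fact.mk hr
        let R : Sylow r F := default
        refine ⟨R, fun z hz => ?_⟩
        rw [mem_subgroupOf, mem_centralizer_singleton_iff]
        obtain ⟨k, hk⟩ := R.2 ⟨z, hz⟩
        have hk' : (z : G) ^ r ^ k = 1 := congrArg (fun w : (R : Subgroup F) => ((w : F) : G)) hk
        rcases eq_or_ne r q with rfl | hrq
        · -- the q-part
          haveI := hnil
          have hRn : (R : Subgroup F).Normal :=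
            sylow_normal hnil R
          set P := (R : Subgroup F).map F.subtype with hP
          have hRuniq : ∀ w : G, w ∈ F → (∃ k, w ^ r ^ k = 1) → w ∈ P := by
            intro w hw ⟨k, hk⟩
            have hp : IsPGroup r (zpowers (⟨w, hw⟩ : F)) := by
              rintro ⟨x, hx⟩
              obtain ⟨i, rfl⟩ := mem_zpowers_iff.1 hx
              refine ⟨k, Subtype.ext (Subtype.ext ?_)⟩
              simp only [SubgroupClass.coe_pow, SubgroupClass.coe_zpow, OneMemClass.coe_one]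
              rw [← zpow_natCast, ← zpow_mul, mul_comm, zpow_mul, zpow_natCast, hk, one_zpow]
            obtain ⟨R', hR'⟩ := hp.exists_le_sylow
            haveI := Sylow.unique_of_normal R hRn
            have : R' = R := Subsingleton.elim _ _
            exact ⟨_, this ▸ hR' (mem_zpowers _), rfl⟩
          have hconjP : ∀ g : G, g ∈ normalizer (F : Set G) → ∀ w ∈ P, g * w * g⁻¹ ∈ P := by
            rintro g hg _ ⟨w, hw, rfl⟩
            obtain ⟨k, hk⟩ := R.2 ⟨w, hw⟩
            refine hRuniq _ ((mem_normalizer_iff.1 hg w).1 w.2) ⟨k, ?_⟩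
            rw [conj_pow, show (F.subtype w) ^ r ^ k = 1 from
              congrArg (fun w : (R : Subgroup F) => ((w : F) : G)) hk]
            group
          have hNP : ∀ g : G, g ∈ normalizer (F : Set G) → g ∈ normalizer (P : Set G) := by
            intro g hg
            refine mem_normalizer_iff.2 fun w => ⟨hconjP g hg w, fun h => ?_⟩
            have := hconjP g⁻¹ (inv_mem hg) _ h
            simpa [mul_assoc] using this
          have hu2 : orderOf u ∣ 2 := orderOf_dvd_of_pow_eq_one (hI.2 u (hJI hu.1))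
          refine (CfsgLib.LocalEvenCharP.commute_of_fixes_centralizer (p := r) (P := P) (A := X)
            (R.2.map _) (IsPGroup.of_card (n := 1) (by rw [hXc, pow_one]))
            (fun a ha => hNP a (le_normalizer (hXF ha)))
            (((Nat.coprime_primes Nat.prime_two hr).2 (Ne.symm hq2)).coprime_dvd_left hu2)
            (hNP u (hIF (hJI hu.1))) ?_ ?_ (z : G) ⟨z, hz, rfl⟩).symm
          · intro a ha
            obtain ⟨i, rfl⟩ := mem_zpowers_iff.1 ha
            exact (Commute.zpow_right (mem_centralizer_singleton_iff.1 hu.2) i).eq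
          · intro w hw hwA
            refine hfix w ⟨(map_subtype_le _) hw, mem_centralizer_singleton_iff.2 ?_⟩
            exact (hwA y (mem_zpowers y)).symm
        · refine (hfix z ⟨z.2, mem_centralizer_singleton_iff.2 ?_⟩).symm
          exact (commute_of_coprime hnil z.2 hyF hr hq hrq ⟨k, hk'⟩
            ⟨1, by rw [pow_one, ← hyo]; exact pow_orderOf_eq_one y⟩).eq
      intro x hx
      have := htop.ge (mem_top (⟨x, hx⟩ : F))
      rw [mem_subgroupOf, mem_centralizer_singleton_iff] at this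
      exact this.symm
    have hAF' : A ⊔ X ≤ F' := by
      refine sup_le (fun a ha => ⟨hAF ha, mem_centralizer_singleton_iff.2 ?_⟩) (zpowers_le.2 ⟨hyF, ?_⟩)
      · exact (hAc a ha y hyF).symm
      · exact mem_centralizer_singleton_iff.2 rfl
    have hAc' : ∀ a ∈ A ⊔ X, ∀ x ∈ F', x * a = a * x := by
      intro a ha x hx
      have hle : A ⊔ X ≤ centralizer ({x} : Set G) := by
        refine sup_le (fun b hb => mem_centralizer_singleton_iff.2 (hAc b hb x hx.1).symm)
          (zpowers_le.2 ?_)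
        exact mem_centralizer_singleton_iff.2 (mem_centralizer_singleton_iff.1 hx.2).symm
      exact (mem_centralizer_singleton_iff.1 (hle ha)).symm
    have hJA' : ∀ u ∈ J', ∀ a ∈ A ⊔ X, u * a = a * u := by
      intro u hu a ha
      have hle : A ⊔ X ≤ centralizer ({u} : Set G) := by
        refine sup_le (fun b hb => mem_centralizer_singleton_iff.2 (hJA u hu.1 b hb).symm)
          (zpowers_le.2 ?_)
        exact mem_centralizer_singleton_iff.2 (mem_centralizer_singleton_iff.1 hu.2).symm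
      exact (mem_centralizer_singleton_iff.1 (hle ha)).symm
    obtain ⟨f, h1, h2, h3, h4, h5, h6, h7⟩ := ih J' F' (A ⊔ X) (inf_le_left.trans hJI) hJ'c hIF'
      (CfsgLib.Fitting.isNilpotent_of_le hnil inf_le_left)
      (Odd.of_dvd_nat hodd (card_dvd_of_le inf_le_left)) hAF' hAc' hJA' hfaith'
    have hdis : Disjoint A X := by
      rw [disjoint_iff, eq_bot_iff]
      rintro a ⟨haA, haX⟩
      obtain ⟨i, rfl⟩ := mem_zpowers_iff.1 haX
      by_contra hne
      have hfix : t * y ^ i * t⁻¹ = y ^ i := by rw [hJA t htJ _ haA, mul_inv_cancel_right]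
      rw [← conj_zpow, hty, inv_zpow] at hfix
      have hh : (y ^ i) ^ 2 = 1 := by
        rw [pow_two]; nth_rewrite 1 [← hfix]; exact inv_mul_cancel _
      have h2d := orderOf_dvd_of_pow_eq_one hh
      have hqd : orderOf (y ^ i) ∣ q := by
        rw [← hXc]; exact Subgroup.orderOf_dvd_natCard X haX
      rcases (Nat.dvd_prime hq).1 hqd with h | h
      · exact hne (orderOf_eq_one_iff.1 h)
      · rw [h] at h2d; exact hq2 ((Nat.prime_dvd_prime_iff_eq hq Nat.prime_two).1 h2d)
    have hAX : Nat.card ↥(A ⊔ X) = Nat.card A * q := by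
      have hcomm : ∀ (a : A) (x : X), Commute (A.subtype a) (X.subtype x) := fun a x =>
        (hAc a a.2 x (hXF x.2)).symm
      have hinj : Function.Injective (MonoidHom.noncommCoprod A.subtype X.subtype hcomm) := by
        rw [MonoidHom.noncommCoprod_injective]
        exact ⟨A.subtype_injective, X.subtype_injective, by rwa [range_subtype, range_subtype]⟩
      have e := Nat.card_congr (MonoidHom.ofInjective hinj).toEquiv
      rw [Nat.card_prod, MonoidHom.noncommCoprod_range, range_subtype, range_subtype, hXc] at e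
      exact e.symm
    have hsup : (⨆ i, (Fin.cons X f : Fin (n + 1) → Subgroup G) i) = X ⊔ ⨆ i, f i := by
      refine le_antisymm (iSup_le ?_) (sup_le (le_iSup_of_le 0 (by simp)) (iSup_le fun i => le_iSup_of_le i.succ (by simp)))
      intro i
      cases i using Fin.cases with
      | zero => simp
      | succ i => simpa using le_sup_of_le_right (le_iSup f i)
    have hXf : ∀ i, ∀ a ∈ X, ∀ b ∈ f i, a * b = b * a := by
      intro i a ha b hb
      exact (hAc' a (mem_sup_right ha) b (h2 i hb)).symm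
    refine ⟨Fin.cons X f, ?_, ?_, ?_, ?_, ?_, ?_, ?_⟩
    · intro i
      cases i using Fin.cases with
      | zero => rw [Fin.cons_zero, hXc]; exact hq
      | succ i => rw [Fin.cons_succ]; exact h1 i
    · intro i
      cases i using Fin.cases with
      | zero => rw [Fin.cons_zero]; exact hXF
      | succ i => rw [Fin.cons_succ]; exact (h2 i).trans inf_le_left
    · intro i
      cases i using Fin.cases with
      | zero => rw [Fin.cons_zero]; exact hXI
      | succ i => rw [Fin.cons_succ]; exact h3 i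
    · intro i
      cases i using Fin.cases with
      | zero => exact ⟨y, by rw [Fin.cons_zero, hXc, hyo], by rw [Fin.cons_zero]⟩
      | succ i => rw [Fin.cons_succ]; exact h4 i
    · intro i j hij
      cases i using Fin.cases with
      | zero =>
        cases j using Fin.cases with
        | zero => exact absurd rfl hij
        | succ j => simpa using hXf j
      | succ i =>
        cases j using Fin.cases with
        | zero =>
          simp only [Fin.cons_succ, Fin.cons_zero]
          exact fun a ha b hb => (hXf i b hb a ha).symm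
        | succ j =>
          simp only [Fin.cons_succ]
          exact h5 i j fun h => hij (by rw [h])
    · rw [hsup, ← sup_assoc, h6, hAX, Fin.prod_univ_succ]
      simp only [Fin.cons_zero, Fin.cons_succ, hXc, mul_assoc]
    · rw [hsup, eq_bot_iff]
      rintro u ⟨huJ, huC⟩
      have huC' := le_centralizer_iff.1 (zpowers_le.2 huC)
      have huy : u * y = y * u :=
        mem_centralizer_iff.1 (huC' (mem_sup_left (mem_zpowers y))) u (mem_zpowers u)
      have huJ' : u ∈ J' := ⟨huJ, mem_centralizer_singleton_iff.2 huy⟩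
      exact h7.le ⟨huJ', centralizer_le (fun w hw => mem_sup_right hw) huC⟩

end CfsgLib.Solvable.EigenChain
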