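import Mathlib
import Cfsg.Prelude.Def_SolvableStructure
import Cfsg.Prelude.Def_Transfer
import Cfsg.Agent.Lib.Solvable.NilpotentSubgroups
import Cfsg.Agent.Lib.Solvable.Supersolvable
import Cfsg.Agent.Lib.Coprime.Commutator

/-!
Minimal non-nilpotent groups (Schmidt) and minimal non-abelian groups (Miller–Moreno).
-/

set_option autoImplicit false
set_option linter.style.haveILetI false

namespace CfsgLib.MinimalNonNilpotent

open Subgroup

universe u
variable {G : Type u} [Group G]

theorem nilpotent_commute [Finite G] {H : Subgroup G} (hH : Group.IsNilpotent H) {x y : G}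
    (hx : x ∈ H) (hy : y ∈ H) (h : (orderOf x).Coprime (orderOf y)) : Commute x y := by
  have := hH
  have h' : (orderOf (⟨x, hx⟩ : H)).Coprime (orderOf (⟨y, hy⟩ : H)) := by
    rwa [orderOf_mk, orderOf_mk]
  exact congrArg Subtype.val (CfsgLib.NilpotentSubgroups.commute_of_orderOf_coprime h').eq

theorem coprime_orderOf_of_sylow [Finite G] {p q : ℕ} [hp : Fact p.Prime] [hq : Fact q.Prime]
    (hne : p ≠ q) {P Q : Subgroup G} (hP : IsPGroup p P) (hQ : IsPGroup q Q) {x y : G}
    (hx : x ∈ P) (hy : y ∈ Q) : (orderOf x).Coprime (orderOf y) := by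
  obtain ⟨i, hi⟩ := IsPGroup.iff_orderOf.1 hP ⟨x, hx⟩
  obtain ⟨j, hj⟩ := IsPGroup.iff_orderOf.1 hQ ⟨y, hy⟩
  rw [orderOf_mk] at hi hj
  rw [hi, hj]
  exact Nat.coprime_pow_primes _ _ hp.out hq.out hne

/-- A minimal non-nilpotent group: cyclic Sylow `p`-subgroup and normal Sylow `q`-subgroup. -/
theorem structure_exists [Finite G] (hG : Cfsg.IsMinimalNonNilpotent G) :
    ∃ p q : ℕ, p.Prime ∧ q.Prime ∧ p ≠ q ∧ ∃ (P : Sylow p G) (Q : Sylow q G),
      IsCyclic P ∧ (Q : Subgroup G).Normal ∧ (P : Subgroup G) ⊔ Q = ⊤ ∧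
      ∃ x : G, (P : Subgroup G) = zpowers x ∧ ¬ (P : Subgroup G) ≤ centralizer (Q : Set G) := by
  obtain ⟨hnn, hsub⟩ := hG
  haveI : Nontrivial G := by
    by_contra h
    rw [not_nontrivial_iff_subsingleton] at h
    exact hnn inferInstance
  obtain ⟨K, hKn, hKp⟩ := CfsgLib.NilpotentSubgroups.exists_normal_prime_index hsub
  set p := K.index with hpdef
  haveI : Fact p.Prime := ⟨hKp⟩
  have hKnil : Group.IsNilpotent K := hsub K fun e => by
    rw [hpdef, e, index_top] at hKp
    exact Nat.not_prime_one hKp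
  obtain ⟨P⟩ := (inferInstance : Nonempty (Sylow p G))
  have hnotnormal : ¬ (P : Subgroup G).Normal ∨ ∃ r : ℕ, r.Prime ∧ r ≠ p ∧
      ∃ R : Sylow r G, ¬ (R : Subgroup G).Normal := by
    by_contra hcon
    push Not at hcon
    refine hnn (((Group.isNilpotent_of_finite_tfae (G := G)).out 0 3).2 ?_)
    intro r hr R
    by_cases hrp : r = p
    · subst hrp
      obtain ⟨g, rfl⟩ := MulAction.exists_smul_eq G P R
      haveI := hcon.1
      rw [Sylow.smul_eq_of_normal]
      exact hcon.1
    · exact hcon.2 r hr.out hrp R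
  have hnormal : ∀ r : ℕ, r.Prime → r ≠ p → ∀ R : Sylow r G,
      (R : Subgroup G).Normal ∧ (R : Subgroup G) ≤ K := by
    intro r hr hrp R
    haveI : Fact r.Prime := ⟨hr⟩
    have hRK : (R : Subgroup G) ≤ K := by
      intro x hx
      obtain ⟨j, hj⟩ := IsPGroup.iff_orderOf.1 R.isPGroup' ⟨x, hx⟩
      rw [orderOf_mk] at hj
      have h1 : orderOf (QuotientGroup.mk' K x) = 1 :=
        Nat.eq_one_of_dvd_coprimes (Nat.Coprime.pow_left j ((Nat.coprime_primes hr hKp).2 hrp))
          (hj ▸ orderOf_map_dvd (QuotientGroup.mk' K) x) (orderOf_dvd_natCard _)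
      exact (QuotientGroup.eq_one_iff x).1 (orderOf_eq_one_iff.1 h1)
    haveI := hKnil
    have hn : ((R.subtype hRK : Sylow r K) : Subgroup K).Normal := inferInstance
    have := CfsgLib.Supersolvable.normal_of_mulEquiv_prime (R.subtype hRK) hn
    rw [Sylow.coe_subtype, map_subgroupOf_eq_of_le hRK] at this
    exact ⟨this, hRK⟩
  have hPnn : ¬ (P : Subgroup G).Normal := by
    rcases hnotnormal with h | ⟨r, hr, hrp, R, hR⟩
    · exact h
    · exact absurd (hnormal r hr hrp R).1 hR
  -- some `q` with `P ⊔ Q = ⊤`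
  obtain ⟨q, hq, hqp, Q, hPQ⟩ : ∃ q : ℕ, q.Prime ∧ q ≠ p ∧ ∃ Q : Sylow q G,
      (P : Subgroup G) ⊔ Q = ⊤ := by
    by_contra hcon
    push Not at hcon
    refine hPnn (normalizer_eq_top_iff.1 ?_)
    refine CfsgLib.Fitting.eq_top_of_forall_sylow_le fun r hr _ => ?_
    haveI : Fact r.Prime := ⟨hr⟩
    by_cases hrp : r = p
    · subst hrp; exact ⟨P, le_normalizer⟩
    obtain ⟨R⟩ := (inferInstance : Nonempty (Sylow r G))
    refine ⟨R, fun y hy => ?_⟩
    rw [mem_normalizer_iff]
    have hnil := hsub _ (hcon r hr hrp R)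
    have hc : ∀ z ∈ (P : Subgroup G), y * z = z * y := fun z hz =>
      (nilpotent_commute hnil (le_sup_right (α := Subgroup G) hy) (le_sup_left (α := Subgroup G) hz)
        (coprime_orderOf_of_sylow hrp R.isPGroup' P.isPGroup' hy hz)).eq
    intro z
    constructor
    · intro hz; rwa [hc z hz, mul_inv_cancel_right]
    · intro hz
      have h1 := hc _ hz
      have h2 : y * z = z * y := by
        have := congrArg (fun t => y⁻¹ * t * y) h1
        simpa [mul_assoc] using this
      rwa [h2, mul_inv_cancel_right] at hz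
  haveI : Fact q.Prime := ⟨hq⟩
  obtain ⟨hQn, hQK⟩ := hnormal q hq hqp Q
  haveI := hQn
  have hncent : ¬ (P : Subgroup G) ≤ centralizer (Q : Set G) := by
    intro h
    refine hPnn (normalizer_eq_top_iff.1 (eq_top_iff.2 (hPQ ▸ sup_le le_normalizer ?_)))
    intro y hy
    rw [mem_normalizer_iff]
    intro z
    constructor
    · intro hz
      rwa [(mem_centralizer_iff.1 (h hz) y hy), mul_inv_cancel_right]
    · intro hz
      have h1 := mem_centralizer_iff.1 (h hz) y hy
      have h2 : y * z = z * y := by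
        have := congrArg (fun t => y⁻¹ * t * y) h1
        simpa [mul_assoc] using this
      rwa [h2, mul_inv_cancel_right] at hz
  obtain ⟨x, hxP, hxK⟩ : ∃ x ∈ (P : Subgroup G), x ∉ K := by
    by_contra hcon
    push Not at hcon
    have : K = ⊤ := top_le_iff.1 (hPQ ▸ sup_le hcon hQK)
    rw [hpdef, this, index_top] at hKp
    exact Nat.not_prime_one hKp
  have hxtop : zpowers x ⊔ (Q : Subgroup G) = ⊤ := by
    by_contra hne
    have hnil := hsub _ hne
    apply hncent
    intro y hy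
    -- decompose `y` along `x` and `P ⊓ K`
    have hcx : ∀ z ∈ (Q : Subgroup G), z * x = x * z := fun z hz =>
      (nilpotent_commute hnil (le_sup_right (α := Subgroup G) hz) (le_sup_left (α := Subgroup G) (mem_zpowers x))
        (coprime_orderOf_of_sylow hqp Q.isPGroup' P.isPGroup' hz hxP)).eq
    have hck : ∀ w ∈ (P : Subgroup G) ⊓ K, w ∈ centralizer (Q : Set G) := fun w hw =>
      mem_centralizer_iff.2 fun z hz => (nilpotent_commute hKnil (hQK hz) hw.2
        (coprime_orderOf_of_sylow hqp Q.isPGroup' P.isPGroup' hz hw.1)).eq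
    have hxc : x ∈ centralizer (Q : Set G) := mem_centralizer_iff.2 hcx
    haveI : IsCyclic (G ⧸ K) := isCyclic_of_prime_card (p := p) rfl
    have hxne : QuotientGroup.mk' K x ≠ 1 := fun e => hxK ((QuotientGroup.eq_one_iff x).1 e)
    have hmem : QuotientGroup.mk' K y ∈ zpowers (QuotientGroup.mk' K x) := by
      rw [zpowers_eq_top_of_prime_card (p := p) rfl hxne]
      exact mem_top _
    obtain ⟨k, hk⟩ := mem_zpowers_iff.1 hmem
    have hw : (x ^ k)⁻¹ * y ∈ (P : Subgroup G) ⊓ K := by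
      refine ⟨(mul_mem (inv_mem (zpow_mem hxP k)) hy : (x ^ k)⁻¹ * y ∈ (P : Subgroup G)),
        (QuotientGroup.eq_one_iff _).1 ?_⟩
      show QuotientGroup.mk' K ((x ^ k)⁻¹ * y) = 1
      rw [map_mul, map_inv, map_zpow, hk, inv_mul_cancel]
    have := mul_mem (zpow_mem hxc k) (hck _ hw)
    rwa [mul_inv_cancel_left] at this
  have hPx : (P : Subgroup G) = zpowers x := by
    refine le_antisymm (fun y hy => ?_) (zpowers_le.2 hxP)
    have : y ∈ zpowers x ⊔ (Q : Subgroup G) := hxtop.symm ▸ mem_top y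
    obtain ⟨a, ha, b, hb, rfl⟩ := mem_sup_of_normal_right.1 this
    have hbP : b ∈ (P : Subgroup G) := by
      have := mul_mem (inv_mem (zpowers_le.2 hxP ha)) hy
      rwa [inv_mul_cancel_left] at this
    have hb1 : b = 1 := by
      have := (IsPGroup.disjoint_of_ne p q hqp.symm _ _ P.isPGroup' Q.isPGroup')
      exact mem_bot.1 (this.le_bot ⟨hbP, hb⟩)
    rwa [hb1, mul_one]
  refine ⟨p, q, hKp, hq, hqp.symm, P, Q, ?_, hQn, hPQ, x, hPx, hncent⟩
  show IsCyclic (P : Subgroup G)
  rw [hPx]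
  infer_instance

/-- Minimal non-abelian groups. -/
theorem miller_moreno [Finite G] (hna : ¬ IsMulCommutative G)
    (h : ∀ H : Subgroup G, H ≠ ⊤ → IsMulCommutative H) :
    (∃ p : ℕ, p.Prime ∧ IsPGroup p G) ∨ ∃ p q : ℕ, p.Prime ∧ q.Prime ∧ p ≠ q ∧
      ∃ (P : Sylow p G) (Q : Sylow q G), IsCyclic P ∧ (Q : Subgroup G).Normal ∧
        Cfsg.IsElementaryAbelian q (Q : Subgroup G) ∧ (P : Subgroup G) ⊔ Q = ⊤ := by
  by_cases hnil : Group.IsNilpotent G
  · by_cases hp : ∃ p : ℕ, p.Prime ∧ IsPGroup p G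
    · exact Or.inl hp
    exfalso
    push Not at hp
    apply hna
    have hle : ∀ (r : ℕ), r.Prime → ∀ R : Sylow r G, (R : Subgroup G) ≤ center G := by
      intro r hr R
      haveI : Fact r.Prime := ⟨hr⟩
      have hne : (R : Subgroup G) ≠ ⊤ := fun e => hp r hr fun g => by
        obtain ⟨k, hk⟩ := R.isPGroup' ⟨g, e ▸ mem_top g⟩
        exact ⟨k, congrArg Subtype.val hk⟩
      haveI := h _ hne
      have htop : centralizer ((R : Subgroup G) : Set G) = ⊤ := by
        refine CfsgLib.Fitting.eq_top_of_forall_sylow_le fun s hs _ => ?_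
        haveI : Fact s.Prime := ⟨hs⟩
        by_cases hsr : s = r
        · subst hsr
          refine ⟨R, fun y hy => mem_centralizer_iff.2 fun z hz => ?_⟩
          exact congrArg Subtype.val (mul_comm' (⟨z, hz⟩ : (R : Subgroup G)) ⟨y, hy⟩)
        · obtain ⟨S⟩ := (inferInstance : Nonempty (Sylow s G))
          refine ⟨S, fun y hy => mem_centralizer_iff.2 fun z hz => ?_⟩
          exact (CfsgLib.NilpotentSubgroups.commute_of_orderOf_coprime
            (coprime_orderOf_of_sylow (Ne.symm hsr) R.isPGroup' S.isPGroup' hz hy)).eq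
      rwa [centralizer_eq_top_iff_subset] at htop
    have : center G = ⊤ := CfsgLib.Fitting.eq_top_of_forall_sylow_le fun r hr _ =>
      ⟨Classical.choice inferInstance, hle r hr _⟩
    exact ⟨⟨fun a b => mem_center_iff.1 (this.symm ▸ mem_top b) a⟩⟩
  · obtain ⟨p, q, hp, hq, hpq, P, Q, hPc, hQn, hPQ, x, hPx, hncent⟩ :=
      structure_exists ⟨hnil, fun H hH => by
        haveI := h H hH
        letI : CommGroup H := { (inferInstance : Group H) with mul_comm := mul_comm' }
        exact CommGroup.isNilpotent⟩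
    refine Or.inr ⟨p, q, hp, hq, hpq, P, Q, hPc, hQn, ?_, hPQ⟩
    haveI : Fact p.Prime := ⟨hp⟩
    haveI : Fact q.Prime := ⟨hq⟩
    haveI := hQn
    have hdisj := IsPGroup.disjoint_of_ne p q hpq _ _ P.isPGroup' Q.isPGroup'
    have hQtop : (Q : Subgroup G) ≠ ⊤ := fun e => hncent fun y hy => by
      have : y = 1 := mem_bot.1 (hdisj.le_bot ⟨hy, e ▸ mem_top y⟩)
      rw [this]; exact one_mem _
    haveI := h _ hQtop
    refine ⟨inferInstance, ?_⟩
    letI : CommGroup (Q : Subgroup G) :=
      { (inferInstance : Group (Q : Subgroup G)) with mul_comm := mul_comm' }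
    set E : Subgroup G := (powMonoidHom q : (Q : Subgroup G) →* (Q : Subgroup G)).ker.map
      (Q : Subgroup G).subtype with hE
    have hEn : E.Normal := by
      refine ⟨fun e he g => ?_⟩
      obtain ⟨w, hw, rfl⟩ := he
      refine ⟨⟨g * w * g⁻¹, hQn.conj_mem _ w.2 g⟩, ?_, rfl⟩
      have hw' : ((w : G)) ^ q = 1 := by simpa using congrArg Subtype.val hw
      show (⟨g * w * g⁻¹, hQn.conj_mem _ w.2 g⟩ : (Q : Subgroup G)) ^ q = 1
      exact Subtype.ext (by simp [hw'])
    suffices hEQ : (Q : Subgroup G) ≤ E by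
      intro a ha
      obtain ⟨w, hw, rfl⟩ := hEQ ha
      simpa using congrArg Subtype.val hw
    by_contra hlt
    have hne : zpowers x ⊔ E ≠ ⊤ := by
      intro e
      apply hlt
      intro w hw
      obtain ⟨a, ha, b, hb, rfl⟩ := mem_sup_of_normal_right.1 (e.symm ▸ mem_top w)
      have haQ : a ∈ (Q : Subgroup G) := by
        have := mul_mem hw (inv_mem ((map_subtype_le _ : E ≤ (Q : Subgroup G)) hb))
        rwa [mul_inv_cancel_right] at this
      have : a = 1 := mem_bot.1 (hdisj.le_bot ⟨hPx ▸ ha, haQ⟩)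
      rwa [this, one_mul]
    haveI := h _ hne
    apply hncent
    have hcop : (Nat.card (P : Subgroup G)).Coprime (Nat.card (Q : Subgroup G)) :=
      IsPGroup.coprime_card_of_ne p q hpq _ _ P.isPGroup' Q.isPGroup'
    have hAV : (P : Subgroup G) ≤ normalizer ((Q : Subgroup G) : Set G) := by
      rw [normalizer_eq_top]; exact le_top
    have h1 := CfsgLib.Coprime.commutator_inf_centralizer_eq_bot (P : Subgroup G) (Q : Subgroup G) hAV hcop
    show (P : Subgroup G) ≤ centralizer ((Q : Subgroup G) : Set G)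
    rw [le_centralizer_iff, ← commutator_eq_bot_iff_le_centralizer]
    by_contra hne'
    have hpg : IsPGroup q (⁅(Q : Subgroup G), (P : Subgroup G)⁆ : Subgroup G) :=
      Q.isPGroup'.to_le (CfsgLib.Coprime.commutator_le_of_normalizes hAV)
    obtain ⟨k, hk⟩ := IsPGroup.iff_card.1 hpg
    have hk0 : k ≠ 0 := fun e => hne' (card_eq_one.1 (by rw [hk, e, pow_zero]))
    obtain ⟨w, hw⟩ := exists_prime_orderOf_dvd_card' q (hk ▸ dvd_pow_self q hk0)
    rw [← orderOf_coe] at hw
    have hwQ := CfsgLib.Coprime.commutator_le_of_normalizes hAV w.2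
    have hwE : (w : G) ∈ E := ⟨⟨w, hwQ⟩, Subtype.ext (by
      show (w : G) ^ q = 1
      exact orderOf_dvd_iff_pow_eq_one.1 hw.dvd), rfl⟩
    have hwC : (w : G) ∈ ⁅(Q : Subgroup G), (P : Subgroup G)⁆ ⊓ centralizer ((P : Subgroup G) : Set G) := by
      refine ⟨w.2, mem_centralizer_iff.2 fun y hy => ?_⟩
      exact congrArg Subtype.val (mul_comm'
        (⟨y, le_sup_left (α := Subgroup G) (show y ∈ zpowers x from hPx ▸ hy)⟩ : (zpowers x ⊔ E : Subgroup G))
        ⟨w, le_sup_right (α := Subgroup G) hwE⟩)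
    rw [h1, mem_bot] at hwC
    rw [hwC, orderOf_one] at hw
    exact hq.one_lt.ne hw

end CfsgLib.MinimalNonNilpotent
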