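import Mathlib
import Cfsg.Prelude.Def_SolvableStructure
import Cfsg.Agent.Lib.Hall.Solvable
import Cfsg.Agent.Lib.Solvable.Supersolvable

/-!
Hall complement systems; subgroups of every order in abelian groups.
-/

set_option autoImplicit false

namespace CfsgLib.ComplementSystem

open Subgroup
open scoped Pointwise

universe u
variable {G : Type u} [Group G]

/-- Two subgroups of coprime index: every element is a product, and the indices multiply. -/
theorem coprime_index_product [Finite G] {H D : Subgroup G} (hcop : H.index.Coprime D.index) :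
    (H ⊓ D).index = H.index * D.index ∧ ∀ x : G, ∃ l ∈ H, ∃ d ∈ D, x = l * d := by
  have h1 : (H ⊓ D).relIndex D * D.index = (H ⊓ D).index := relIndex_mul_index inf_le_right
  rw [inf_relIndex_right] at h1
  have h2 : H.index ∣ H.relIndex D :=
    hcop.dvd_of_dvd_mul_right (h1 ▸ index_dvd_of_le inf_le_left)
  have h3 : H.relIndex D = H.index := by
    refine le_antisymm ?_ (Nat.le_of_dvd (Nat.pos_of_ne_zero index_ne_zero_of_finite) h2)
    have := relIndex_le_of_le_right (H := H) (le_top : D ≤ ⊤)
      (by rw [relIndex_top_right]; exact index_ne_zero_of_finite)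
    rwa [relIndex_top_right] at this
  refine ⟨by rw [← h1, h3], fun x => ?_⟩
  let f : D ⧸ H.subgroupOf D → G ⧸ H := Quotient.map' (fun y : D => (y : G)) fun a b h => by
    rw [QuotientGroup.leftRel_apply] at h ⊢
    exact h
  have hinj : Function.Injective f := by
    intro u v
    refine Quotient.inductionOn₂' u v fun a b h => ?_
    exact QuotientGroup.eq.2 (QuotientGroup.eq.1 (h : (QuotientGroup.mk (a : G) : G ⧸ H) = QuotientGroup.mk (b : G)) :)
  have hbij := hinj.bijective_of_nat_card_le (le_of_eq h3.symm)
  obtain ⟨u, hu⟩ := hbij.2 (QuotientGroup.mk (s := H) x⁻¹)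
  obtain ⟨d, rfl⟩ := QuotientGroup.mk_surjective u
  have hd : (d : G)⁻¹ * x⁻¹ ∈ H := QuotientGroup.eq.1 hu
  refine ⟨x * d, ?_, (d : G)⁻¹, inv_mem d.2, by group⟩
  have := inv_mem hd
  simpa using this

theorem conj_smul_mem {g : G} {H : Subgroup G} (hg : g ∈ H) : MulAut.conj g • H = H :=
  Subgroup.conj_smul_eq_self_of_mem hg

theorem index_conj_smul (H : Subgroup G) (g : G) : (MulAut.conj g • H).index = H.index :=
  Subgroup.index_map_equiv H (MulAut.conj g)

/-- Any two Hall complement systems of a solvable group are conjugate. -/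
theorem conj [Finite G] [Group.IsSolvable G] {K L : Nat.Primes → Subgroup G}
    (hK : Cfsg.IsComplementSystem K) (hL : Cfsg.IsComplementSystem L) :
    ∃ g : G, ∀ p : Nat.Primes, MulAut.conj g • K p = L p := by
  classical
  have key : ∀ T : Finset Nat.Primes, ∃ g : G, (∀ p ∈ T, MulAut.conj g • K p = L p) ∧
      ∃ D : Subgroup G, (∀ p ∈ T, D ≤ L p) ∧
        ∀ q : ℕ, q.Prime → q ∣ D.index → ∃ p ∈ T, (p : ℕ) = q := by
    intro T
    induction T using Finset.induction with
    | empty => exact ⟨1, by simp, ⊤, by simp, fun q hq h => absurd (index_top (G := G) ▸ h) hq.not_dvd_one⟩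
    | @insert q T hqT ih =>
      obtain ⟨g, hg, D, hD, hidx⟩ := ih
      have hcop : (L q).index.Coprime D.index := by
        rw [hL q]
        refine Nat.Coprime.pow_left _ (q.2.coprime_iff_not_dvd.2 fun h => ?_)
        obtain ⟨p, hp, hpq⟩ := hidx q q.2 h
        exact hqT (Subtype.ext hpq ▸ hp)
      obtain ⟨hprod, hfac⟩ := coprime_index_product hcop
      have hcard : ∀ H : Subgroup G, H.index = (q : ℕ) ^ (Nat.card G).factorization q →
          Nat.card H = Nat.card G / (q : ℕ) ^ (Nat.card G).factorization q := fun H hH => by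
        refine (Nat.div_eq_of_eq_mul_left (pow_pos q.2.pos _) ?_).symm
        rw [← hH]; exact H.card_mul_index.symm
      obtain ⟨x, hx⟩ := CfsgLib.Hall.conj_of_card (m := Nat.card G / (q : ℕ) ^ (Nat.card G).factorization q)
        (k := (q : ℕ) ^ (Nat.card G).factorization q)
        (Nat.div_mul_cancel (Nat.ordProj_dvd _ _)).symm
        (Nat.Coprime.pow_right _ (Nat.coprime_ordCompl q.2 Nat.card_pos.ne').symm)
        (hcard (MulAut.conj g • K q) ((index_conj_smul _ _).trans (hK q))) (hcard (L q) (hL q))
      obtain ⟨l, hl, d, hd, rfl⟩ := hfac x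
      refine ⟨d * g, ?_, L q ⊓ D, ?_, ?_⟩
      · intro p hp
        rw [map_mul, mul_smul]
        rcases Finset.mem_insert.1 hp with rfl | hp'
        · have h1 : MulAut.conj l • (MulAut.conj d • MulAut.conj g • K p) = MulAut.conj l • L p := by
            rw [← mul_smul (MulAut.conj l), ← map_mul, hx, conj_smul_mem hl]
          exact (MulAction.injective (MulAut.conj l)) h1
        · rw [hg p hp', conj_smul_mem (hD p hp' hd)]
      · intro p hp
        rcases Finset.mem_insert.1 hp with rfl | hp'
        · exact inf_le_left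
        · exact inf_le_right.trans (hD p hp')
      · intro r hr hrd
        rw [hprod] at hrd
        rcases hr.dvd_mul.1 hrd with h | h
        · rw [hL q] at h
          exact ⟨q, Finset.mem_insert_self _ _,
            ((Nat.prime_dvd_prime_iff_eq hr q.2).1 (hr.dvd_of_dvd_pow h)).symm⟩
        · obtain ⟨p, hp, hpr⟩ := hidx r hr h
          exact ⟨p, Finset.mem_insert_of_mem hp, hpr⟩
  obtain ⟨g, hg, -⟩ := key ((Nat.card G).primeFactors.attach.image
    fun p : {x // x ∈ (Nat.card G).primeFactors} =>
      (⟨p.1, Nat.prime_of_mem_primeFactors p.2⟩ : Nat.Primes))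
  refine ⟨g, fun p => ?_⟩
  by_cases hp : (p : ℕ) ∈ (Nat.card G).primeFactors
  · exact hg p (Finset.mem_image.2 ⟨⟨p, hp⟩, Finset.mem_attach _ _, rfl⟩)
  · have h0 : (p : ℕ) ^ (Nat.card G).factorization p = 1 := by
      rw [← Nat.support_factorization, Finsupp.notMem_support_iff] at hp
      rw [hp, pow_zero]
    rw [index_eq_one.1 ((hL p).trans h0),
      index_eq_one.1 ((hK p).trans h0)]
    exact index_eq_one.1 ((index_conj_smul _ _).trans index_top)

theorem isSupersolvable_of_commGroup {A : Type u} [CommGroup A] [Finite A] :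
    Cfsg.IsSupersolvable A := by
  suffices ∀ n, ∀ (B : Type u) [CommGroup B] [Finite B], Nat.card B = n → Cfsg.IsSupersolvable B from
    this _ A rfl
  intro n
  induction n using Nat.strong_induction_on with
  | _ n ih =>
    intro B _ _ hB
    rcases subsingleton_or_nontrivial B with h | h
    · exact CfsgLib.Supersolvable.of_subsingleton
    obtain ⟨x, hx⟩ := exists_ne (1 : B)
    exact CfsgLib.Supersolvable.of_cyclic_normal_quotient (zpowers x)
      (ih _ (hB ▸ CfsgLib.Supersolvable.card_quotient_lt (zpowers_ne_bot.2 hx)) _ rfl)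

/-- `G × A` has subgroups of every order when the exponents of `|A|` are one less. -/
theorem prod_hasSubgroupOfEveryOrder {A : Type*} [CommGroup A] [Finite A] [Finite G]
    [Group.IsSolvable G]
    (hexp : ∀ p : ℕ, p.Prime → p ∣ Nat.card G →
      (Nat.card A).factorization p + 1 = (Nat.card G).factorization p) :
    Cfsg.HasSubgroupOfEveryOrder (G × A) := by
  intro d hd
  rw [Nat.card_prod] at hd
  have hG0 : Nat.card G ≠ 0 := Nat.card_pos.ne'
  have hA0 : Nat.card A ≠ 0 := Nat.card_pos.ne'
  have hd0 : d ≠ 0 := fun e => by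
    rw [e, zero_dvd_iff] at hd
    exact mul_ne_zero hG0 hA0 hd
  have hle : ∀ p, d.factorization p ≤
      (Nat.card G).factorization p + (Nat.card A).factorization p := fun p => by
    have := (Nat.factorization_le_iff_dvd hd0 (mul_ne_zero hG0 hA0)).2 hd p
    rwa [Nat.factorization_mul hG0 hA0, Finsupp.add_apply] at this
  -- choose the part coming from `G`
  let f : ℕ →₀ ℕ := Finsupp.onFinset (Nat.card G).primeFactors
    (fun p => if (Nat.card G).factorization p ≤ d.factorization p
      then (Nat.card G).factorization p else 0) (fun p hp => by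
      rw [← Nat.support_factorization, Finsupp.mem_support_iff]
      intro h0
      apply hp
      simp [h0])
  have hfpr : ∀ p ∈ f.support, p.Prime := fun p hp =>
    Nat.prime_of_mem_primeFactors (Finsupp.support_onFinset_subset hp)
  set m := f.prod (· ^ ·) with hm
  have hm0 : m ≠ 0 := by
    rw [hm, Finsupp.prod]
    exact Finset.prod_ne_zero_iff.2 fun p hp => pow_ne_zero _ (hfpr p hp).ne_zero
  have hmf : ∀ p, m.factorization p = f p := fun p => by
    rw [hm, Nat.prod_pow_factorization_eq_self hfpr]
  have hcase : ∀ p, (f p = (Nat.card G).factorization p ∧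
      (Nat.card G).factorization p ≤ d.factorization p) ∨
      (f p = 0 ∧ d.factorization p < (Nat.card G).factorization p) := fun p => by
    simp only [f, Finsupp.onFinset_apply]
    split
    · exact Or.inl ⟨rfl, by assumption⟩
    · exact Or.inr ⟨rfl, by omega⟩
  have hmd : m ∣ d := by
    rw [← Nat.factorization_le_iff_dvd hm0 hd0]
    intro p
    rw [hmf]
    rcases hcase p with h | h <;> omega
  have hmG : m ∣ Nat.card G := by
    rw [← Nat.factorization_le_iff_dvd hm0 hG0]
    intro p
    rw [hmf]
    rcases hcase p with h | h <;> omega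
  obtain ⟨k, hk⟩ := hmG
  have hk0 : k ≠ 0 := fun e => hG0 (by rw [hk, e, mul_zero])
  have hcop : m.Coprime k := by
    refine Nat.coprime_of_dvd fun p hp h1 h2 => ?_
    have hkf : (Nat.card G).factorization p = f p + k.factorization p := by
      rw [hk, Nat.factorization_mul hm0 hk0, Finsupp.add_apply, hmf]
    have h3 := hp.factorization_pos_of_dvd hm0 h1
    have h4 := hp.factorization_pos_of_dvd hk0 h2
    rw [hmf] at h3
    rcases hcase p with h | h <;> omega
  obtain ⟨H, hH⟩ := CfsgLib.Hall.exists_subgroup_card hk hcop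
  obtain ⟨e, he⟩ := hmd
  have he0 : e ≠ 0 := fun h => hd0 (by rw [he, h, mul_zero])
  have heA : e ∣ Nat.card A := by
    rw [← Nat.factorization_le_iff_dvd he0 hA0]
    intro p
    have h1 := hle p
    have hde : d.factorization p = f p + e.factorization p := by
      rw [he, Nat.factorization_mul hm0 he0, Finsupp.add_apply, hmf]
    rcases hcase p with h | h
    · omega
    · by_cases hp : p.Prime ∧ p ∣ Nat.card G
      · have h2 := hexp p hp.1 hp.2
        omega
      · have hG' : (Nat.card G).factorization p = 0 := by
          rw [Nat.factorization_eq_zero_iff]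
          tauto
        omega
  obtain ⟨B, hB⟩ := CfsgLib.Supersolvable.hasSubgroupOfEveryOrder
    (isSupersolvable_of_commGroup (A := A)) e heA
  exact ⟨H.prod B, by rw [Nat.card_congr (H.prodEquiv B).toEquiv, Nat.card_prod, hH, hB, he]⟩

end CfsgLib.ComplementSystem
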