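import Cfsg.Agent.Lib.Solvable.KegelWielandtCoprime
import Cfsg.Agent.Lib.Solvable.MinNormal

/-!
# The Kegel–Wielandt theorem
-/

set_option autoImplicit false
open Pointwise
open scoped commutatorElement

namespace CfsgLib.KegelWielandt

open Subgroup CfsgLib.NilPart

universe u

variable {G : Type u} [Group G]

/-- The parts for one prime of the two factors multiply to a `p`-subgroup. -/
theorem part_mul_part [Finite G] {A B : Subgroup G} (hA : Group.IsNilpotent A)
    (hB : Group.IsNilpotent B) (hAB : ∀ g : G, ∃ a ∈ A, ∃ b ∈ B, g = a * b) (p : ℕ)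
    [Fact p.Prime] :
    ∃ R : Subgroup G, IsPGroup p R ∧ (R : Set G) = (part p A : Set G) * (part p B : Set G) := by
  obtain ⟨P, Q, R, hR⟩ := Factorization.exists_sylow_product (p := p) hAB
  refine ⟨R, R.isPGroup', hR.trans ?_⟩
  have hP : ∀ (C : Subgroup G), Group.IsNilpotent C → ∀ S : Sylow p C,
      (S : Subgroup C).map C.subtype = part p C := by
    intro C hC S
    refine eq_of_le_of_card_ge (le_part (S.isPGroup'.map _) (map_subtype_le _)) ?_
    rw [card_part hC, card_map_of_injective C.subtype_injective, S.card_eq_multiplicity]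
  rw [hP A hA P, hP B hB Q]

theorem factorised_sup [Finite G] {A B : Subgroup G}
    (hAB : ∀ g : G, ∃ a ∈ A, ∃ b ∈ B, g = a * b) {L : Subgroup G} (hAL : A ≤ L) :
    ∀ g : L, ∃ a ∈ A.subgroupOf L, ∃ b ∈ B.subgroupOf L, g = a * b := fun g => by
  obtain ⟨a, ha, b, hb, e⟩ := hAB g
  have hbL : b ∈ L := by
    have : b = a⁻¹ * g := by rw [e, inv_mul_cancel_left]
    rw [this]
    exact mul_mem (inv_mem (hAL ha)) g.2
  exact ⟨⟨a, hAL ha⟩, ha, ⟨b, hbL⟩, hb, Subtype.ext e⟩

theorem isNilpotent_subgroupOf [Finite G] {A : Subgroup G} (hA : Group.IsNilpotent A)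
    (L : Subgroup G) : Group.IsNilpotent (A.subgroupOf L) := by
  rw [← inf_subgroupOf_right]
  haveI := Fitting.isNilpotent_of_le hA (inf_le_left : A ⊓ L ≤ A)
  exact Group.nilpotent_of_mulEquiv (subgroupOfEquivOfLe (inf_le_right : A ⊓ L ≤ L)).symm

/-- The Kegel–Wielandt theorem. -/
theorem isSolvable : ∀ (n : ℕ) {G : Type u} [Group G] [Finite G], Nat.card G = n →
    ∀ A B : Subgroup G, Group.IsNilpotent A → Group.IsNilpotent B →
    (∀ g : G, ∃ a ∈ A, ∃ b ∈ B, g = a * b) → Group.IsSolvable G := by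
  intro n
  induction n using Nat.strong_induction_on with
  | _ n ih =>
  intro G _ _ hn A B hA hB hAB
  subst hn
  rcases subsingleton_or_nontrivial G with hsub | hnt
  · exact Group.isSolvable_of_comm fun a b => Subsingleton.elim _ _
  by_contra hns
  have hquot : ∀ (K : Subgroup G) [K.Normal], K ≠ ⊥ → Group.IsSolvable (G ⧸ K) := by
    intro K _ hK
    refine ih _ ?_ rfl (A.map (QuotientGroup.mk' K)) (B.map (QuotientGroup.mk' K))
      (Fitting.isNilpotent_map hA _) (Fitting.isNilpotent_map hB _)
      (KegelWielandtCoprime.factor_image (QuotientGroup.mk'_surjective K) hAB)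
    rw [← index_eq_card, ← K.card_mul_index]
    exact lt_mul_of_one_lt_left (Nat.pos_of_ne_zero index_ne_zero_of_finite)
      (K.one_lt_card_iff_ne_bot.2 hK)
  have hnsol : ∀ (K : Subgroup G) [K.Normal], K ≠ ⊥ → ¬ Group.IsSolvable K := by
    intro K _ hK hs
    haveI := hs
    haveI := hquot K hK
    exact hns (Group.isSolvable_of_ker_le_range K.subtype (QuotientGroup.mk' K)
      (by rw [QuotientGroup.ker_mk', range_subtype]))
  have hsup : ∀ (C D : Subgroup G), Group.IsNilpotent C → Group.IsNilpotent D →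
      (∀ g : G, ∃ c ∈ C, ∃ d ∈ D, g = c * d) → ∀ (K : Subgroup G) [K.Normal], K ≠ ⊥ →
      C ⊔ K = ⊤ := by
    intro C D hC hD hCD K _ hK
    by_contra hne
    refine hnsol K hK ?_
    haveI : Group.IsSolvable (C ⊔ K : Subgroup G) := ih _
      (lt_of_le_of_ne (card_le_card_group _) fun e => hne (eq_top_of_card_eq _ e)) rfl
      (C.subgroupOf _) (D.subgroupOf _) (isNilpotent_subgroupOf hC _)
      (isNilpotent_subgroupOf hD _) (factorised_sup hCD le_sup_left)
    exact Group.isSolvable_of_isSolvable_injective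
      (Subgroup.inclusion_injective (le_sup_right : K ≤ C ⊔ K))
  obtain ⟨N, hN⟩ := MinNormal.exists_isMinNormal (G := G)
  haveI := hN.1
  have huniq : ∀ (K : Subgroup G) [K.Normal], K ≠ ⊥ → N ≤ K := by
    intro K hKn hK
    refine (hN.inf_eq_bot_or_le hKn).resolve_left fun hd => hnsol N hN.2.1 ?_
    haveI := hquot K hK
    refine Group.isSolvable_of_isSolvable_injective (f := (QuotientGroup.mk' K).comp N.subtype) ?_
    rw [injective_iff_map_eq_one]
    intro z hz
    have : (z : G) ∈ N ⊓ K := ⟨z.2, (QuotientGroup.eq_one_iff _).1 hz⟩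
    rw [hd, mem_bot] at this
    exact Subtype.ext this
  have hCN : centralizer (N : Set G) = ⊥ := by
    by_contra hne
    refine hnsol N hN.2.1 (Group.isSolvable_of_comm fun x y => Subtype.ext ?_)
    exact (mem_centralizer_iff.1 (huniq _ hne x.2) y y.2).symm
  haveI hnilQ : Group.IsNilpotent (G ⧸ N) := by
    haveI := hA
    refine Group.nilpotent_of_surjective ((QuotientGroup.mk' N).comp A.subtype) fun y => ?_
    obtain ⟨g, rfl⟩ := QuotientGroup.mk'_surjective N y
    obtain ⟨a, ha, m, hm, rfl⟩ := mem_sup_of_normal_right.1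
      ((hsup A B hA hB hAB N hN.2.1).ge (mem_top g))
    refine ⟨⟨a, ha⟩, ?_⟩
    show QuotientGroup.mk' N a = QuotientGroup.mk' N (a * m)
    rw [map_mul, show QuotientGroup.mk' N m = 1 from (QuotientGroup.eq_one_iff m).2 hm, mul_one]
  -- no prime divides both orders
  have hcop : (Nat.card A).Coprime (Nat.card B) := by
    refine Nat.coprime_of_dvd fun r hr hrA hrB => ?_
    haveI := Fact.mk hr
    set Q : Subgroup (G ⧸ N) := part r ⊤ with hQ
    haveI hQn : Q.Normal :=
      normalizer_eq_top_iff.1 (top_le_iff.1 (le_normalizer_part r (⊤ : Subgroup (G ⧸ N))))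
    set X := Q.comap (QuotientGroup.mk' N) with hX
    have hNX : N ≤ X := fun x hx => by
      rw [hX, mem_comap, show QuotientGroup.mk' N x = 1 from (QuotientGroup.eq_one_iff x).2 hx]
      exact one_mem _
    have hpX : ∀ {S : Subgroup G}, IsPGroup r S → S ≤ X := fun {S} hS x hx =>
      le_part (hS.map (QuotientGroup.mk' N)) le_top ⟨x, hx, rfl⟩
    have hPX : part r A ≤ X := hpX (isPGroup_part hA r)
    have hQX : part r B ≤ X := hpX (isPGroup_part hB r)
    have hXns : ¬ Group.IsSolvable X := fun h => hnsol N hN.2.1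
      (haveI := h; Group.isSolvable_of_isSolvable_injective (Subgroup.inclusion_injective hNX))
    have hkey : ∀ x : X, ∃ S : Subgroup X, S ≠ ⊤ ∧ (S : Set X) =
        ((part r A).subgroupOf X : Set X) *
          ((MulAut.conj x • (part r B).subgroupOf X : Subgroup X) : Set X) := by
      intro x
      obtain ⟨g, hg1, hg2⟩ := Factorization.exists_conj hAB 1 (x : G)
      rw [map_one, one_smul] at hg1
      have hnil' : Group.IsNilpotent (MulAut.conj (x : G) • B : Subgroup G) :=
        haveI := hB
        Group.nilpotent_of_mulEquiv (Subgroup.equivSMul (MulAut.conj (x : G)) B)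
      obtain ⟨R, hR, hRe⟩ := part_mul_part hA hnil' (p := r) (fun y => by
        obtain ⟨a, ha, b, hb, e⟩ := Factorization.conj_factorization hAB g y
        exact ⟨a, hg1.ge ha, b, hg2.ge hb, e⟩)
      have hRX : R ≤ X := hpX hR
      refine ⟨R.subgroupOf X, fun e => hXns ?_, ?_⟩
      · have hXR : X ≤ R := subgroupOf_eq_top.1 e
        haveI : Group.IsNilpotent R := hR.isNilpotent
        exact Group.isSolvable_of_isSolvable_injective (Subgroup.inclusion_injective hXR)
      ext y
      constructor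
      · intro hy
        obtain ⟨a, ha, b, hb, e⟩ := (hRe ▸ hy : (y : G) ∈ (part r A : Set G) *
          (part r (MulAut.conj (x : G) • B) : Set G))
        rw [part_smul, SetLike.mem_coe, Coprime.mem_conj_smul] at hb
        have hbX : b ∈ X := by
          have := mul_mem (mul_mem x.2 (hQX hb)) (inv_mem x.2)
          simpa [mul_assoc] using this
        refine ⟨⟨a, hPX ha⟩, ha, ⟨b, hbX⟩, ?_, Subtype.ext e⟩
        rw [SetLike.mem_coe, Coprime.mem_conj_smul]
        exact hb
      · rintro ⟨a, ha, b, hb, rfl⟩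
        rw [SetLike.mem_coe, Coprime.mem_conj_smul] at hb
        show ((a : G) * (b : G)) ∈ (R : Set G)
        rw [hRe]
        refine ⟨a, ha, b, ?_, rfl⟩
        rw [part_smul, SetLike.mem_coe, Coprime.mem_conj_smul]
        exact hb
    have hne : ∀ C : Subgroup G, Group.IsNilpotent C → r ∣ Nat.card C → part r C ≤ X →
        (part r C).subgroupOf X ≠ ⊥ := fun C hC hrC hle e => by
      rw [subgroupOf_eq_bot, disjoint_iff, inf_eq_left.2 hle] at e
      exact part_ne_bot hC r hrC e
    obtain ⟨N', hN'n, hN'top, hcase⟩ := Cfsg.Agent.S0566.kegel _ _ rfl (hne A hA hrA hPX) _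
      (hne B hB hrB hQX) hkey
    -- a factor part inside `N'` centralizes `N`
    have hmain : ∀ C D : Subgroup G, Group.IsNilpotent C → Group.IsNilpotent D →
        (∀ g : G, ∃ c ∈ C, ∃ d ∈ D, g = c * d) → r ∣ Nat.card C → part r C ≤ X →
        (part r C).subgroupOf X ≤ N' → False := by
      intro C D hC hD hCD hrC hCX hCN'
      have hCtop := hsup C D hC hD hCD N hN.2.1
      -- `N` does not lie in `N'`
      have hNN' : ¬ N.subgroupOf X ≤ N' := by
        intro hle
        refine hN'top (eq_top_iff.2 fun y _ => ?_)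
        obtain ⟨a, ha, m, hm, e⟩ := mem_sup_of_normal_right.1 (hCtop.ge (mem_top (y : G)))
        have hmX : m ∈ X := hNX hm
        have haX : a ∈ X := by
          have : a = (y : G) * m⁻¹ := by rw [← e, mul_inv_cancel_right]
          rw [this]
          exact mul_mem y.2 (inv_mem hmX)
        have hy : y = (⟨a, haX⟩ : X) * ⟨m, hmX⟩ := Subtype.ext e.symm
        rw [hy]
        refine mul_mem ?_ (hle hm)
        -- `a` is congruent modulo `N` to an element of the `r`-part
        haveI := hC
        set f := ((QuotientGroup.mk' N).comp C.subtype)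
        obtain ⟨P, hP⟩ := exists_sylow_eq hC r
        have hf : Function.Surjective f := fun z => by
          obtain ⟨g, rfl⟩ := QuotientGroup.mk'_surjective N z
          obtain ⟨c, hc, m', hm', rfl⟩ := mem_sup_of_normal_right.1 (hCtop.ge (mem_top g))
          refine ⟨⟨c, hc⟩, ?_⟩
          show QuotientGroup.mk' N c = QuotientGroup.mk' N (c * m')
          rw [map_mul, show QuotientGroup.mk' N m' = 1 from (QuotientGroup.eq_one_iff m').2 hm',
            mul_one]
        obtain ⟨P', hP'⟩ := exists_sylow_eq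
          (Group.nilpotent_of_mulEquiv (topEquiv (G := G ⧸ N)).symm :
            Group.IsNilpotent (⊤ : Subgroup (G ⧸ N))) r
        have hQle : Q ≤ (P : Subgroup C).map f := by
          let S : Sylow r (G ⧸ N) := P.mapSurjective hf
          have : Q ≤ (S : Subgroup (G ⧸ N)) := by
            haveI : (S : Subgroup (G ⧸ N)).Normal := inferInstance
            have hQp : IsPGroup r Q := by rw [hQ, hP']; exact P'.isPGroup'.map _
            rw [← S.is_maximal' (IsPGroup.to_sup_of_normal_left S.isPGroup' hQp) le_sup_left]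
            exact le_sup_right
          exact this
        obtain ⟨c, hc, hca⟩ := hQle (mem_comap.1 haX : QuotientGroup.mk' N a ∈ Q)
        have hcP : (c : G) ∈ part r C := hP ▸ ⟨c, hc, rfl⟩
        have hcn : (c : G)⁻¹ * a ∈ N := QuotientGroup.eq.1 hca
        have := mul_mem (hCN' (show (⟨c, hCX hcP⟩ : X) ∈ (part r C).subgroupOf X from hcP))
          (hle (show (⟨(c : G)⁻¹ * a, hNX hcn⟩ : X) ∈ N.subgroupOf X from hcn))
        have e2 : (⟨c, hCX hcP⟩ : X) * ⟨(c : G)⁻¹ * a, hNX hcn⟩ = ⟨a, haX⟩ :=
          Subtype.ext (mul_inv_cancel_left (c : G) a)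
        rwa [e2] at this
      set M := N'.map X.subtype ⊓ N with hM
      haveI := hN'n
      have hMX : X ≤ normalizer (M : Set G) := fun y hy => by
        refine mem_normalizer_of_conj ?_
        rintro z ⟨⟨w, hw, rfl⟩, hzN⟩
        exact ⟨⟨⟨y, hy⟩ * w * ⟨y, hy⟩⁻¹, hN'n.conj_mem w hw _, rfl⟩, hN.1.conj_mem _ hzN y⟩
      have hcomm : ∀ m ∈ N, ∀ c ∈ part r C, m * c * m⁻¹ * c⁻¹ ∈ M := by
        intro m hm c hc
        refine ⟨⟨⟨m, hNX hm⟩ * ⟨c, hCX hc⟩ * ⟨m, hNX hm⟩⁻¹ * ⟨c, hCX hc⟩⁻¹,
          mul_mem (hN'n.conj_mem _ (hCN' hc) _) (inv_mem (hCN' hc)), rfl⟩, ?_⟩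
        rw [mul_assoc m c m⁻¹, mul_assoc m (c * m⁻¹) c⁻¹]
        exact mul_mem hm (hN.1.conj_mem _ (inv_mem hm) c)
      have hcore : M.normalCore = ⊥ := by
        refine (hN.2.2 _ inferInstance ((normalCore_le M).trans inf_le_right)).resolve_right
          fun e => hNN' fun y hy => ?_
        obtain ⟨w, hw, hwy⟩ := ((normalCore_le M) (e ▸ hy : (y : G) ∈ M.normalCore)).1
        exact (X.subtype_injective hwy : w = y) ▸ hw
      refine part_ne_bot hC r hrC (le_bot_iff.1 (hCN ▸ fun c hc => mem_centralizer_iff.2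
        fun m hm => ?_))
      have hmem : m * c * m⁻¹ * c⁻¹ ∈ M.normalCore := by
        intro g
        obtain ⟨c', hc', n, hn, rfl⟩ := mem_sup_of_normal_right.1
          (show g ∈ C ⊔ N from hCtop.symm ▸ mem_top g)
        -- move `n` to the right
        have hn' : c' * n * c'⁻¹ ∈ X := hNX (hN.1.conj_mem n hn c')
        have h1 := hcomm (c' * m * c'⁻¹) (hN.1.conj_mem m hm c') (c' * c * c'⁻¹)
          ((mem_normalizer_iff.1 (le_normalizer_part r C hc') c).1 hc)
        have h2 := (mem_normalizer_iff.1 (hMX hn') _).1 h1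
        simpa [mul_assoc] using h2
      rw [hcore, mem_bot] at hmem
      exact mul_inv_eq_iff_eq_mul.1 (mul_inv_eq_one.1 hmem)
    rcases hcase with e | e
    · exact hmain A B hA hB hAB hrA hPX e
    · exact hmain B A hB hA (Factorization.swap hAB) hrB hQX e
  exact hns (KegelWielandtCoprime.isSolvable_of_coprime _ rfl A B hA hB hcop hAB)

end CfsgLib.KegelWielandt
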