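import Cfsg.Agent.Lib.Solvable.NilpotentSubgroups
import Cfsg.Agent.Lib.Coprime.Basic

/-!
# The primary parts of a nilpotent subgroup
-/

set_option autoImplicit false
open Pointwise

namespace CfsgLib.NilPart

open Subgroup

variable {G : Type*} [Group G]

/-- The subgroup generated by the elements of `p`-power order of `A`. -/
def part (p : ℕ) (A : Subgroup G) : Subgroup G :=
  closure {x | x ∈ A ∧ ∃ k, orderOf x = p ^ k}

theorem part_le (p : ℕ) (A : Subgroup G) : part p A ≤ A :=
  (closure_le _).2 fun _ h => h.1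

theorem mem_part {p : ℕ} {A : Subgroup G} {x : G} (hx : x ∈ A) (h : ∃ k, orderOf x = p ^ k) :
    x ∈ part p A :=
  subset_closure ⟨hx, h⟩

theorem le_part [Finite G] {p : ℕ} [Fact p.Prime] {A X : Subgroup G} (hX : IsPGroup p X)
    (hle : X ≤ A) : X ≤ part p A := fun x hx => by
  obtain ⟨k, hk⟩ := IsPGroup.iff_orderOf.1 hX ⟨x, hx⟩
  exact mem_part (hle hx) ⟨k, by rwa [orderOf_mk] at hk⟩

theorem part_smul (p : ℕ) (g : G) (A : Subgroup G) :
    part p (MulAut.conj g • A) = MulAut.conj g • part p A := by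
  rw [part, part, smul_closure]
  congr 1
  ext x
  rw [Set.mem_smul_set_iff_inv_smul_mem, Set.mem_setOf_eq, Set.mem_setOf_eq,
    mem_pointwise_smul_iff_inv_smul_mem]
  have : orderOf ((MulAut.conj g)⁻¹ • x) = orderOf x :=
    orderOf_injective ((MulAut.conj g)⁻¹ : MulAut G).toMonoidHom (MulEquiv.injective _) x
  rw [this]

theorem exists_sylow_eq [Finite G] {A : Subgroup G} (hA : Group.IsNilpotent A) (p : ℕ)
    [Fact p.Prime] : ∃ P : Sylow p A, part p A = (P : Subgroup A).map A.subtype := by
  haveI := hA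
  obtain ⟨P⟩ := (inferInstance : Nonempty (Sylow p A))
  haveI : (P : Subgroup A).Normal := inferInstance
  refine ⟨P, le_antisymm ((closure_le _).2 ?_) (le_part (P.isPGroup'.map _) (map_subtype_le _))⟩
  rintro x ⟨hx, k, hk⟩
  refine ⟨⟨x, hx⟩, ?_, rfl⟩
  have hz : IsPGroup p (zpowers (⟨x, hx⟩ : A)) :=
    IsPGroup.of_card (n := k) (by rw [Nat.card_zpowers, orderOf_mk, hk])
  have hsup : IsPGroup p ((P : Subgroup A) ⊔ zpowers (⟨x, hx⟩ : A) : Subgroup A) :=
    IsPGroup.to_sup_of_normal_left P.isPGroup' hz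
  rw [← P.is_maximal' hsup le_sup_left]
  exact mem_sup_right (mem_zpowers (⟨x, hx⟩ : A))

theorem isPGroup_part [Finite G] {A : Subgroup G} (hA : Group.IsNilpotent A) (p : ℕ)
    [Fact p.Prime] : IsPGroup p (part p A) := by
  obtain ⟨P, hP⟩ := exists_sylow_eq hA p
  exact hP ▸ P.isPGroup'.map _

theorem card_part [Finite G] {A : Subgroup G} (hA : Group.IsNilpotent A) (p : ℕ)
    [Fact p.Prime] : Nat.card (part p A) = p ^ (Nat.card A).factorization p := by
  obtain ⟨P, hP⟩ := exists_sylow_eq hA p
  rw [hP, card_map_of_injective A.subtype_injective, P.card_eq_multiplicity]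

theorem part_ne_bot [Finite G] {A : Subgroup G} (hA : Group.IsNilpotent A) (p : ℕ)
    [hp : Fact p.Prime] (hdvd : p ∣ Nat.card A) : part p A ≠ ⊥ := fun h => by
  have := card_part hA p
  rw [h, card_bot] at this
  have h0 := hp.out.factorization_pos_of_dvd Nat.card_pos.ne' hdvd
  exact (Nat.one_lt_pow h0.ne' hp.out.one_lt).ne this

theorem commute_of_mem [Finite G] {A : Subgroup G} (hA : Group.IsNilpotent A) {x y : G}
    (hx : x ∈ A) (hy : y ∈ A) (h : (orderOf x).Coprime (orderOf y)) : Commute x y := by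
  haveI := hA
  have h' : (orderOf (⟨x, hx⟩ : A)).Coprime (orderOf (⟨y, hy⟩ : A)) := by
    rwa [orderOf_mk, orderOf_mk]
  exact congrArg Subtype.val (NilpotentSubgroups.commute_of_orderOf_coprime h').eq

theorem coprime_orderOf [Finite G] {p q : ℕ} [hp : Fact p.Prime] [hq : Fact q.Prime]
    (hne : p ≠ q) {X Y : Subgroup G} (hX : IsPGroup p X) (hY : IsPGroup q Y) {x y : G}
    (hx : x ∈ X) (hy : y ∈ Y) : (orderOf x).Coprime (orderOf y) := by
  obtain ⟨i, hi⟩ := IsPGroup.iff_orderOf.1 hX ⟨x, hx⟩
  obtain ⟨j, hj⟩ := IsPGroup.iff_orderOf.1 hY ⟨y, hy⟩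
  rw [orderOf_mk] at hi hj
  rw [hi, hj]
  exact Nat.coprime_pow_primes _ _ hp.out hq.out hne

/-- A `p`-subgroup of a nilpotent subgroup is centralized by the other parts. -/
theorem part_le_centralizer [Finite G] {A : Subgroup G} (hA : Group.IsNilpotent A) {p r : ℕ}
    [Fact p.Prime] [Fact r.Prime] (hne : r ≠ p) {X : Subgroup G} (hX : IsPGroup p X)
    (hle : X ≤ A) : part r A ≤ centralizer (X : Set G) := fun y hy =>
  mem_centralizer_iff.2 fun x hx =>
    (commute_of_mem hA (hle hx) (part_le r A hy)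
      (coprime_orderOf hne.symm hX (isPGroup_part hA r) hx hy)).eq

theorem mem_normalizer_of_conj [Finite G] {A : Subgroup G} {g : G}
    (h : ∀ x ∈ A, g * x * g⁻¹ ∈ A) : g ∈ normalizer (A : Set G) := by
  have heq : MulAut.conj g • A = A :=
    eq_of_le_of_card_ge (Coprime.conj_smul_le.2 h) (Coprime.card_conj_smul A g).ge
  refine mem_normalizer_iff.2 fun x => ⟨h x, fun hx => ?_⟩
  rw [← heq, mem_pointwise_smul_iff_inv_smul_mem, ← map_inv] at hx
  simpa [mul_assoc] using hx

theorem smul_eq_of_mem_normalizer {A : Subgroup G} {g : G} (hg : g ∈ normalizer (A : Set G)) :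
    MulAut.conj g • A = A := by
  ext x
  rw [mem_pointwise_smul_iff_inv_smul_mem, ← map_inv]
  have := (mem_normalizer_iff.1 (inv_mem hg) x).symm
  simpa using this

theorem normalizer_le_part [Finite G] (p : ℕ) (A : Subgroup G) :
    normalizer (A : Set G) ≤ normalizer (part p A : Set G) := fun g hg => by
  refine mem_normalizer_of_conj (Coprime.conj_smul_le.1 ?_)
  rw [← part_smul, smul_eq_of_mem_normalizer hg]

theorem le_normalizer_part [Finite G] (p : ℕ) (A : Subgroup G) :
    A ≤ normalizer (part p A : Set G) :=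
  le_normalizer.trans (normalizer_le_part p A)

theorem le_of_parts [Finite G] {A H : Subgroup G} (hA : Group.IsNilpotent A)
    (h : ∀ p : ℕ, p.Prime → p ∣ Nat.card A → part p A ≤ H) : A ≤ H := by
  refine inf_eq_left.1 (eq_of_le_of_card_ge inf_le_left (Nat.le_of_dvd Nat.card_pos ?_))
  rw [Nat.dvd_iff_prime_pow_dvd_dvd]
  intro p k hp hk
  rcases Nat.eq_zero_or_pos k with rfl | hk0
  · simp
  haveI : Fact p.Prime := ⟨hp⟩
  have hd := h p hp ((dvd_pow_self p hk0.ne').trans hk)
  refine (Nat.pow_dvd_pow p ((hp.pow_dvd_iff_le_factorization Nat.card_pos.ne').1 hk)).trans ?_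
  rw [← card_part hA p]
  exact card_dvd_of_le (le_inf (part_le p A) hd)

theorem le_normalizer_sup [Finite G] {H X Y : Subgroup G} (hX : H ≤ normalizer (X : Set G))
    (hY : H ≤ normalizer (Y : Set G)) : H ≤ normalizer ((X ⊔ Y : Subgroup G) : Set G) :=
  fun h hh => mem_normalizer_of_conj (Coprime.conj_smul_le.1 (by
    rw [Subgroup.smul_sup, smul_eq_of_mem_normalizer (hX hh),
      smul_eq_of_mem_normalizer (hY hh)]))

theorem le_normalizer_finset_sup [Finite G] {ι : Type*} {H : Subgroup G} (T : Finset ι)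
    {f : ι → Subgroup G} (h : ∀ i ∈ T, H ≤ normalizer (f i : Set G)) :
    H ≤ normalizer ((T.sup f : Subgroup G) : Set G) := by
  classical
  induction T using Finset.induction with
  | empty =>
    intro x _
    rw [Finset.sup_empty]
    exact mem_normalizer_of_conj fun y hy => by rw [mem_bot] at hy ⊢; simp [hy]
  | @insert a T _ ih =>
    rw [Finset.sup_insert]
    exact le_normalizer_sup (h a (Finset.mem_insert_self _ _))
      (ih fun i hi => h i (Finset.mem_insert_of_mem hi))

/-- For each prime divisor of a nilpotent subgroup there is a central element of that order. -/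
theorem exists_central [Finite G] {A : Subgroup G} (hA : Group.IsNilpotent A) (p : ℕ)
    [hp : Fact p.Prime] (hdvd : p ∣ Nat.card A) :
    ∃ z ∈ A, orderOf z = p ∧ ∀ a ∈ A, a * z = z * a := by
  have hne := part_ne_bot hA p hdvd
  haveI : Nontrivial (part p A) := (nontrivial_iff_ne_bot _).2 hne
  have hc := (isPGroup_part hA p).center_nontrivial
  obtain ⟨k, hk⟩ := IsPGroup.iff_card.1
    ((isPGroup_part hA p).to_subgroup (center (part p A)))
  have hk0 : k ≠ 0 := fun e => by
    rw [e, pow_zero] at hk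
    exact (Finite.one_lt_card (α := center (part p A))).ne' hk
  obtain ⟨z, hz⟩ := exists_prime_orderOf_dvd_card' (G := center (part p A)) p
    (hk ▸ dvd_pow_self p hk0)
  have hzA : ((z : part p A) : G) ∈ A := part_le p A (z : part p A).2
  refine ⟨_, hzA, by rw [orderOf_coe, orderOf_coe, hz], fun a ha => ?_⟩
  have hle : A ≤ centralizer ({((z : part p A) : G)} : Set G) := by
    refine le_of_parts hA fun r hr _ y hy => mem_centralizer_iff.2 fun w hw => ?_
    haveI : Fact r.Prime := ⟨hr⟩
    rw [Set.mem_singleton_iff] at hw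
    subst hw
    by_cases hrp : r = p
    · subst hrp
      exact (congrArg Subtype.val (mem_center_iff.1 z.2 ⟨y, hy⟩)).symm
    · exact mem_centralizer_iff.1
        (part_le_centralizer hA hrp (isPGroup_part hA p) (part_le p A) hy) _ (z : part p A).2
  exact (mem_centralizer_iff.1 (hle ha) _ rfl).symm

end CfsgLib.NilPart
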