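import Mathlib
import Cfsg.Prelude.Def_Transfer
import Cfsg.Agent.Lib.Coprime.Commutator

/-!
A `3'`-group `R` with an element `b` of order three, `R = [R, b]`, acting irreducibly over the field
with three elements so that `b` has a single Jordan block of size three.  Basic consequences.
-/

set_option autoImplicit false
set_option linter.style.haveILetI false
open Subgroup
open scoped commutatorElement

namespace CfsgLib.Solvable.BlockThree

variable {G : Type*} [Group G] [Finite G] {W : Type*} [AddCommGroup W] [Module (ZMod 3) W] [Finite W]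

/-- The situation considered. -/
structure Setup (σ : G →* Module.End (ZMod 3) W) (R : Subgroup G) (b : G) : Prop where
  solv : Group.IsSolvable G
  inj : Function.Injective σ
  normal : R.Normal
  cube : b * b * b = 1
  gen : R ⊔ zpowers b = ⊤
  cop : (Nat.card R).Coprime 3
  comm : ⁅R, zpowers b⁆ = R
  not_mem : b ∉ R
  irred : ∀ N : Submodule (ZMod 3) W, (∀ g, ∀ v ∈ N, σ g v ∈ N) → N = ⊥ ∨ N = ⊤
  nfix : ∀ v : W, (∀ r ∈ R, σ r v = v) → v = 0
  rank : Module.finrank (ZMod 3) (LinearMap.range (σ b - 1)) ≤ 2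
  block : ∃ w : W, (σ b - 1) ((σ b - 1) w) ≠ 0

variable {σ : G →* Module.End (ZMod 3) W} {R : Subgroup G} {b : G}

omit [Finite G] [Finite W] in
theorem act (g h : G) (v : W) : σ (g * h) v = σ g (σ h v) := by rw [map_mul]; rfl

omit [Finite G] [Finite W] in
theorem act_one (v : W) : σ 1 v = v := by rw [map_one]; rfl

omit [Finite G] [Finite W] in
theorem act_inv (g : G) (v : W) : σ g⁻¹ (σ g v) = v := by rw [← act, inv_mul_cancel, act_one]

omit [Finite G] [Finite W] in
theorem act_inj (g : G) : Function.Injective (σ g) :=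
  Function.LeftInverse.injective (g := σ g⁻¹) (act_inv g)

omit [Finite G] [Finite W] in
theorem zmod_three : ∀ c : ZMod 3, c = 0 ∨ c = 1 ∨ c = -1 := by decide

omit [Finite G] [Finite W] in
theorem neg_ne (v : W) (hv : v ≠ 0) : -v ≠ v := by
  intro h
  apply hv
  have h2 : (2 : ZMod 3) • v = 0 := by rw [two_smul]; nth_rewrite 1 [← h]; exact neg_add_cancel v
  have := congrArg (fun u => (2 : ZMod 3) • u) h2
  simp only [smul_smul, smul_zero] at this
  rwa [show (2 : ZMod 3) * 2 = 1 from rfl, one_smul] at this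

omit [Finite G] [Finite W] in
/-- Elements fixing `W` pointwise are trivial. -/
theorem eq_one (S : Setup σ R b) {g : G} (h : ∀ v, σ g v = v) : g = 1 :=
  S.inj (by rw [map_one]; exact LinearMap.ext h)

omit [Finite G] [Finite W] in
/-- Powers of `b` modulo `R`. -/
theorem rep (S : Setup σ R b) (g : G) : ∃ r ∈ R, ∃ i : ℤ, g = r * b ^ i := by
  haveI := S.normal
  obtain ⟨r, hr, z, hz, rfl⟩ := mem_sup_of_normal_left.1 (S.gen ▸ mem_top g : g ∈ R ⊔ zpowers b)
  obtain ⟨i, rfl⟩ := mem_zpowers_iff.1 hz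
  exact ⟨r, hr, i, rfl⟩

omit [Finite G] [Finite W] in
/-- Commutators lie in `R`. -/
theorem comm_mem (S : Setup σ R b) (g : G) : g * b * g⁻¹ * b⁻¹ ∈ R := by
  haveI := S.normal
  obtain ⟨r, hr, i, rfl⟩ := rep S g
  rw [show r * b ^ i * b * (r * b ^ i)⁻¹ * b⁻¹ = r * (b * r⁻¹ * b⁻¹) by group]
  exact mul_mem hr (S.normal.conj_mem _ (inv_mem hr) b)

omit [Finite G] [Finite W] in
/-- A normal subgroup containing `b` is everything. -/
theorem normal_eq_top (S : Setup σ R b) (N : Subgroup G) [N.Normal] (hb : b ∈ N) : N = ⊤ := by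
  rw [eq_top_iff, ← S.gen, sup_le_iff]
  refine ⟨?_, zpowers_le.2 hb⟩
  rw [← S.comm, commutator_le]
  intro x _ y hy
  have hy' : y ∈ N := zpowers_le.2 hb hy
  rw [commutatorElement_def]
  exact mul_mem ((inferInstance : N.Normal).conj_mem y hy' x) (inv_mem hy')

omit [Finite G] [Finite W] in
/-- A normal subgroup centralized by `b` is central. -/
theorem central (S : Setup σ R b) (X : Subgroup G) [X.Normal] (hb : ∀ x ∈ X, b * x = x * b) :
    X ≤ center G := by
  intro x hx
  rw [mem_center_iff]
  intro g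
  have hg : g ∈ centralizer (X : Set G) := by
    rw [normal_eq_top S (centralizer (X : Set G)) (mem_centralizer_iff.2 fun y hy => (hb y hy).symm)]
    exact mem_top g
  exact (mem_centralizer_iff.1 hg x hx).symm

omit [Finite G] in
/-- The cube of `σ b - 1` vanishes. -/
theorem beta_cube (S : Setup σ R b) : ∀ v : W, (σ b - 1) ((σ b - 1) ((σ b - 1) v)) = 0 := by
  intro v
  have h3 : σ b (σ b (σ b v)) = v := by rw [← act, ← act, S.cube, act_one]
  simp only [LinearMap.sub_apply, Module.End.one_apply, map_sub, h3]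
  have e : ∀ x : W, x + x + x = 0 := fun x => by
    rw [← two_smul (ZMod 3) x]
    nth_rewrite 2 [← one_smul (ZMod 3) x]
    rw [← add_smul, show (2 : ZMod 3) + 1 = 0 from rfl, zero_smul]
  calc v - σ b (σ b v) - (σ b (σ b v) - σ b v) - (σ b (σ b v) - σ b v - (σ b v - v))
      = (σ b v + σ b v + σ b v) - (σ b (σ b v) + σ b (σ b v) + σ b (σ b v)) := by abel
    _ = 0 := by rw [e, e, sub_zero]

omit [Finite G] in
/-- A central element acts as a sign. -/
theorem central_sign (S : Setup σ R b) {z : G} (hz : z ∈ center G) :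
    σ z = 1 ∨ σ z = -1 := by
  set β := σ b - 1 with hβ
  set L := LinearMap.range (β ∘ₗ β) with hL
  obtain ⟨w, hw⟩ := S.block
  have hLle : L ≤ LinearMap.range β := LinearMap.range_comp_le_range _ _
  have hLne : L ≠ LinearMap.range β := by
    intro h
    obtain ⟨u, hu⟩ : β w ∈ L := h ▸ ⟨w, rfl⟩
    exact hw ((congrArg β hu).symm.trans (beta_cube S u))
  have hL1 : Module.finrank (ZMod 3) L ≤ 1 := by
    have := Submodule.finrank_lt_finrank_of_lt (lt_of_le_of_ne hLle hLne)
    have hr := S.rank
    rw [← hβ] at hr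
    omega
  have hzc : ∀ g v, σ z (σ g v) = σ g (σ z v) := fun g v => by
    rw [← act, ← act, mem_center_iff.1 hz g]
  set u := β (β w) with hu
  have huL : u ∈ L := ⟨w, rfl⟩
  have hzu : σ z u ∈ L := ⟨σ z w, by
    simp only [hu, hβ, LinearMap.comp_apply, LinearMap.sub_apply, Module.End.one_apply, map_sub, hzc]⟩
  obtain ⟨⟨u0, hu0⟩, hgen⟩ := (finrank_le_one_iff (K := ZMod 3) (V := L)).1 hL1
  obtain ⟨a, ha⟩ := hgen ⟨u, huL⟩
  obtain ⟨c, hc⟩ := hgen ⟨σ z u, hzu⟩
  have ha' : a • u0 = u := congrArg Subtype.val ha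
  have hc' : c • u0 = σ z u := congrArg Subtype.val hc
  have ha0 : a ≠ 0 := fun h => hw (show u = 0 by rw [← ha', h, zero_smul])
  obtain ⟨e, he⟩ : ∃ e : ZMod 3, σ z u = e • u := ⟨c * a⁻¹, by
    conv_rhs => rw [← ha', smul_smul, mul_assoc, inv_mul_cancel₀ ha0, mul_one, hc']⟩
  let N : Submodule (ZMod 3) W :=
    { carrier := {v | σ z v = e • v}
      add_mem' := fun {x y} hx hy => show σ z (x + y) = e • (x + y) by
        rw [map_add, show σ z x = e • x from hx, show σ z y = e • y from hy, smul_add]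
      zero_mem' := show σ z 0 = e • (0 : W) by rw [map_zero, smul_zero]
      smul_mem' := fun k {x} hx => show σ z (k • x) = e • (k • x) by
        rw [map_smul, show σ z x = e • x from hx, smul_comm] }
  have htop : N = ⊤ := (S.irred N fun g v hv => show σ z (σ g v) = e • σ g v by
    rw [hzc, show σ z v = e • v from hv, map_smul]).resolve_left fun h => hw (by
      have : u ∈ N := he
      rwa [h, Submodule.mem_bot] at this)
  have hall : ∀ v, σ z v = e • v := fun v => (htop ▸ Submodule.mem_top : v ∈ N)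
  rcases zmod_three e with h | h | h
  · exfalso
    refine hw (act_inj (σ := σ) z ?_)
    rw [hall, map_zero, h, zero_smul]
  · exact Or.inl (LinearMap.ext fun v => by rw [hall, h, one_smul, Module.End.one_apply])
  · exact Or.inr (LinearMap.ext fun v => by rw [hall, h, neg_smul, one_smul]; rfl)

omit [Finite G] in
theorem central_sq (S : Setup σ R b) {z : G} (hz : z ∈ center G) : z * z = 1 := by
  apply S.inj
  rw [map_mul, map_one]
  rcases central_sign S hz with h | h <;> rw [h] <;> simp

omit [Finite G] [Finite W] in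
theorem isUnit_coprime (S : Setup σ R b) : IsUnit ((Nat.card R : ℕ) : ZMod 3) :=
  (ZMod.isUnit_iff_coprime _ _).2 S.cop

/-- A normal subgroup of `R` that is abelian of exponent two is central once it is centralized by
`b`; an abelian 2-group is centralized by `b` if its involutions are. -/
theorem fix_of_fix_involutions {G : Type*} [Group G] [Finite G] {b : G} (hb : b * b * b = 1)
    {A : Subgroup G} [A.Normal] (hA : IsMulCommutative A) (hA2 : IsPGroup 2 A)
    (h : ∀ x ∈ A, x * x = 1 → b * x = x * b) : ∀ x ∈ A, b * x = x * b := by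
  suffices key : ∀ (k : ℕ), ∀ x ∈ A, x ^ 2 ^ k = 1 → b * x = x * b by
    intro x hx
    obtain ⟨k, hk⟩ := hA2 ⟨x, hx⟩
    exact key k x hx (congrArg Subtype.val hk)
  intro k
  induction k with
  | zero => intro x _ hk; rw [pow_zero, pow_one] at hk; rw [hk, mul_one, one_mul]
  | succ k ih =>
    intro x hx hk
    set d := b * x * b⁻¹ * x⁻¹ with hd
    have hbx : b * x * b⁻¹ ∈ A := ‹A.Normal›.conj_mem x hx b
    have hdA : d ∈ A := mul_mem hbx (inv_mem hx)
    have hc : Commute (b * x * b⁻¹) x⁻¹ :=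
      congrArg Subtype.val (hA.1.1 ⟨_, hbx⟩ ⟨_, inv_mem hx⟩)
    have hx2 : b * x ^ 2 = x ^ 2 * b := ih _ (pow_mem hx 2) (by rw [← pow_mul, ← pow_succ', hk])
    have hd2 : d * d = 1 := by
      rw [← pow_two, hd, hc.mul_pow, conj_pow, hx2, mul_inv_cancel_right, inv_pow, mul_inv_cancel]
    have hbd := h d hdA hd2
    have e : b * x = d * x * b := by rw [hd]; group
    have f1 : b * x * b⁻¹ = d * x := by rw [hd]; group
    have f2 : b * d * b⁻¹ = d := by rw [hbd, mul_inv_cancel_right]
    have h3 : d * d * d * x = x := by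
      calc d * d * d * x = d * d * (b * x * b⁻¹) := by rw [f1]; group
        _ = (b * d * b⁻¹) * (b * d * b⁻¹) * (b * x * b⁻¹) := by rw [f2]
        _ = b * (d * (d * x)) * b⁻¹ := by group
        _ = b * ((b * d * b⁻¹) * (b * x * b⁻¹)) * b⁻¹ := by rw [f2, f1]
        _ = b * b * (d * x) * b⁻¹ * b⁻¹ := by group
        _ = b * b * (b * x * b⁻¹) * b⁻¹ * b⁻¹ := by rw [f1]
        _ = (b * b * b) * x * (b * b * b)⁻¹ := by group
        _ = x := by rw [hb]; group
    rw [hd2, one_mul] at h3
    have hd1 : d = 1 := by simpa using mul_eq_right.1 h3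
    rwa [hd1, one_mul] at e

end CfsgLib.Solvable.BlockThree
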