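import Mathlib
import Cfsg.Agent.Lib.Solvable.BlockThreeBasic

/-!
An elementary abelian normal subgroup moved by `b` gives a monomial frame of lines.
-/

set_option autoImplicit false
set_option linter.style.haveILetI false
open Subgroup
open scoped commutatorElement

namespace CfsgLib.Solvable.BlockThree

variable {G : Type*} [Group G] [Finite G] {W : Type*} [AddCommGroup W] [Module (ZMod 3) W] [Finite W]

/-- The vectors fixed by `H`. -/
def fixedSpace (σ : G →* Module.End (ZMod 3) W) (H : Subgroup G) : Submodule (ZMod 3) W where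
  carrier := {v | ∀ h ∈ H, σ h v = v}
  add_mem' {x y} hx hy h hh := by rw [map_add, hx h hh, hy h hh]
  zero_mem' h _ := map_zero _
  smul_mem' k {x} hx h hh := by rw [map_smul, hx h hh]

/-- The sum of the transforms by `H`. -/
noncomputable def sumOver (σ : G →* Module.End (ZMod 3) W) (H : Subgroup G) :
    Module.End (ZMod 3) W :=
  letI := Fintype.ofFinite H
  ∑ h : H, σ (h : G)

/-- `H` is maximal among the subgroups of `A` with a nonzero fixed vector. -/
def IsComp (σ : G →* Module.End (ZMod 3) W) (A H : Subgroup G) : Prop :=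
  H ≤ A ∧ fixedSpace σ H ≠ ⊥ ∧ ∀ K ≤ A, H < K → fixedSpace σ K = ⊥

/-- A monomial frame with three or more lines. -/
structure Frame (σ : G →* Module.End (ZMod 3) W) (R : Subgroup G) (b : G) (k : ℕ)
    (π : G →* Equiv.Perm (Fin k)) (e : Fin k → W) (c : G → Fin k → ZMod 3) : Prop where
  span : Submodule.span (ZMod 3) (Set.range e) = ⊤
  indep : LinearIndependent (ZMod 3) e
  sign : ∀ g i, c g i = 1 ∨ c g i = -1
  act : ∀ g i, σ g (e i) = c g i • e (π g i)
  trans : ∀ i j, ∃ g, π g i = j
  three : (π b).IsThreeCycle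
  diag : ∃ a ∈ R, π a = 1 ∧ ∃ i j, c a i ≠ c a j

variable {σ : G →* Module.End (ZMod 3) W} {R : Subgroup G} {b : G}

omit [Finite G] [Finite W] in
theorem mem_fixedSpace {H : Subgroup G} {v : W} : v ∈ fixedSpace σ H ↔ ∀ h ∈ H, σ h v = v :=
  Iff.rfl

omit [Finite W] in
theorem sumOver_apply (H : Subgroup G) [Fintype H] (v : W) :
    sumOver σ H v = ∑ h : H, σ (h : G) v := by
  unfold sumOver
  rw [LinearMap.sum_apply]
  exact Finset.sum_congr (by ext; simp) fun _ _ => rfl

omit [Finite W] in
theorem sumOver_mem (H : Subgroup G) (v : W) : sumOver σ H v ∈ fixedSpace σ H := by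
  letI := Fintype.ofFinite H
  intro g hg
  rw [sumOver_apply, map_sum]
  refine Fintype.sum_equiv (Equiv.mulLeft (⟨g, hg⟩ : H)) _ _ fun h => ?_
  rw [← act]
  rfl

omit [Finite W] in
theorem sumOver_of_mem {H : Subgroup G} {v : W} (hv : v ∈ fixedSpace σ H) :
    sumOver σ H v = (Nat.card H : ZMod 3) • v := by
  letI := Fintype.ofFinite H
  rw [sumOver_apply, Finset.sum_congr rfl fun (h : H) _ => hv (h : G) h.2, Finset.sum_const,
    Finset.card_univ, ← Nat.card_eq_fintype_card, Nat.cast_smul_eq_nsmul]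

omit [Finite G] [Finite W] in
/-- Transport of fixed spaces. -/
theorem fixedSpace_conj (g : G) {H : Subgroup G} {v : W} (hv : v ∈ fixedSpace σ H) :
    σ g v ∈ fixedSpace σ (H.map (MulAut.conj g).toMonoidHom) := by
  rintro _ ⟨h, hh, rfl⟩
  change σ (g * h * g⁻¹) (σ g v) = σ g v
  rw [← act, inv_mul_cancel_right, act, hv h hh]

omit [Finite G] [Finite W] in
theorem conj_mul_map (g h : G) (H : Subgroup G) :
    H.map (MulAut.conj (g * h)).toMonoidHom =
      (H.map (MulAut.conj h).toMonoidHom).map (MulAut.conj g).toMonoidHom := by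
  rw [Subgroup.map_map]
  congr 1
  ext x
  simp [mul_assoc]

omit [Finite G] [Finite W] in
theorem conj_one_map (H : Subgroup G) : H.map (MulAut.conj (1 : G)).toMonoidHom = H := by
  ext x; simp

omit [Finite W] in
theorem isComp_conj {A H : Subgroup G} [A.Normal] (g : G) (h : IsComp σ A H) :
    IsComp σ A (H.map (MulAut.conj g).toMonoidHom) := by
  obtain ⟨h1, h2, h3⟩ := h
  refine ⟨?_, ?_, ?_⟩
  · rintro _ ⟨x, hx, rfl⟩
    exact ‹A.Normal›.conj_mem x (h1 hx) g
  · intro he
    apply h2
    rw [Submodule.eq_bot_iff] at he ⊢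
    intro v hv
    exact act_inj (σ := σ) g ((he _ (fixedSpace_conj g hv)).trans (map_zero _).symm)
  · intro K hK hlt
    have hK' : K.map (MulAut.conj g⁻¹).toMonoidHom ≤ A := by
      rintro _ ⟨x, hx, rfl⟩
      exact ‹A.Normal›.conj_mem x (hK hx) g⁻¹
    have hlt' : H < K.map (MulAut.conj g⁻¹).toMonoidHom := by
      have := (Subgroup.map_lt_map_iff_of_injective
        (f := (MulAut.conj g⁻¹).toMonoidHom) (MulAut.conj g⁻¹).injective).2 hlt
      rwa [← conj_mul_map, inv_mul_cancel, conj_one_map] at this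
    rw [Submodule.eq_bot_iff]
    intro v hv
    exact act_inj (σ := σ) g⁻¹ (((Submodule.eq_bot_iff _).1 (h3 _ hK' hlt') _
      (fixedSpace_conj g⁻¹ hv)).trans (map_zero _).symm)

omit [Finite W] in
/-- Nothing is fixed by a nontrivial normal subgroup. -/
theorem fixedSpace_bot (S : Setup σ R b) (A : Subgroup G) [A.Normal] (hA : A ≠ ⊥) :
    fixedSpace σ A = ⊥ := by
  refine (S.irred (fixedSpace σ A) fun g v hv a ha => ?_).resolve_right fun h => hA ?_
  · rw [← act, show a * g = g * (g⁻¹ * a * g) by group, act, hv _ (by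
      simpa using ‹A.Normal›.conj_mem a ha g⁻¹)]
  · rw [Subgroup.eq_bot_iff_forall]
    intro a ha
    exact eq_one S fun v => (h ▸ Submodule.mem_top : v ∈ fixedSpace σ A) a ha

omit [Finite W] in
/-- The sum over a component kills the other components. -/
theorem sumOver_kill {A H H' : Subgroup G} (hAc : ∀ x ∈ A, ∀ y ∈ A, x * y = y * x)
    (h : IsComp σ A H) (h' : IsComp σ A H') (hne : H ≠ H') {v : W} (hv : v ∈ fixedSpace σ H') :
    sumOver σ H v = 0 := by
  letI := Fintype.ofFinite H
  have hlt : H < H ⊔ H' := by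
    refine lt_of_le_of_ne le_sup_left fun he => ?_
    have hle : H' ≤ H := he ▸ le_sup_right
    rcases hle.lt_or_eq with hlt | heq
    · exact h.2.1 (h'.2.2 H h.1 hlt)
    · exact hne heq.symm
  have hmem : sumOver σ H v ∈ fixedSpace σ (H ⊔ H') := by
    let Stab : Subgroup G :=
      { carrier := {g | σ g (sumOver σ H v) = sumOver σ H v}
        mul_mem' := fun {x y} hx hy => by
          change σ (x * y) _ = _
          rw [act, show σ y _ = _ from hy, show σ x _ = _ from hx]
        one_mem' := act_one _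
        inv_mem' := fun {x} hx => by
          change σ x⁻¹ _ = _
          nth_rewrite 1 [← show σ x _ = _ from hx]
          exact act_inv x _ }
    have hle : H ⊔ H' ≤ Stab := by
      refine sup_le (fun g hg => sumOver_mem H v g hg) fun g hg => ?_
      change σ g _ = _
      rw [sumOver_apply, map_sum]
      refine Finset.sum_congr rfl fun x _ => ?_
      rw [← act, hAc g (h'.1 hg) x (h.1 x.2), act, hv g hg]
    exact fun g hg => hle hg
  rw [h.2.2 _ (sup_le h.1 h'.1) hlt, Submodule.mem_bot] at hmem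
  exact hmem

omit [Finite W] in
/-- The averaging identity. -/
theorem average_split {r : ℕ} (hrp : r.Prime) (hr : IsUnit (r : ZMod 3)) {K A : Subgroup G}
    (hKA : K ≤ A) (hAc : ∀ x ∈ A, ∀ y ∈ A, x * y = y * x) {x y : G} (hx : x ∈ A) (hy : y ∈ A)
    (hxr : x ^ r = 1) (hyr : y ^ r = 1) (N : Submodule (ZMod 3) W) {v : W}
    (hv : v ∈ fixedSpace σ K) (hNx : fixedSpace σ (K ⊔ zpowers x) ≤ N)
    (hNy : ∀ k : ℕ, fixedSpace σ (K ⊔ zpowers (x ^ k * y)) ≤ N) : v ∈ N := by
  have key : ∀ z ∈ A, z ^ r = 1 →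
      (∑ i ∈ Finset.range r, σ (z ^ i) v) ∈ fixedSpace σ (K ⊔ zpowers z) := by
    intro z hz hzr
    let Stab : Subgroup G :=
      { carrier := {g | σ g (∑ i ∈ Finset.range r, σ (z ^ i) v) = ∑ i ∈ Finset.range r, σ (z ^ i) v}
        mul_mem' := fun {g h} hg hh => by
          change σ (g * h) _ = _
          rw [act, show σ h _ = _ from hh, show σ g _ = _ from hg]
        one_mem' := act_one _
        inv_mem' := fun {g} hg => by
          change σ g⁻¹ _ = _
          nth_rewrite 1 [← show σ g _ = _ from hg]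
          exact act_inv g _ }
    have hle : K ⊔ zpowers z ≤ Stab := by
      refine sup_le (fun g hg => ?_) (zpowers_le.2 ?_)
      · change σ g _ = _
        rw [map_sum]
        refine Finset.sum_congr rfl fun i _ => ?_
        rw [← act, hAc g (hKA hg) _ (pow_mem hz i), act, hv g hg]
      · change σ z _ = _
        rw [map_sum]
        have e1 := Finset.sum_range_succ' (fun i => σ (z ^ i) v) r
        rw [Finset.sum_range_succ] at e1
        simp only [hzr, pow_zero] at e1
        rw [add_right_cancel_iff] at e1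
        rw [e1]
        exact Finset.sum_congr rfl fun i _ => by rw [← act, ← pow_succ']
    exact fun g hg => hle hg
  set T := fun i j : ℕ => σ (x ^ i * y ^ j) v with hT
  have hxy : Commute x y := hAc x hx y hy
  have hperiod : ∀ i j, T i j = T (i % r) j := fun i j => by
    simp only [hT]
    rw [← pow_mod_orderOf x i, ← pow_mod_orderOf x (i % r),
      Nat.mod_mod_of_dvd _ (orderOf_dvd_of_pow_eq_one hxr)]
  obtain ⟨n, rfl⟩ : ∃ n, r = n + 1 := ⟨r - 1, by have := hrp.pos; omega⟩
  set lx := ∑ i ∈ Finset.range (n + 1), σ (x ^ i) v with hlx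
  set ly := ∑ k ∈ Finset.range (n + 1), ∑ j ∈ Finset.range (n + 1), σ ((x ^ k * y) ^ j) v with hly
  set all := ∑ j ∈ Finset.range (n + 1), ∑ i ∈ Finset.range (n + 1), T i j with hall
  have hallN : all ∈ N := by
    refine hNx fun g hg => ?_
    have e : all = ∑ j ∈ Finset.range (n + 1), σ (y ^ j) lx := by
      refine Finset.sum_congr rfl fun j _ => ?_
      rw [hlx, map_sum]
      refine Finset.sum_congr rfl fun i _ => ?_
      simp only [hT]
      rw [(hxy.pow_pow i j).eq, act]
    rw [e, map_sum]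
    refine Finset.sum_congr rfl fun j _ => ?_
    have hgA : g ∈ A := sup_le hKA (zpowers_le.2 hx) hg
    rw [← act, hAc g hgA _ (pow_mem hy j), act, key x hx hxr g hg]
  have hlxN : lx ∈ N := hNx (key x hx hxr)
  have hlyN : ly ∈ N := by
    refine Submodule.sum_mem _ fun k _ => hNy k (key _ (mul_mem (pow_mem hx k) hy) ?_)
    rw [(hxy.pow_left k).mul_pow, hyr, mul_one, ← pow_mul, mul_comm, pow_mul, hxr, one_pow]
  have hid : lx + ly = ((n + 1 : ℕ) : ZMod 3) • v + all := by
    have e1 : ly = ∑ j ∈ Finset.range (n + 1), ∑ k ∈ Finset.range (n + 1), T (k * j) j := by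
      rw [hly, Finset.sum_comm]
      refine Finset.sum_congr rfl fun j _ => Finset.sum_congr rfl fun k _ => ?_
      simp only [hT]
      rw [(hxy.pow_left k).mul_pow, pow_mul]
    rw [e1, hall, Finset.sum_range_succ' (fun j => ∑ k ∈ Finset.range (n + 1), T (k * j) j) n,
      Finset.sum_range_succ' (fun j => ∑ i ∈ Finset.range (n + 1), T i j) n]
    have z1 : ∑ k ∈ Finset.range (n + 1), T (k * 0) 0 = ((n + 1 : ℕ) : ZMod 3) • v := by
      simp only [hT, mul_zero, pow_zero, mul_one, map_one, Module.End.one_apply]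
      rw [Finset.sum_const, Finset.card_range, Nat.cast_smul_eq_nsmul]
    have z2 : ∑ i ∈ Finset.range (n + 1), T i 0 = lx := by
      simp only [hT, hlx, pow_zero, mul_one]
    have z3 : ∀ j ∈ Finset.range n, ∑ k ∈ Finset.range (n + 1), T (k * (j + 1)) (j + 1) =
        ∑ i ∈ Finset.range (n + 1), T i (j + 1) := by
      intro j hj
      rw [Finset.mem_range] at hj
      have hcop : Nat.Coprime (n + 1) (j + 1) :=
        (hrp.coprime_iff_not_dvd).2 fun h => by
          have := Nat.le_of_dvd (Nat.succ_pos j) h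
          omega
      have hinj : Set.InjOn (fun k => k * (j + 1) % (n + 1)) (Finset.range (n + 1) : Set ℕ) := by
        intro a ha c hc h
        rw [Finset.coe_range, Set.mem_Iio] at ha hc
        have h' : a ≡ c [MOD n + 1] := Nat.ModEq.cancel_right_of_coprime hcop h
        exact Nat.ModEq.eq_of_lt_of_lt h' ha hc
      have himg : (Finset.range (n + 1)).image (fun k => k * (j + 1) % (n + 1)) =
          Finset.range (n + 1) := by
        refine Finset.eq_of_subset_of_card_le (fun a ha => ?_)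
          (by rw [Finset.card_image_of_injOn hinj])
        obtain ⟨c, _, rfl⟩ := Finset.mem_image.1 ha
        exact Finset.mem_range.2 (Nat.mod_lt _ (Nat.succ_pos _))
      conv_rhs => rw [← himg]
      rw [Finset.sum_image hinj]
      exact Finset.sum_congr rfl fun k _ => hperiod _ _
    rw [z1, z2, Finset.sum_congr rfl z3]
    abel
  have hm : ((n + 1 : ℕ) : ZMod 3) • v ∈ N := by
    have := N.sub_mem (N.add_mem hlxN hlyN) hallN
    rwa [hid, add_sub_cancel_right] at this
  exact (Submodule.smul_mem_iff _ hr.ne_zero).1 hm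

omit [Finite W] in
/-- The components span. -/
theorem iSup_comp (S : Setup σ R b) {A : Subgroup G} [A.Normal] (hA : A ≠ ⊥) {r : ℕ} (hrp : r.Prime)
    (hr3 : IsUnit (r : ZMod 3)) (hAc : ∀ x ∈ A, ∀ y ∈ A, x * y = y * x)
    (hAr : ∀ a ∈ A, a ^ r = 1) : ∀ K : Subgroup G, K ≤ A →
      fixedSpace σ K ≤ ⨆ H : {H : Subgroup G // IsComp σ A H}, fixedSpace σ (H : Subgroup G) := by
  intro K
  induction K using WellFoundedGT.induction with
  | ind K ih =>
    intro hKA
    by_cases hbot : fixedSpace σ K = ⊥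
    · rw [hbot]; exact bot_le
    by_cases hmax : IsComp σ A K
    · exact le_iSup (fun H : {H : Subgroup G // IsComp σ A H} => fixedSpace σ (H : Subgroup G))
        ⟨K, hmax⟩
    obtain ⟨L, hLA, hKL, hL⟩ : ∃ L ≤ A, K < L ∧ fixedSpace σ L ≠ ⊥ := by
      by_contra hcon
      push Not at hcon
      exact hmax ⟨hKA, hbot, fun L hL hlt => hcon L hL hlt⟩
    obtain ⟨x, hxL, hxK⟩ := SetLike.exists_of_lt hKL
    have hKx : K ⊔ zpowers x ≤ L := sup_le hKL.le (zpowers_le.2 hxL)
    have hne : ¬ A ≤ L := fun h => hL (by rw [le_antisymm hLA h]; exact fixedSpace_bot S A hA)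
    obtain ⟨y, hyA, hyL⟩ := SetLike.not_le_iff_exists.1 hne
    intro v hv
    refine average_split hrp hr3 hKA hAc (hLA hxL) hyA (hAr _ (hLA hxL)) (hAr _ hyA) _ hv
      (ih _ (left_lt_sup.2 fun h => hxK (h (mem_zpowers x))) (hKx.trans hLA)) fun k => ?_
    have hm : x ^ k * y ∈ A := mul_mem (pow_mem (hLA hxL) k) hyA
    refine ih _ (left_lt_sup.2 fun h => hyL ?_) (sup_le hKA (zpowers_le.2 hm))
    simpa [← mul_assoc] using mul_mem (inv_mem (pow_mem hxL k)) (hKL.le (h (mem_zpowers _)))

/-- A non-central elementary abelian normal subgroup of `R` yields a frame. -/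
theorem exists_frame (S : Setup σ R b) {A : Subgroup G} [A.Normal] (hAR : A ≤ R) {r : ℕ}
    (hrp : r.Prime) (hAc : ∀ x ∈ A, ∀ y ∈ A, x * y = y * x) (hAr : ∀ a ∈ A, a ^ r = 1)
    (hmove : ∃ a ∈ A, b * a ≠ a * b) {Q : Subgroup G} (hQR : Q ≤ R)
    (hline : ∃ u : W, u ≠ 0 ∧ ∀ g ∈ centralizer (Q : Set G), ∃ c : ZMod 3, σ g u = c • u) :
    ∃ (k : ℕ) (π : G →* Equiv.Perm (Fin k)) (e : Fin k → W) (c : G → Fin k → ZMod 3),
      Frame σ R b k π e c := by
  classical
  obtain ⟨a1, ha1, ha1b⟩ := hmove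
  have ha11 : a1 ≠ 1 := fun h => ha1b (by rw [h, mul_one, one_mul])
  have hA : A ≠ ⊥ := fun h => ha11 (mem_bot.1 (h ▸ ha1))
  have hr3 : IsUnit (r : ZMod 3) := by
    rw [ZMod.isUnit_iff_coprime]
    refine S.cop.coprime_dvd_left (dvd_trans ?_ (card_dvd_of_le hAR))
    rw [← orderOf_eq_prime (p := r) (hp := ⟨hrp⟩) (hAr a1 ha1) ha11]
    exact (Subgroup.orderOf_mk a1 ha1) ▸ orderOf_dvd_natCard (⟨a1, ha1⟩ : A)
  have hcard : ∀ H, H ≤ A → (Nat.card H : ZMod 3) ≠ 0 := fun H hH =>
    ((ZMod.isUnit_iff_coprime _ _).2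
      (S.cop.coprime_dvd_left (card_dvd_of_le (hH.trans hAR)))).ne_zero
  let Ω := {H : Subgroup G // IsComp σ A H}
  have hspan : (⊤ : Submodule (ZMod 3) W) ≤ ⨆ H : Ω, fixedSpace σ (H : Subgroup G) :=
    le_trans (show (⊤ : Submodule (ZMod 3) W) ≤ fixedSpace σ (⊥ : Subgroup G) from
      fun v _ h hh => by rw [mem_bot.1 hh]; exact act_one v)
      (iSup_comp S hA hrp hr3 hAc hAr ⊥ bot_le)
  have hne : ∀ H : Ω, ∃ v ∈ fixedSpace σ (H : Subgroup G), v ≠ 0 := fun H =>
    Submodule.exists_mem_ne_zero_of_ne_bot H.2.2.1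
  -- separation
  have hkill : ∀ H H' : Ω, H ≠ H' → ∀ v ∈ fixedSpace σ (H' : Subgroup G),
      sumOver σ (H : Subgroup G) v = 0 := fun H H' h v hv =>
    sumOver_kill hAc H.2 H'.2 (fun e => h (Subtype.ext e)) hv
  have hzero : ∀ H : Ω, ∀ v ∈ fixedSpace σ (H : Subgroup G),
      sumOver σ (H : Subgroup G) v = 0 → v = 0 := fun H v hv h => by
    rw [sumOver_of_mem hv] at h
    exact (smul_eq_zero.1 h).resolve_left (hcard _ H.2.1)
  let cj : G → Ω → Ω := fun g H => ⟨_, isComp_conj g H.2⟩
  have hcjm : ∀ g h H, cj (g * h) H = cj g (cj h H) := fun g h H =>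
    Subtype.ext (conj_mul_map g h H.1)
  have hcj1 : ∀ H, cj 1 H = H := fun H => Subtype.ext (conj_one_map H.1)
  let θ : G →* Equiv.Perm Ω :=
    { toFun := fun g => ⟨cj g, cj g⁻¹, fun H => by rw [← hcjm, inv_mul_cancel, hcj1],
        fun H => by rw [← hcjm, mul_inv_cancel, hcj1]⟩
      map_one' := Equiv.ext hcj1
      map_mul' := fun g h => Equiv.ext fun H => hcjm g h H }
  have hθ : ∀ (g : G) (H : Ω) v, v ∈ fixedSpace σ (H : Subgroup G) →
      σ g v ∈ fixedSpace σ ((θ g H : Ω) : Subgroup G) := fun g H v hv => fixedSpace_conj g hv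
  -- `b` moves a component
  obtain ⟨H0, hH0⟩ : ∃ H0 : Ω, θ b H0 ≠ H0 := by
    by_contra hcon
    push Not at hcon
    have htop : θ.ker = ⊤ := normal_eq_top S _ (MonoidHom.mem_ker.2 (Equiv.ext hcon))
    have hall : ∀ H : Ω, fixedSpace σ (H : Subgroup G) = ⊤ := fun H => by
      refine (S.irred _ fun g v hv => ?_).resolve_left H.2.2.1
      have := hθ g H v hv
      rwa [show θ g = 1 from MonoidHom.mem_ker.1 (htop ▸ mem_top g), Equiv.Perm.one_apply] at this
    have hbot : ∀ H : Ω, (H : Subgroup G) = ⊥ := fun H => by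
      rw [Subgroup.eq_bot_iff_forall]
      exact fun h hh => eq_one S fun v => (hall H ▸ Submodule.mem_top :
        v ∈ fixedSpace σ (H : Subgroup G)) h hh
    obtain ⟨H, -⟩ : ∃ H : Ω, True := by
      by_contra h
      rw [not_exists] at h
      have : IsEmpty Ω := ⟨fun H => h H trivial⟩
      rw [iSup_of_empty] at hspan
      obtain ⟨w, hw⟩ := S.block
      exact hw ((Submodule.mem_bot (ZMod 3)).1 (hspan Submodule.mem_top))
    have hz : ∀ x ∈ A, x ≠ 1 → fixedSpace σ (zpowers x) = ⊥ := fun x hx hx1 => by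
      refine H.2.2.2 _ (zpowers_le.2 hx) ?_
      rw [hbot H, bot_lt_iff_ne_bot, ne_eq, zpowers_eq_bot]
      exact hx1
    have hcyc : ∀ y ∈ A, y ∈ zpowers a1 := by
      intro y hy
      by_contra hy'
      obtain ⟨w, hw⟩ := S.block
      refine hw ((Submodule.mem_bot (ZMod 3)).1 ?_)
      refine average_split (K := (⊥ : Subgroup G)) hrp hr3 bot_le hAc ha1 hy (hAr _ ha1)
        (hAr _ hy) ⊥ (fun h hh => by rw [mem_bot.1 hh]; exact act_one (σ := σ) _) ?_ fun k => ?_
      · rw [bot_sup_eq, hz _ ha1 ha11]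
      · rw [bot_sup_eq, hz _ (mul_mem (pow_mem ha1 k) hy) fun h => hy' ?_]
        rw [eq_inv_of_mul_eq_one_right h]
        exact inv_mem (pow_mem (mem_zpowers a1) k)
    rcases hrp.eq_two_or_odd' with rfl | hodd
    · have hc : b * a1 * b⁻¹ ∈ zpowers a1 := hcyc _ (‹A.Normal›.conj_mem a1 ha1 b)
      obtain ⟨i, hi⟩ := mem_zpowers_iff.1 hc
      have h2 : a1 ^ (2 : ℤ) = 1 := by rw [zpow_two, ← pow_two]; exact hAr a1 ha1
      rcases Int.even_or_odd' i with ⟨j, rfl | rfl⟩
      · rw [zpow_mul, h2, one_zpow] at hi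
        exact ha11 (conj_eq_one_iff.1 hi.symm)
      · rw [zpow_add, zpow_mul, h2, one_zpow, one_mul, zpow_one] at hi
        exact ha1b (by conv_rhs => rw [hi, inv_mul_cancel_right])
    · have hkey : commutator G ≤ centralizer (A : Set G) := by
        rw [_root_.commutator_def, commutator_le]
        intro g _ h _
        rw [mem_centralizer_iff]
        intro y hy
        obtain ⟨i, rfl⟩ := mem_zpowers_iff.1 (hcyc y hy)
        have hcomm : Commute ⁅g, h⁆ a1 := by
          have hpow : ∀ x : G, ∃ n : ℤ, MulAut.conj x a1 = a1 ^ n := fun x => by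
            obtain ⟨n, hn⟩ := mem_zpowers_iff.1 (hcyc _ (‹A.Normal›.conj_mem a1 ha1 x))
            exact ⟨n, hn.symm⟩
          obtain ⟨n, hn⟩ := hpow g⁻¹
          obtain ⟨m, hm⟩ := hpow h⁻¹
          have e : MulAut.conj (g⁻¹ * h⁻¹) a1 = MulAut.conj (h⁻¹ * g⁻¹) a1 := by
            rw [map_mul, map_mul, MulAut.mul_apply, MulAut.mul_apply, hn, hm, map_zpow, map_zpow,
              hn, hm, ← zpow_mul, ← zpow_mul, mul_comm]
          simp only [MulAut.conj_apply] at e
          rw [commutatorElement_def, Commute, SemiconjBy]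
          calc g * h * g⁻¹ * h⁻¹ * a1
              = g * h * ((g⁻¹ * h⁻¹) * a1 * (g⁻¹ * h⁻¹)⁻¹) * (g⁻¹ * h⁻¹) := by group
            _ = g * h * ((h⁻¹ * g⁻¹) * a1 * (h⁻¹ * g⁻¹)⁻¹) * (g⁻¹ * h⁻¹) := by rw [e]
            _ = a1 * (g * h * g⁻¹ * h⁻¹) := by group
        exact ((hcomm.zpow_right i).eq).symm
      obtain ⟨u, hu, hQu⟩ := hline
      have hRc : R ≤ commutator G := by
        rw [← S.comm, _root_.commutator_def]; exact commutator_mono le_top le_top
      have ha1Q : a1 ∈ centralizer (Q : Set G) := mem_centralizer_iff.2 fun q hq =>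
        (mem_centralizer_iff.1 (hkey (hRc (hQR hq))) a1 ha1).symm
      obtain ⟨d, hd⟩ := hQu a1 ha1Q
      have hpow : ∀ n : ℕ, σ (a1 ^ n) u = d ^ n • u := by
        intro n
        induction n with
        | zero => rw [pow_zero, pow_zero, one_smul, act_one]
        | succ n ih => rw [pow_succ', act, ih, map_smul, hd, smul_smul, ← pow_succ]
      have hdr := hpow r
      rw [hAr a1 ha1, act_one] at hdr
      rcases zmod_three d with rfl | rfl | rfl
      · rw [zero_pow hrp.ne_zero, zero_smul] at hdr; exact hu hdr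
      · have : u ∈ fixedSpace σ (zpowers a1) := fun g hg => by
          obtain ⟨i, rfl⟩ := (isOfFinOrder_of_finite a1).mem_powers_iff_mem_zpowers.2 hg
          simpa using hpow i
        rw [hz a1 ha1 ha11, Submodule.mem_bot] at this
        exact hu this
      · rw [hodd.neg_one_pow, neg_smul, one_smul] at hdr
        exact neg_ne u hu hdr.symm
  have hb3 : ∀ H, θ b (θ b (θ b H)) = H := fun H => by
    rw [← Equiv.Perm.mul_apply, ← Equiv.Perm.mul_apply, ← map_mul, ← map_mul, S.cube,
      map_one, Equiv.Perm.one_apply]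
  set H1 := θ b H0 with hH1
  set H2 := θ b H1 with hH2
  have h10 : H1 ≠ H0 := hH0
  have h21 : H2 ≠ H1 := fun h => h10 ((θ b).injective h)
  have h20 : H2 ≠ H0 := fun h => h10 (by
    have := hb3 H0
    rw [← hH1, ← hH2, h] at this
    exact this)
  obtain ⟨x0, hx0, hx0n⟩ := hne H0
  set p := σ b x0 - x0 with hp
  have hx1 : σ b x0 ∈ fixedSpace σ (H1 : Subgroup G) := hθ b H0 x0 hx0
  have hx2 : σ b (σ b x0) ∈ fixedSpace σ (H2 : Subgroup G) := hθ b H1 _ hx1
  have hli : LinearIndependent (ZMod 3) ![p, σ b p] := by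
    rw [LinearIndependent.pair_iff]
    intro c d hcd
    rw [hp, map_sub] at hcd
    have h2 := congrArg (sumOver σ (H2 : Subgroup G)) hcd
    simp only [map_add, map_smul, map_sub, map_zero, hkill H2 H1 h21 _ hx1,
      hkill H2 H0 h20 _ hx0, sub_zero, smul_zero, zero_add, sumOver_of_mem hx2] at h2
    have hd0 : d = 0 := by
      rcases smul_eq_zero.1 h2 with h | h
      · exact h
      · exact absurd ((smul_eq_zero.1 h).resolve_left (hcard _ H2.2.1)) fun h =>
          hx0n (act_inj (σ := σ) b (act_inj (σ := σ) b (by rw [h, map_zero, map_zero])))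
    subst hd0
    rw [zero_smul, add_zero] at hcd
    rcases smul_eq_zero.1 hcd with h | h
    · exact ⟨h, rfl⟩
    · have h1 := congrArg (sumOver σ (H0 : Subgroup G)) h
      rw [map_sub, map_zero, hkill H0 H1 h10.symm _ hx1, zero_sub, neg_eq_zero] at h1
      exact absurd (hzero H0 x0 hx0 h1) hx0n
  have hrange : ∀ v, ∃ c d : ZMod 3, σ b v - v = c • p + d • σ b p := by
    intro v
    have hsub : Submodule.span (ZMod 3) (Set.range ![p, σ b p]) ≤ LinearMap.range (σ b - 1) := by
      rw [Submodule.span_le]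
      rintro _ ⟨i, rfl⟩
      fin_cases i
      · exact ⟨x0, by simp [hp]⟩
      · exact ⟨σ b x0, by simp [hp, map_sub]⟩
    have heq := Submodule.eq_of_le_of_finrank_le hsub (by
      rw [finrank_span_eq_card hli, Fintype.card_fin]; exact S.rank)
    have hmem : σ b v - v ∈ Submodule.span (ZMod 3) (Set.range ![p, σ b p]) := by
      rw [heq]; exact ⟨v, rfl⟩
    rw [Matrix.range_cons, Matrix.range_cons, Matrix.range_empty, Set.union_empty,
      Set.singleton_union, Submodule.mem_span_pair] at hmem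
    obtain ⟨c, d, h⟩ := hmem
    exact ⟨c, d, h.symm⟩
  have hmoved : ∀ H : Ω, θ b H ≠ H → H = H0 ∨ H = H1 ∨ H = H2 := by
    intro H hH
    by_contra hcon
    push Not at hcon
    obtain ⟨z, hz, hzn⟩ := hne H
    obtain ⟨c, d, hcd⟩ := hrange z
    have h := congrArg (sumOver σ (H : Subgroup G)) hcd
    simp only [hp, map_add, map_smul, map_sub, hkill H _ hcon.1 _ hx0, hkill H _ hcon.2.1 _ hx1,
      hkill H _ hcon.2.2 _ hx2, hkill H _ hH.symm _ (hθ b H z hz), sub_zero, smul_zero,
      add_zero, zero_sub, neg_eq_zero] at h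
    exact hzn (hzero H z hz h)
  have hline0 : ∀ x ∈ fixedSpace σ (H0 : Subgroup G), ∃ c : ZMod 3, x = c • x0 := by
    intro x hx
    obtain ⟨c, d, hcd⟩ := hrange x
    refine ⟨c, sub_eq_zero.1 (hzero H0 _ (Submodule.sub_mem _ hx (Submodule.smul_mem _ c hx0)) ?_)⟩
    have h := congrArg (sumOver σ (H0 : Subgroup G)) hcd
    simp only [hp, map_add, map_smul, map_sub, hkill H0 H1 h10.symm _ hx1,
      hkill H0 H2 h20.symm _ hx2, hkill H0 H1 h10.symm _ (hθ b H0 x hx), sub_zero, smul_zero,
      add_zero, zero_sub, smul_neg, neg_inj] at h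
    rw [map_sub, map_smul, h, sub_self]
  have htrans : ∀ H : Ω, ∃ g, θ g H0 = H := by
    intro H
    by_contra hcon
    rw [not_exists] at hcon
    obtain ⟨z, hz, hzn⟩ := hne H
    let N := Submodule.span (ZMod 3) (Set.range fun g => σ g x0)
    have hN : ∀ g, ∀ v ∈ N, σ g v ∈ N := by
      intro g v hv
      induction hv using Submodule.span_induction with
      | mem x hx =>
        obtain ⟨h, rfl⟩ := hx
        exact Submodule.subset_span ⟨g * h, act g h x0⟩
      | zero => rw [map_zero]; exact Submodule.zero_mem _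
      | add x y _ _ hx hy => rw [map_add]; exact Submodule.add_mem _ hx hy
      | smul a x _ hx => rw [map_smul]; exact Submodule.smul_mem _ a hx
    have htop : N = ⊤ := (S.irred N hN).resolve_left fun h => hx0n (by
      have h1 : σ 1 x0 ∈ N := Submodule.subset_span ⟨1, rfl⟩
      rwa [h, Submodule.mem_bot, act_one] at h1)
    refine hzn (hzero H z hz ?_)
    have hle : N ≤ LinearMap.ker (sumOver σ (H : Subgroup G)) := by
      rw [Submodule.span_le]
      rintro _ ⟨g, rfl⟩
      exact LinearMap.mem_ker.2 (hkill H _ (fun e => hcon g e.symm) _ (hθ g H0 x0 hx0))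
    exact LinearMap.mem_ker.1 (hle (htop ▸ Submodule.mem_top))
  choose t ht using htrans
  set v := fun H : Ω => σ (t H) x0 with hvdef
  have hv : ∀ H : Ω, v H ∈ fixedSpace σ (H : Subgroup G) := fun H => by
    have := hθ (t H) H0 x0 hx0
    rwa [ht H] at this
  have hvn : ∀ H, v H ≠ 0 := fun H h => hx0n (act_inj (σ := σ) (t H) (h.trans (map_zero _).symm))
  have hlineH : ∀ H : Ω, ∀ x ∈ fixedSpace σ (H : Subgroup G), ∃ c : ZMod 3, x = c • v H := by
    intro H x hx
    have := hθ (t H)⁻¹ H x hx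
    rw [show θ (t H)⁻¹ H = H0 by
      rw [map_inv, Equiv.Perm.inv_eq_iff_eq, ht]] at this
    obtain ⟨c, hc⟩ := hline0 _ this
    refine ⟨c, ?_⟩
    have := congrArg (σ (t H)) hc
    rwa [← act, mul_inv_cancel, act_one, map_smul] at this
  have hsc : ∀ g H, ∃ c : ZMod 3, (c = 1 ∨ c = -1) ∧ σ g (v H) = c • v (θ g H) := by
    intro g H
    obtain ⟨c, hc⟩ := hlineH _ _ (hθ g H _ (hv H))
    refine ⟨c, (zmod_three c).resolve_left fun h => ?_, hc⟩
    rw [h, zero_smul] at hc
    exact hvn H (act_inj (σ := σ) g (hc.trans (map_zero _).symm))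
  choose cf hcs hca using hsc
  have : Fintype Ω := Fintype.ofFinite Ω
  let eq := Fintype.equivFin Ω
  refine ⟨Fintype.card Ω, eq.permCongrHom.toMonoidHom.comp θ, fun i => v (eq.symm i),
    fun g i => cf g (eq.symm i), ?_⟩
  have hπ : ∀ g i, (eq.permCongrHom.toMonoidHom.comp θ) g i = eq (θ g (eq.symm i)) := fun g i => rfl
  have hspanv : Submodule.span (ZMod 3) (Set.range fun i => v (eq.symm i)) = ⊤ := by
    rw [eq_top_iff]
    refine hspan.trans (iSup_le fun H x hx => ?_)
    obtain ⟨c, rfl⟩ := hlineH H x hx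
    exact Submodule.smul_mem _ c (Submodule.subset_span ⟨eq H, by simp⟩)
  constructor
  · exact hspanv
  · rw [Fintype.linearIndependent_iff]
    intro f hf i
    have h := congrArg (sumOver σ ((eq.symm i : Ω) : Subgroup G)) hf
    rw [map_sum, map_zero, Finset.sum_eq_single i] at h
    · rw [map_smul] at h
      rcases smul_eq_zero.1 h with h | h
      · exact h
      · exact absurd (hzero _ _ (hv _) h) (hvn _)
    · intro j _ hj
      rw [map_smul, hkill _ _ (fun e => hj (eq.symm.injective e).symm) _ (hv _), smul_zero]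
    · simp
  · exact fun g i => hcs _ _
  · intro g i
    rw [hπ, Equiv.symm_apply_apply]
    exact hca g (eq.symm i)
  · intro i j
    refine ⟨t (eq.symm j) * (t (eq.symm i))⁻¹, ?_⟩
    rw [hπ, map_mul, Equiv.Perm.mul_apply, show θ (t (eq.symm i))⁻¹ (eq.symm i) = H0 by
      rw [map_inv, Equiv.Perm.inv_eq_iff_eq, ht], ht, Equiv.apply_symm_apply]
  · rw [← card_support_eq_three_iff, Finset.card_eq_three]
    refine ⟨eq H0, eq H1, eq H2, by simpa using h10.symm, by simpa using h20.symm,
      by simpa using h21.symm, ?_⟩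
    ext i
    obtain ⟨H, rfl⟩ := eq.surjective i
    simp only [Equiv.Perm.mem_support, hπ, Equiv.symm_apply_apply, Finset.mem_insert,
      Finset.mem_singleton, ne_eq, eq.injective.eq_iff]
    refine ⟨hmoved H, ?_⟩
    rintro (rfl | rfl | rfl)
    · exact h10
    · exact h21
    · rw [hH2, hH1, hb3]; exact h20.symm
  · refine ⟨a1, hAR ha1, ?_, ?_⟩
    · refine Equiv.ext fun i => ?_
      rw [hπ, Equiv.Perm.one_apply]
      have hfix : θ a1 (eq.symm i) = eq.symm i := by
        refine Subtype.ext ?_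
        change (eq.symm i).1.map (MulAut.conj a1).toMonoidHom = _
        ext y
        constructor
        · rintro ⟨x, hx, rfl⟩
          change a1 * x * a1⁻¹ ∈ _
          rwa [hAc a1 ha1 x ((eq.symm i).2.1 hx), mul_inv_cancel_right]
        · exact fun hy => ⟨y, hy, by
            change a1 * y * a1⁻¹ = y
            rw [hAc a1 ha1 y ((eq.symm i).2.1 hy), mul_inv_cancel_right]⟩
      rw [hfix, Equiv.apply_symm_apply]
    · by_contra hcon
      push Not at hcon
      have hfix : ∀ H, θ a1 H = H := fun H => by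
        refine Subtype.ext ?_
        change H.1.map (MulAut.conj a1).toMonoidHom = _
        ext y
        constructor
        · rintro ⟨x, hx, rfl⟩
          change a1 * x * a1⁻¹ ∈ _
          rwa [hAc a1 ha1 x (H.2.1 hx), mul_inv_cancel_right]
        · exact fun hy => ⟨y, hy, by
            change a1 * y * a1⁻¹ = y
            rw [hAc a1 ha1 y (H.2.1 hy), mul_inv_cancel_right]⟩
      have hs : σ a1 = cf a1 H0 • (1 : Module.End (ZMod 3) W) := by
        refine LinearMap.ext_on hspanv ?_
        rintro _ ⟨i, rfl⟩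
        rw [hca, hfix, LinearMap.smul_apply, Module.End.one_apply]
        congr 1
        simpa using hcon i (eq H0)
      refine ha1b (S.inj ?_)
      rw [map_mul, map_mul, hs, smul_mul_assoc, mul_smul_comm, one_mul, mul_one]

end CfsgLib.Solvable.BlockThree
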