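import Mathlib
import Cfsg.Prelude.Def_Transfer
import Cfsg.Agent.Lib.Solvable.BlockThreeComponents
import Cfsg.Agent.Lib.PGroup.Frattini

/-!
The monomial case: three or four lines.
-/

set_option autoImplicit false
set_option linter.style.haveILetI false
open Subgroup
open scoped commutatorElement

namespace CfsgLib.Solvable.BlockThree

variable {G : Type*} [Group G] [Finite G] {W : Type*} [AddCommGroup W] [Module (ZMod 3) W] [Finite W]
variable {σ : G →* Module.End (ZMod 3) W} {R : Subgroup G} {b : G}
variable {k : ℕ} {π : G →* Equiv.Perm (Fin k)} {e : Fin k → W} {c : G → Fin k → ZMod 3}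

theorem threeCycle_support {α : Type*} [Fintype α] [DecidableEq α] {p : Equiv.Perm α}
    (hp : p.IsThreeCycle) {x : α} (hx : x ∈ p.support) :
    p.support = {x, p x, p (p x)} ∧ p (p (p x)) = x := by
  have h3 : p (p (p x)) = x := by
    have h := hp.orderOf ▸ pow_orderOf_eq_one p
    rw [pow_succ, pow_succ, pow_one] at h
    exact Equiv.Perm.congr_fun h x
  refine ⟨?_, h3⟩
  have h1 : p x ≠ x := Equiv.Perm.mem_support.1 hx
  have h2 : p (p x) ≠ x := fun h => h1 (by
    conv_rhs => rw [← h3, h])
  have h4 : p (p x) ≠ p x := fun h => h1 (p.injective h)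
  refine (Finset.eq_of_subset_of_card_le (fun y hy => ?_) ?_).symm
  · simp only [Finset.mem_insert, Finset.mem_singleton] at hy
    rcases hy with rfl | rfl | rfl
    · exact hx
    · exact Equiv.Perm.apply_mem_support.2 hx
    · exact Equiv.Perm.apply_mem_support.2 (Equiv.Perm.apply_mem_support.2 hx)
  · rw [hp.card_support, Finset.card_eq_three.2 ⟨x, p x, p (p x), h1.symm, h2.symm, h4.symm, rfl⟩]

/-- Two three-cycles whose supports meet in one point give a five-cycle. -/
theorem five_cycle {α : Type*} [Fintype α] [DecidableEq α] {p q : Equiv.Perm α}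
    (hp : p.IsThreeCycle) (hq : q.IsThreeCycle) (h : (p.support ∩ q.support).card = 1) :
    (p * q) ^ 5 = 1 := by
  obtain ⟨i, hi⟩ := Finset.card_eq_one.1 h
  have hi' : i ∈ p.support ∧ i ∈ q.support := Finset.mem_inter.1 (hi ▸ Finset.mem_singleton_self i)
  have only : ∀ x, x ∈ p.support → x ∈ q.support → x = i := fun x h1 h2 =>
    Finset.mem_singleton.1 (hi ▸ Finset.mem_inter.2 ⟨h1, h2⟩)
  obtain ⟨hps, hp3⟩ := threeCycle_support hp hi'.1
  obtain ⟨hqs, hq3⟩ := threeCycle_support hq hi'.2
  have pfix : ∀ x ∈ q.support, x ≠ i → p x = x := fun x hx hxi =>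
    Equiv.Perm.notMem_support.1 fun h' => hxi (only x h' hx)
  have qfix : ∀ x ∈ p.support, x ≠ i → q x = x := fun x hx hxi =>
    Equiv.Perm.notMem_support.1 fun h' => hxi (only x hx h')
  have hp1 := Equiv.Perm.apply_mem_support.2 hi'.1
  have hp2 := Equiv.Perm.apply_mem_support.2 hp1
  have hq1 := Equiv.Perm.apply_mem_support.2 hi'.2
  have hq2 := Equiv.Perm.apply_mem_support.2 hq1
  have np1 : p i ≠ i := Equiv.Perm.mem_support.1 hi'.1
  have nq1 : q i ≠ i := Equiv.Perm.mem_support.1 hi'.2
  have np2 : p (p i) ≠ i := fun h' => np1 (by conv_rhs => rw [← hp3, h'])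
  have nq2 : q (q i) ≠ i := fun h' => nq1 (by conv_rhs => rw [← hq3, h'])
  have a1 : (p * q) i = q i := pfix _ hq1 nq1
  have a2 : (p * q) (q i) = q (q i) := pfix _ hq2 nq2
  have a3 : (p * q) (q (q i)) = p i := by rw [Equiv.Perm.mul_apply, hq3]
  have a4 : (p * q) (p i) = p (p i) := by rw [Equiv.Perm.mul_apply, qfix _ hp1 np1]
  have a5 : (p * q) (p (p i)) = i := by rw [Equiv.Perm.mul_apply, qfix _ hp2 np2, hp3]
  ext x
  rw [show (p * q) ^ 5 = (p*q) * (p*q) * (p*q) * (p*q) * (p*q) by simp [pow_succ, mul_assoc]]
  simp only [Equiv.Perm.mul_apply (f := p * q * (p * q) * (p * q) * (p * q)),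
    Equiv.Perm.mul_apply (f := p * q * (p * q) * (p * q)),
    Equiv.Perm.mul_apply (f := p * q * (p * q)), Equiv.Perm.mul_apply (f := p * q) (g := p * q),
    Equiv.Perm.one_apply]
  by_cases hxp : x ∈ p.support
  · rw [hps, Finset.mem_insert, Finset.mem_insert, Finset.mem_singleton] at hxp
    rcases hxp with rfl | rfl | rfl
    · rw [a1, a2, a3, a4, a5]
    · rw [a4, a5, a1, a2, a3]
    · rw [a5, a1, a2, a3, a4]
  by_cases hxq : x ∈ q.support
  · rw [hqs, Finset.mem_insert, Finset.mem_insert, Finset.mem_singleton] at hxq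
    rcases hxq with rfl | rfl | rfl
    · exact absurd hi'.1 hxp
    · rw [a2, a3, a4, a5, a1]
    · rw [a3, a4, a5, a1, a2]
  have hfx : (p * q) x = x := by
    rw [Equiv.Perm.mul_apply, Equiv.Perm.notMem_support.1 hxq, Equiv.Perm.notMem_support.1 hxp]
  rw [hfx, hfx, hfx, hfx, hfx]

omit [Finite G] [Finite W] in
theorem frame_ext (S : Setup σ R b) (F : Frame σ R b k π e c) {g h : G} (h1 : π g = π h)
    (h2 : ∀ i, c g i = c h i) : g = h := by
  refine S.inj (LinearMap.ext_on F.span ?_)
  rintro _ ⟨i, rfl⟩
  rw [F.act, F.act, h1, h2]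

omit [Finite G] [Finite W] in
theorem frame_mul (F : Frame σ R b k π e c) (g h : G) (i : Fin k) :
    c (g * h) i = c g (π h i) * c h i := by
  have h1 := F.act (g * h) i
  rw [act, F.act h i, map_smul, F.act g (π h i), smul_smul, map_mul, Equiv.Perm.mul_apply] at h1
  rcases eq_or_ne (c (g * h) i) (c g (π h i) * c h i) with h2 | h2
  · exact h2
  · have h3 : (c (g * h) i - c g (π h i) * c h i) • e (π g (π h i)) = 0 := by
      rw [sub_smul, mul_comm (c g (π h i)), h1, sub_self]
    exact sub_eq_zero.1 ((smul_eq_zero.1 h3).resolve_right (F.indep.ne_zero _))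

omit [Finite G] [Finite W] in
theorem frame_one (F : Frame σ R b k π e c) (i : Fin k) : c 1 i = 1 := by
  have h := frame_mul F 1 1 i
  rw [mul_one, map_one, Equiv.Perm.one_apply] at h
  rcases F.sign 1 i with h1 | h1
  · exact h1
  · rw [h1] at h; exact absurd h (by decide)

omit [Finite G] [Finite W] in
theorem frame_sq (F : Frame σ R b k π e c) (g : G) (i : Fin k) : c g i * c g i = 1 := by
  rcases F.sign g i with h | h <;> rw [h] <;> decide

omit [Finite G] [Finite W] in
theorem frame_diag_sq (S : Setup σ R b) (F : Frame σ R b k π e c) {g : G} (h : π g = 1) :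
    g * g = 1 := by
  refine frame_ext S F (by rw [map_mul, map_one, h, one_mul]) fun i => ?_
  rw [frame_mul F, h, Equiv.Perm.one_apply, frame_sq F, frame_one F]

omit [Finite G] [Finite W] in
theorem conj_inter_ne_one (S : Setup σ R b) (F : Frame σ R b k π e c) (g h : G) :
    ((π (g * b * g⁻¹)).support ∩ (π (h * b * h⁻¹)).support).card ≠ 1 := by
  intro hcard
  have hc : ∀ x : G, (π (x * b * x⁻¹)).IsThreeCycle := fun x => by
    rw [← card_support_eq_three_iff, map_mul, map_mul, map_inv, Equiv.Perm.support_conj,
      Finset.card_map]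
    exact F.three.card_support
  have h5 := five_cycle (hc g) (hc h) hcard
  rw [← map_mul, ← map_pow] at h5
  have h10 := frame_diag_sq S F h5
  haveI := S.normal
  have hmk : ∀ x : G, (QuotientGroup.mk (x * b * x⁻¹) : G ⧸ R) = QuotientGroup.mk b := fun x => by
    rw [QuotientGroup.eq]
    have := inv_mem (comm_mem S x)
    have e : (x * b * x⁻¹)⁻¹ * b = b⁻¹ * ((x * b * x⁻¹ * b⁻¹)⁻¹) * b := by group
    rw [e]
    simpa using S.normal.conj_mem _ this b⁻¹
  have h20 := congrArg (QuotientGroup.mk' R) h10
  rw [map_mul, map_pow, map_mul (QuotientGroup.mk' R) (g * b * g⁻¹) (h * b * h⁻¹), map_one, QuotientGroup.mk'_apply, QuotientGroup.mk'_apply, hmk, hmk] at h20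
  have hb3 : (QuotientGroup.mk b : G ⧸ R) ^ 3 = 1 := by
    rw [← QuotientGroup.mk_pow, pow_succ, pow_two, S.cube, QuotientGroup.mk_one]
  refine S.not_mem ((QuotientGroup.eq_one_iff b).1 ?_)
  set B : G ⧸ R := QuotientGroup.mk b
  calc B = ((B * B) ^ 5 * (B * B) ^ 5)⁻¹ * (B ^ 3) ^ 7 := by
        rw [← pow_mul, ← pow_two B, ← pow_mul, ← pow_add, pow_succ B 20, inv_mul_cancel_left]
    _ = 1 := by rw [h20, hb3, one_pow, inv_one, one_mul]

omit [Finite G] [Finite W] in
theorem frame_card (S : Setup σ R b) (F : Frame σ R b k π e c) : k = 3 ∨ k = 4 := by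
  classical
  set p := π b with hp
  have hpc : p.IsThreeCycle := F.three
  set C := fun g : G => π (g * b * g⁻¹) with hC
  have hsupp : ∀ g, (C g).support = p.support.map (π g).toEmbedding := fun g => by
    simp only [hC, map_mul, map_inv, Equiv.Perm.support_conj]; rfl
  have huniv : ∀ U : Finset (Fin k), U.Nonempty →
      (∀ g, (C g).support ⊆ U ∨ Disjoint (C g).support U) → U = Finset.univ := by
    intro U hU hgood
    let Stab : Subgroup G :=
      { carrier := {g | ∀ x, π g x ∈ U ↔ x ∈ U}
        mul_mem' := fun {g h} hg hh x => by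
          rw [map_mul, Equiv.Perm.mul_apply, hg, hh]
        one_mem' := fun x => by rw [map_one, Equiv.Perm.one_apply]
        inv_mem' := fun {g} hg x => by
          rw [← hg (π g⁻¹ x), ← Equiv.Perm.mul_apply, ← map_mul, mul_inv_cancel, map_one,
            Equiv.Perm.one_apply] }
    have hle : normalClosure {b} ≤ Stab := by
      rw [normalClosure, closure_le]
      intro y hy
      obtain ⟨b', hb', hyc⟩ := Group.mem_conjugatesOfSet_iff.1 hy
      obtain ⟨g, rfl⟩ := isConj_iff.1 hyc
      rw [Set.mem_singleton_iff] at hb'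
      subst hb'
      intro x
      by_cases hx : x ∈ (C g).support
      · rcases hgood g with h | h
        · exact iff_of_true (h (Equiv.Perm.apply_mem_support.2 hx)) (h hx)
        · exact iff_of_false (Finset.disjoint_left.1 h (Equiv.Perm.apply_mem_support.2 hx))
            (Finset.disjoint_left.1 h hx)
      · rw [show π (g * b' * g⁻¹) x = x from Equiv.Perm.notMem_support.1 hx]
    rw [normal_eq_top S (normalClosure {b}) (subset_normalClosure rfl)] at hle
    obtain ⟨i, hi⟩ := hU
    rw [Finset.eq_univ_iff_forall]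
    intro j
    obtain ⟨g, hg⟩ := F.trans i j
    rw [← hg, (hle (mem_top g)) i]
    exact hi
  have hne1 : ∀ g h, ((C g).support ∩ (C h).support).card ≠ 1 := conj_inter_ne_one S F
  have hC1 : C 1 = p := by simp [hC, hp]
  have hC3 : ∀ g, (C g).support.card = 3 := fun g => by
    rw [hsupp, Finset.card_map, hpc.card_support]
  by_cases hall : ∀ g, (C g).support ⊆ p.support ∨ Disjoint (C g).support p.support
  · left
    have h := congrArg Finset.card (huniv _ (Finset.card_pos.1 (by rw [hpc.card_support]; omega)) hall)
    rw [hpc.card_support, Finset.card_univ, Fintype.card_fin] at h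
    exact h.symm
  · right
    push Not at hall
    obtain ⟨g, hg1, hg2⟩ := hall
    have hcard2 : ((C g).support ∩ p.support).card = 2 := by
      have h1 := hne1 g 1
      rw [hC1] at h1
      have h0 : ((C g).support ∩ p.support).card ≠ 0 := fun h => hg2
        (Finset.disjoint_iff_inter_eq_empty.2 (Finset.card_eq_zero.1 h))
      have h3 : ((C g).support ∩ p.support).card ≠ 3 := fun h => hg1
        (Finset.inter_eq_left.1 (Finset.eq_of_subset_of_card_le Finset.inter_subset_left
          (by rw [h, hC3])))
      have := Finset.card_le_card (Finset.inter_subset_left (s₁ := (C g).support) (s₂ := p.support))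
      rw [hC3] at this
      omega
    set U := (C g).support ∪ p.support with hU
    have hUcard : U.card = 4 := by
      have := Finset.card_union_add_card_inter (C g).support p.support
      rw [hC3, hpc.card_support, hcard2, ← hU] at this
      omega
    have hsub : ∀ a ∈ U, ∃ h, (C h).support = U.erase a := by
      intro a ha
      by_cases hap : a ∈ p.support
      · obtain ⟨a0, ha0⟩ : ∃ a0, a0 ∈ p.support ∧ a0 ∉ (C g).support := by
          by_contra hcon
          push Not at hcon
          have hs : p.support ⊆ (C g).support := hcon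
          rw [Finset.inter_eq_right.2 hs, hpc.card_support] at hcard2
          omega
        have hsg : (C g).support = U.erase a0 := Finset.eq_of_subset_of_card_le
          (fun x hx => Finset.mem_erase.2 ⟨fun h => ha0.2 (h ▸ hx), Finset.mem_union_left _ hx⟩)
          (by rw [Finset.card_erase_of_mem (Finset.mem_union_right _ ha0.1), hUcard, hC3])
        obtain ⟨hps, -⟩ := threeCycle_support hpc ha0.1
        have hstab : ∀ x ∈ U, p x ∈ U := by
          intro x hx
          by_cases hxs : x ∈ p.support
          · exact Finset.mem_union_right _ (Equiv.Perm.apply_mem_support.2 hxs)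
          · rw [Equiv.Perm.notMem_support.1 hxs]; exact hx
        have hstep : ∀ (x : Fin k) (h : G), x ∈ U → (C h).support = U.erase x →
            (C (b * h)).support = U.erase (p x) := by
          intro x h hx hh
          have himg : (C (b * h)).support = (C h).support.map p.toEmbedding := by
            rw [hsupp, hsupp, Finset.map_map, map_mul]
            rfl
          refine Finset.eq_of_subset_of_card_le (fun y hy => ?_)
            (by rw [Finset.card_erase_of_mem (hstab x hx), hUcard, hC3])
          rw [himg, hh, Finset.mem_map] at hy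
          obtain ⟨z, hz, rfl⟩ := hy
          rw [Finset.mem_erase] at hz ⊢
          exact ⟨fun h' => hz.1 (p.injective h'), hstab z hz.2⟩
        rw [hps, Finset.mem_insert, Finset.mem_insert, Finset.mem_singleton] at hap
        have hU0 : a0 ∈ U := Finset.mem_union_right _ ha0.1
        rcases hap with rfl | rfl | rfl
        · exact ⟨g, hsg⟩
        · exact ⟨_, hstep _ g hU0 hsg⟩
        · exact ⟨_, hstep _ _ (hstab _ hU0) (hstep _ g hU0 hsg)⟩
      · refine ⟨1, ?_⟩
        rw [hC1]
        exact Finset.eq_of_subset_of_card_le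
          (fun x hx => Finset.mem_erase.2 ⟨fun h => hap (h ▸ hx), Finset.mem_union_right _ hx⟩)
          (by rw [Finset.card_erase_of_mem ha, hUcard, hpc.card_support])
    have hgood : ∀ h, (C h).support ⊆ U ∨ Disjoint (C h).support U := by
      intro h
      set T := (C h).support with hT
      have hTU : (T ∩ U).card ≤ 3 := (Finset.card_le_card Finset.inter_subset_left).trans (hC3 h).le
      have hmeet : ∀ a ∈ U, ((T ∩ U).erase a).card ≠ 1 := fun a ha => by
        obtain ⟨h', hh'⟩ := hsub a ha
        have := hne1 h h'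
        rwa [← hT, hh', Finset.inter_erase] at this
      rcases Nat.eq_zero_or_pos (T ∩ U).card with h0 | hpos
      · exact Or.inr (Finset.disjoint_iff_inter_eq_empty.2 (Finset.card_eq_zero.1 h0))
      rcases eq_or_ne (T ∩ U).card 3 with h3 | h3
      · exact Or.inl (Finset.inter_eq_left.1 (Finset.eq_of_subset_of_card_le Finset.inter_subset_left
          (by rw [h3, hT, hC3])))
      exfalso
      rcases eq_or_ne (T ∩ U).card 1 with h1 | h1
      · obtain ⟨a, ha, hna⟩ := Finset.exists_mem_notMem_of_card_lt_card
          (show (T ∩ U).card < U.card by omega)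
        exact hmeet a ha (by rw [Finset.erase_eq_of_notMem hna, h1])
      · obtain ⟨a, ha⟩ := Finset.card_pos.1 hpos
        exact hmeet a (Finset.mem_inter.1 ha).2 (by rw [Finset.card_erase_of_mem ha]; omega)
    have h := congrArg Finset.card (huniv U (Finset.card_pos.1 (by omega)) hgood)
    rw [hUcard, Finset.card_univ, Fintype.card_fin] at h
    exact h.symm

end CfsgLib.Solvable.BlockThree
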