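import Mathlib
import Cfsg.Prelude.Def_Transfer
import Cfsg.Agent.Lib.Solvable.BlockThreeMonomial
import Cfsg.Agent.Lib.PGroup.Frattini

/-!
The structure of `R` in the monomial case.
-/

set_option autoImplicit false
set_option linter.style.haveILetI false
open Subgroup
open scoped commutatorElement

namespace CfsgLib.Solvable.BlockThree

variable {G : Type*} [Group G] [Finite G] {W : Type*} [AddCommGroup W] [Module (ZMod 3) W] [Finite W]
variable {σ : G →* Module.End (ZMod 3) W} {R : Subgroup G} {b : G}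
variable {k : ℕ} {π : G →* Equiv.Perm (Fin k)} {e : Fin k → W} {c : G → Fin k → ZMod 3}

/-- A sign pattern with an even number of minus signs. -/
abbrev Even4 {k : ℕ} (f : Fin k → ZMod 3) : Prop := (∀ i, f i = 1 ∨ f i = -1) ∧ ∏ i, f i = 1

/-- An element of the four-group in degree four. -/
abbrev Four (q : Equiv.Perm (Fin 4)) : Prop := q ^ 2 = 1 ∧ Equiv.Perm.sign q = 1

set_option synthInstance.maxSize 5000 in
theorem fact_three : ∀ p q : Equiv.Perm (Fin 3),
    p ^ 3 = 1 → p ≠ 1 → q ^ 2 = 1 → (p * q * p⁻¹ * q) ^ 2 = 1 → q = 1 := by decide +kernel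

theorem fact_eight : ∀ q : Equiv.Perm (Fin 4),
    q ^ 8 = 1 → Equiv.Perm.sign q = 1 → q ^ 2 = 1 := by decide +kernel

set_option synthInstance.maxSize 5000 in
theorem fact_four_gen : ∀ p : Equiv.Perm (Fin 4), p ^ 3 = 1 → p ≠ 1 → ∀ q, Four q → q ≠ 1 →
    ∀ q', Four q' → q' = 1 ∨ q' = q ∨ q' = p * q * p⁻¹ ∨ q' = p * (p * q * p⁻¹) * p⁻¹ := by
  decide +kernel

theorem fact_even : ∀ p : Equiv.Perm (Fin 4), p ^ 3 = 1 → p ≠ 1 → ∀ s, Equiv.Perm.sign s = 1 →
    ∃ q, Four q ∧ (s = q ∨ s = q * p ∨ s = q * (p * p)) := by decide +kernel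

theorem fact_patterns : ∀ f : Fin 4 → ZMod 3, Even4 f → (∃ i j, f i ≠ f j) →
    ∀ f' : Fin 4 → ZMod 3, Even4 f' → (∀ i, f' i = 1) ∨ ∃ s : Equiv.Perm (Fin 4),
      Equiv.Perm.sign s = 1 ∧ ((∀ i, f' i = f (s i)) ∨ ∀ i, f' i = f i * f (s i)) := by
  decide +kernel

theorem fact_faithful : ∀ q : Equiv.Perm (Fin 4), Four q →
    (∀ f : Fin 4 → ZMod 3, Even4 f → ∀ i, f (q i) = f i) → q = 1 := by decide +kernel

theorem fact_const : ∀ q : Equiv.Perm (Fin 4), Four q → ∀ f : Fin 4 → ZMod 3, Even4 f →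
    ∀ i j, f (q i) * f i = f (q j) * f j := by decide +kernel

theorem fact_trans : ∀ i j : Fin 4, ∃ q : Equiv.Perm (Fin 4), Four q ∧ q i = j := by
  decide +kernel

theorem fact_card_three : Fintype.card {f : Fin 3 → ZMod 3 // Even4 f} = 4 := by decide +kernel

theorem fact_card_four : Fintype.card {f : Fin 4 → ZMod 3 // Even4 f} = 8 := by decide +kernel

theorem fact_card_v4 : Fintype.card {q : Equiv.Perm (Fin 4) // Four q} = 4 := by decide +kernel

omit [Finite G] [Finite W] in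
theorem frame_prod (S : Setup σ R b) (F : Frame σ R b k π e c) {x : G} (hx : x ∈ R) :
    Even4 (c x) ∧ Equiv.Perm.sign (π x) = 1 := by
  let χ : G →* ZMod 3 :=
    { toFun := fun g => ∏ i, c g i
      map_one' := Finset.prod_eq_one fun i _ => frame_one F i
      map_mul' := fun g h => by
        simp only [frame_mul F g h, Finset.prod_mul_distrib]
        rw [Equiv.prod_comp (π h) (c g)] }
  have hR : R ≤ _root_.commutator G := by
    rw [← S.comm, _root_.commutator_def]; exact commutator_mono le_top le_top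
  refine ⟨⟨F.sign x, ?_⟩, ?_⟩
  · have h := Abelianization.commutator_subset_ker χ.toHomUnits (hR hx)
    exact congrArg Units.val (MonoidHom.mem_ker.1 h)
  · exact (Abelianization.commutator_subset_ker (Equiv.Perm.sign.comp π) (hR hx) :)

omit [Finite W] in
theorem perm_pow (S : Setup σ R b) (π : G →* Equiv.Perm (Fin k)) {x : G} (hx : x ∈ R) :
    (π x) ^ Nat.gcd (Nat.card R) k.factorial = 1 := by
  refine pow_gcd_eq_one.2 ⟨?_, ?_⟩
  · rw [← map_pow, show x ^ Nat.card R = 1 from ?_, map_one]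
    exact congrArg Subtype.val (pow_card_eq_one' (x := (⟨x, hx⟩ : R)))
  · have h := pow_card_eq_one' (x := π x)
    rwa [Nat.card_perm, Nat.card_fin] at h

omit [Finite W] in
theorem frame_three_result {π : G →* Equiv.Perm (Fin 3)} {e : Fin 3 → W} {c : G → Fin 3 → ZMod 3}
    (S : Setup σ R b) (F : Frame σ R b 3 π e c) {Q : Subgroup G}
    (hQR : Q ≤ R) (hQ4 : Nat.card Q = 4) : R = Q := by
  have hg : Nat.gcd (Nat.card R) (Nat.factorial 3) ∣ 2 := by
    have h1 := Nat.gcd_dvd_right (Nat.card R) (Nat.factorial 3)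
    have h2 : Nat.Coprime (Nat.gcd (Nat.card R) (Nat.factorial 3)) 3 :=
      S.cop.coprime_dvd_left (Nat.gcd_dvd_left _ _)
    exact h2.dvd_of_dvd_mul_left (show _ ∣ 3 * 2 from h1)
  have hsq : ∀ x ∈ R, (π x) ^ 2 = 1 := fun x hx => by
    obtain ⟨m, hm⟩ := hg
    rw [hm, pow_mul, perm_pow S π hx, one_pow]
  have hp3 : π b ^ 3 = 1 := orderOf_dvd_iff_pow_eq_one.1 (dvd_of_eq F.three.orderOf)
  have hker : ∀ x ∈ R, π x = 1 := fun x hx => by
    refine fact_three _ _ hp3 F.three.ne_one (hsq x hx) ?_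
    rw [← map_inv, ← map_mul, ← map_mul, ← map_mul]
    exact hsq _ (mul_mem (S.normal.conj_mem x hx b) hx)
  refine (Subgroup.eq_of_le_of_card_ge hQR ?_).symm
  rw [hQ4, ← fact_card_three, ← Nat.card_eq_fintype_card]
  exact Nat.card_le_card_of_injective
    (fun x : R => (⟨c x, (frame_prod S F x.2).1⟩ : {f : Fin 3 → ZMod 3 // Even4 f}))
    fun x y h => Subtype.ext (frame_ext S F (by rw [hker _ x.2, hker _ y.2])
      fun i => congrFun (congrArg Subtype.val h) i)

omit [Finite W] in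
theorem frame_four_result {π : G →* Equiv.Perm (Fin 4)} {e : Fin 4 → W} {c : G → Fin 4 → ZMod 3}
    (S : Setup σ R b) (F : Frame σ R b 4 π e c) :
    Cfsg.IsExtraspecial 2 R ∧ Nat.card R = 32 ∧
      ∃ A : Subgroup G, A ≤ R ∧ Cfsg.IsElementaryAbelian 2 A ∧ Nat.card A = 8 := by
  classical
  haveI := S.normal
  have hg : Nat.gcd (Nat.card R) (Nat.factorial 4) ∣ 8 := by
    have h1 := Nat.gcd_dvd_right (Nat.card R) (Nat.factorial 4)
    have h2 : Nat.Coprime (Nat.gcd (Nat.card R) (Nat.factorial 4)) 3 :=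
      S.cop.coprime_dvd_left (Nat.gcd_dvd_left _ _)
    exact h2.dvd_of_dvd_mul_left (show _ ∣ 3 * 8 from h1)
  have hev : ∀ x ∈ R, Even4 (c x) := fun x hx => (frame_prod S F hx).1
  have hV : ∀ x ∈ R, Four (π x) := fun x hx => by
    refine ⟨fact_eight _ ?_ (frame_prod S F hx).2, (frame_prod S F hx).2⟩
    obtain ⟨m, hm⟩ := hg
    rw [hm, pow_mul, perm_pow S π hx, one_pow]
  have hp3 : π b ^ 3 = 1 := orderOf_dvd_iff_pow_eq_one.1 (dvd_of_eq F.three.orderOf)
  -- the image of `R` is the whole four-group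
  obtain ⟨y, hy, hy1⟩ : ∃ y ∈ R, π y ≠ 1 := by
    by_contra hcon
    push Not at hcon
    obtain ⟨w, -, hw⟩ := Finset.exists_mem_notMem_of_card_lt_card
      (show (π b).support.card < (Finset.univ : Finset (Fin 4)).card by
        rw [F.three.card_support]; decide)
    obtain ⟨j, hj⟩ : ∃ j : Fin 4, j ≠ w := exists_ne w
    obtain ⟨g, hgj⟩ := F.trans w j
    refine hj (hgj.symm.trans ?_)
    obtain ⟨r, hr, i, rfl⟩ := rep S g
    rw [map_mul, hcon r hr, one_mul, map_zpow]
    exact Equiv.Perm.zpow_apply_eq_self_of_apply_eq_self (Equiv.Perm.notMem_support.1 hw) i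
  have hsurj : ∀ q, Four q → ∃ x ∈ R, π x = q := by
    intro q hq
    have hy' : b * y * b⁻¹ ∈ R := S.normal.conj_mem y hy b
    rcases fact_four_gen _ hp3 F.three.ne_one _ (hV y hy) hy1 q hq with h | h | h | h
    · exact ⟨1, one_mem R, by rw [map_one, h]⟩
    · exact ⟨y, hy, h.symm⟩
    · exact ⟨_, hy', by rw [h, map_mul, map_mul, map_inv]⟩
    · exact ⟨_, S.normal.conj_mem _ hy' b, by rw [h, map_mul, map_mul, map_mul, map_mul, map_inv]⟩
  have heven : ∀ s, Equiv.Perm.sign s = 1 → ∃ g, π g = s := by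
    intro s hs
    obtain ⟨q, hq, hsq⟩ := fact_even _ hp3 F.three.ne_one s hs
    obtain ⟨x, -, rfl⟩ := hsurj q hq
    rcases hsq with h | h | h
    · exact ⟨x, h.symm⟩
    · exact ⟨x * b, by rw [h, map_mul]⟩
    · exact ⟨x * (b * b), by rw [h, map_mul, map_mul]⟩
  -- all patterns occur on the diagonal of `R`
  have hpat : ∀ f, Even4 f → ∃ d ∈ R, π d = 1 ∧ ∀ i, c d i = f i := by
    intro f hf
    obtain ⟨a, haR, ha1, hac⟩ := F.diag
    have hconj : ∀ g j, c (g * a * g⁻¹) j = c a ((π g)⁻¹ j) := by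
      intro g j
      have h := frame_mul F (g * a * g⁻¹) g ((π g)⁻¹ j)
      rw [show g * a * g⁻¹ * g = g * a by group, frame_mul F g a, ha1, Equiv.Perm.one_apply,
        show π g ((π g)⁻¹ j) = j from (π g).apply_symm_apply j] at h
      calc c (g * a * g⁻¹) j
          = c (g * a * g⁻¹) j * (c g ((π g)⁻¹ j) * c g ((π g)⁻¹ j)) := by rw [frame_sq F, mul_one]
        _ = c (g * a * g⁻¹) j * c g ((π g)⁻¹ j) * c g ((π g)⁻¹ j) := (mul_assoc _ _ _).symm
        _ = c g ((π g)⁻¹ j) * c g ((π g)⁻¹ j) * c a ((π g)⁻¹ j) := by rw [← h]; ring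
        _ = c a ((π g)⁻¹ j) := by rw [frame_sq F, one_mul]
    rcases fact_patterns (c a) (hev a haR) hac f hf with h | ⟨s, hs, h⟩
    · exact ⟨1, one_mem R, map_one π, fun i => by rw [frame_one F, h i]⟩
    obtain ⟨g, hgs⟩ := heven s⁻¹ (by rw [map_inv, hs, inv_one])
    have hd : π (g * a * g⁻¹) = 1 := by
      rw [map_mul, map_mul, ha1, mul_one, ← map_mul, mul_inv_cancel, map_one]
    have hcd : ∀ i, c (g * a * g⁻¹) i = c a (s i) := fun i => by rw [hconj, hgs, inv_inv]
    rcases h with h | h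
    · exact ⟨_, S.normal.conj_mem a haR g, hd, fun i => by rw [hcd, h i]⟩
    · refine ⟨a * (g * a * g⁻¹), mul_mem haR (S.normal.conj_mem a haR g),
        by rw [map_mul, ha1, hd, mul_one], fun i => ?_⟩
      rw [frame_mul F, hd, Equiv.Perm.one_apply, hcd, h i]
  have hbij : Function.Bijective (fun x : R =>
      ((⟨π x, hV x x.2⟩, ⟨c x, hev x x.2⟩) :
        {q : Equiv.Perm (Fin 4) // Four q} × {f : Fin 4 → ZMod 3 // Even4 f})) := by
    constructor
    · intro x y h
      simp only [Prod.mk.injEq, Subtype.mk.injEq] at h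
      exact Subtype.ext (frame_ext S F h.1 fun i => congrFun h.2 i)
    · rintro ⟨⟨q, hq⟩, ⟨f, hf⟩⟩
      obtain ⟨x, hx, hxq⟩ := hsurj q hq
      obtain ⟨d, hd, hd1, hdc⟩ := hpat (fun i => c x i * f i) ⟨fun i => by
        show c x i * f i = 1 ∨ c x i * f i = -1
        rcases F.sign x i with h1 | h1 <;> rcases hf.1 i with h2 | h2 <;> rw [h1, h2] <;> decide,
        by rw [Finset.prod_mul_distrib, (hev x hx).2, hf.2, one_mul]⟩
      refine ⟨⟨x * d, mul_mem hx hd⟩, ?_⟩
      simp only [Prod.mk.injEq, Subtype.mk.injEq]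
      refine ⟨by rw [map_mul, hd1, mul_one, hxq], funext fun i => ?_⟩
      rw [frame_mul F, hd1, Equiv.Perm.one_apply, hdc, ← mul_assoc, frame_sq F, one_mul]
  have hcard : Nat.card R = 32 := by
    rw [Nat.card_eq_of_bijective _ hbij, Nat.card_prod, Nat.card_eq_fintype_card,
      Nat.card_eq_fintype_card, fact_card_v4, fact_card_four]
  -- constant diagonal elements are central
  have hconst : ∀ d : G, π d = 1 → (∀ i j, c d i = c d j) → ∀ x, d * x = x * d := by
    intro d hd hdc x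
    refine frame_ext S F (by rw [map_mul, map_mul, hd, one_mul, mul_one]) fun i => ?_
    rw [frame_mul F, frame_mul F, hd, Equiv.Perm.one_apply, hdc (π x i) i, mul_comm]
  have hcen : ∀ z : R, z ∈ center R ↔ π z = 1 ∧ ∀ i j, c z i = c z j := by
    intro z
    refine ⟨fun hz => ?_, fun h => mem_center_iff.2 fun x => Subtype.ext (hconst z h.1 h.2 x).symm⟩
    have hzc : ∀ x ∈ R, (z : G) * x = x * z := fun x hx =>
      (congrArg Subtype.val (mem_center_iff.1 hz ⟨x, hx⟩)).symm
    have h1 : π (z : G) = 1 := fact_faithful _ (hV z z.2) fun f hf i => by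
      obtain ⟨d, hd, hd1, hdc⟩ := hpat f hf
      have h := congrArg (fun g => c g i * c (z : G) i) (hzc d hd)
      simp only [frame_mul F, hd1, Equiv.Perm.one_apply] at h
      rw [mul_comm (c (z : G) i) (c d i), mul_assoc, mul_assoc, frame_sq F, mul_one, mul_one,
        hdc, hdc] at h
      exact h.symm
    refine ⟨h1, fun i j => ?_⟩
    obtain ⟨q, hq, rfl⟩ := fact_trans i j
    obtain ⟨x, hx, rfl⟩ := hsurj q hq
    have h := congrArg (fun g => c g i * c x i) (hzc x hx)
    simp only [frame_mul F, h1, Equiv.Perm.one_apply] at h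
    rw [mul_assoc, frame_sq F, mul_one, mul_comm (c x i) (c (z : G) i), mul_assoc, frame_sq F,
      mul_one] at h
    exact h.symm
  have hcen2 : Nat.card (center R) = 2 := by
    obtain ⟨d, hd, hd1, hdc⟩ := hpat (fun _ => -1) ⟨fun _ => Or.inr rfl, by decide⟩
    have hz : (⟨d, hd⟩ : R) ∈ center R := (hcen _).2 ⟨hd1, fun i j => by rw [hdc, hdc]⟩
    rw [Nat.card_eq_two_iff]
    refine ⟨1, ⟨_, hz⟩, ?_, Set.eq_univ_iff_forall.2 ?_⟩
    · intro h
      have hd' : (1 : G) = d := congrArg Subtype.val (congrArg Subtype.val h)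
      have := hdc 0
      rw [← hd', frame_one F] at this
      exact absurd this (by decide)
    · rintro ⟨⟨z, hzR⟩, hzc⟩
      obtain ⟨h1, h2⟩ := (hcen _).1 hzc
      rw [Set.mem_insert_iff, Set.mem_singleton_iff]
      rcases F.sign z 0 with h | h
      · refine Or.inl (Subtype.ext (Subtype.ext ?_))
        exact frame_ext S F (h1.trans (map_one π).symm) fun i => by rw [h2 i 0, h]; exact (frame_one F i).symm
      · refine Or.inr (Subtype.ext (Subtype.ext ?_))
        exact frame_ext S F (h1.trans hd1.symm) fun i => by rw [h2 i 0, h, hdc]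
  have hsq : ∀ x : R, x * x ∈ center R := fun x => by
    refine (hcen _).2 ⟨?_, fun i j => ?_⟩
    · rw [Subgroup.coe_mul, map_mul, ← pow_two]; exact (hV x x.2).1
    · rw [Subgroup.coe_mul, frame_mul F, frame_mul F]
      exact fact_const _ (hV x x.2) _ (hev x x.2) i j
  have hP : IsPGroup 2 R := IsPGroup.of_card (n := 5) hcard
  have hle : _root_.commutator R ≤ center R := by
    rw [_root_.commutator_def, commutator_le]
    intro x _ y _
    rw [commutatorElement_def, show x * y * x⁻¹ * y⁻¹ = x * x * ((x⁻¹ * y) * (x⁻¹ * y)) * (y * y)⁻¹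
      by group]
    exact mul_mem (mul_mem (hsq x) (hsq _)) (inv_mem (hsq y))
  have hcomm : _root_.commutator R = center R := by
    refine Subgroup.eq_of_le_of_card_ge hle ?_
    rw [hcen2]
    by_contra hlt
    have h1 : Nat.card (_root_.commutator R) = 1 := by
      have := Nat.card_pos (α := _root_.commutator R)
      omega
    have htop : center R = ⊤ := eq_top_iff.2 fun z _ => mem_center_iff.2 fun x => by
      have h := Subgroup.commutator_mem_commutator (mem_top x) (mem_top z)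
      rw [← _root_.commutator_def, Subgroup.card_eq_one.1 h1, mem_bot,
        commutatorElement_eq_one_iff_mul_comm] at h
      exact h
    rw [htop, Subgroup.card_top, hcard] at hcen2
    omega
  refine ⟨⟨⟨hP, ?_, hcomm⟩, hcen2⟩, hcard, ?_⟩
  · refine le_antisymm (CfsgLib.PGroup.frattini_le_of (p := 2) _ hle fun x => ?_) ?_
    · rw [pow_two]; exact hsq x
    · rw [← hcomm]; exact CfsgLib.PGroup.commutator_le_frattini hP
  refine ⟨R ⊓ π.ker, inf_le_left, ⟨⟨⟨fun u v => ?_⟩⟩, fun u hu => ?_⟩, ?_⟩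
  · obtain ⟨u, huR, hu⟩ := u
    obtain ⟨v, hvR, hv⟩ := v
    refine Subtype.ext (frame_ext S F ?_ fun i => ?_)
    · show π (u * v) = π (v * u)
      rw [map_mul, map_mul, MonoidHom.mem_ker.1 hu, MonoidHom.mem_ker.1 hv]
    · show c (u * v) i = c (v * u) i
      rw [frame_mul F, frame_mul F, MonoidHom.mem_ker.1 hu, MonoidHom.mem_ker.1 hv,
        Equiv.Perm.one_apply, mul_comm]
  · rw [pow_two]; exact frame_diag_sq S F (MonoidHom.mem_ker.1 (Subgroup.mem_inf.1 hu).2)
  · rw [← fact_card_four, ← Nat.card_eq_fintype_card]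
    refine Nat.card_eq_of_bijective (fun u : ↥(R ⊓ π.ker) =>
      (⟨c u, hev u (Subgroup.mem_inf.1 u.2).1⟩ : {f : Fin 4 → ZMod 3 // Even4 f})) ⟨?_, ?_⟩
    · intro u v h
      refine Subtype.ext (frame_ext S F ?_ fun i => congrFun (congrArg Subtype.val h) i)
      rw [MonoidHom.mem_ker.1 (Subgroup.mem_inf.1 u.2).2, MonoidHom.mem_ker.1 (Subgroup.mem_inf.1 v.2).2]
    · rintro ⟨f, hf⟩
      obtain ⟨d, hd, hd1, hdc⟩ := hpat f hf
      exact ⟨⟨d, Subgroup.mem_inf.2 ⟨hd, MonoidHom.mem_ker.2 hd1⟩⟩, Subtype.ext (funext hdc)⟩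

end CfsgLib.Solvable.BlockThree
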