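import Mathlib
import Cfsg.Prelude.Def_Transfer
import Cfsg.Agent.Lib.Solvable.BlockThreeBasic
import Cfsg.Agent.Lib.PCore.PSolvable
import Cfsg.Agent.Lib.Spectrum.Solvable
import Cfsg.Agent.Lib.H82.AutFrattini
import Cfsg.Agent.Lib.Coprime.Commutator

/-!
Some elementary abelian normal subgroup inside `R` is moved by `b`.
-/

set_option autoImplicit false
set_option linter.style.haveILetI false
open Subgroup
open scoped commutatorElement

namespace CfsgLib.Solvable.BlockThree

variable {G : Type*} [Group G] [Finite G] {W : Type*} [AddCommGroup W] [Module (ZMod 3) W] [Finite W]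
variable {σ : G →* Module.End (ZMod 3) W} {R : Subgroup G} {b : G}

/-- All elementary abelian normal subgroups inside `R` are centralized by `b`. -/
def NoMoved (R : Subgroup G) (b : G) : Prop :=
  ∀ A : Subgroup G, A.Normal → A ≤ R → ∀ s : ℕ, s.Prime → IsMulCommutative A →
    (∀ a ∈ A, a ^ s = 1) → ∀ a ∈ A, b * a = a * b

theorem odd_bot (S : Setup σ R b) (hno : NoMoved R b) (N : Subgroup G) [N.Normal] (hNR : N ≤ R)
    (hodd : (Nat.card N).Coprime 2) : N = ⊥ := by
  haveI := S.solv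
  by_contra hne
  obtain ⟨V, s, hs, hVn, hVne, hVN, hVc, hVs⟩ :=
    CfsgLib.Spectrum.exists_normal_elementary_le N hne inferInstance
  apply hVne
  rw [Subgroup.eq_bot_iff_forall]
  intro v hv
  have h2 : v ^ 2 = 1 := by
    rw [pow_two]
    exact central_sq S (central S V (hno V hVn (hVN.trans hNR) s hs hVc hVs) hv)
  have hN : v ^ Nat.card N = 1 := congrArg Subtype.val (pow_card_eq_one' (x := (⟨v, hVN hv⟩ : N)))
  have := pow_gcd_eq_one.2 ⟨hN, h2⟩
  rwa [Nat.Coprime.gcd_eq_one hodd, pow_one] at this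

theorem abelian_two_central (S : Setup σ R b) (hno : NoMoved R b) (X : Subgroup G) [X.Normal]
    (hXR : X ≤ R) (hX : IsMulCommutative X) (hX2 : IsPGroup 2 X) : X ≤ center G := by
  refine central S X (fix_of_fix_involutions S.cube hX hX2 fun x hx hxx => ?_)
  have hc : ∀ u ∈ X, ∀ v ∈ X, u * v = v * u := fun u hu v hv =>
    congrArg Subtype.val (hX.1.1 ⟨u, hu⟩ ⟨v, hv⟩)
  let O : Subgroup G :=
    { carrier := {u | u ∈ X ∧ u * u = 1}
      mul_mem' := fun {u v} hu hv => ⟨mul_mem hu.1 hv.1, by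
        rw [mul_assoc, ← mul_assoc v u v, hc v hv.1 u hu.1, mul_assoc, hv.2, mul_one, hu.2]⟩
      one_mem' := ⟨one_mem X, one_mul 1⟩
      inv_mem' := fun {u} hu => ⟨inv_mem hu.1, by rw [← mul_inv_rev, hu.2, inv_one]⟩ }
  have hn : O.Normal := ⟨fun u hu g => ⟨‹X.Normal›.conj_mem u hu.1 g, by
    rw [show g * u * g⁻¹ * (g * u * g⁻¹) = g * (u * u) * g⁻¹ by group, hu.2, mul_one, mul_inv_cancel]⟩⟩
  refine hno O hn (fun u hu => hXR hu.1) 2 Nat.prime_two ?_ (fun a ha => ?_) x ⟨hx, hxx⟩
  · exact ⟨⟨fun u v => Subtype.ext (hc _ u.2.1 _ v.2.1)⟩⟩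
  · rw [pow_two]; exact ha.2

theorem centralizer_two_core (S : Setup σ R b) (hno : NoMoved R b) :
    ∀ x ∈ R, (∀ t ∈ R ⊓ Cfsg.pCore 2 G, t * x = x * t) → x ∈ R ⊓ Cfsg.pCore 2 G := by
  haveI := S.normal
  haveI := S.solv
  have h2 : Fact (Nat.Prime 2) := ⟨Nat.prime_two⟩
  have hbot : Cfsg.pPrimeCore 2 R = ⊥ := by
    haveI : (Cfsg.pPrimeCore 2 G).Normal := sSup_normal _ fun _ h => h.1
    rw [← Subgroup.map_eq_bot_iff_of_injective _ R.subtype_injective,
      CfsgLib.PCore.map_pPrimeCore_subtype_of_normal]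
    exact odd_bot S hno _ inf_le_left (CfsgLib.PCore.pPrimeCore_coprime.coprime_dvd_left
      (card_dvd_of_le inf_le_right))
  intro x hx hcomm
  have hmem : (⟨x, hx⟩ : R) ∈ centralizer (Cfsg.pCore 2 R : Set R) := by
    rw [mem_centralizer_iff]
    intro t ht
    refine Subtype.ext (hcomm t ?_)
    rw [← CfsgLib.PCore.map_pCore_subtype_of_normal]
    exact ⟨t, ht, rfl⟩
  have := CfsgLib.PCore.centralizer_pCore_le
    (CfsgLib.PCore.isPSolvable_of_isSolvable (p := 2) (G := R)) hbot hmem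
  rw [← CfsgLib.PCore.map_pCore_subtype_of_normal]
  exact ⟨⟨x, hx⟩, this, rfl⟩

theorem comm_central (S : Setup σ R b) (hno : NoMoved R b) (T : Subgroup G) [T.Normal]
    (hTR : T ≤ R) (hT : IsPGroup 2 T) : ⁅T, T⁆ ≤ center G := by
  classical
  have h2 : Fact (Nat.Prime 2) := ⟨Nat.prime_two⟩
  have hTT : ⁅T, T⁆ ≤ T := commutator_le_left T T
  suffices h : ∀ D : Subgroup G, D.Normal → D ≤ ⁅T, T⁆ → D ≤ center G from
    h _ inferInstance le_rfl
  intro D
  induction D using WellFoundedLT.induction with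
  | ind D ih =>
    intro hDn hDT
    by_cases hD : D = ⊥
    · rw [hD]; exact bot_le
    have hlt : ⁅D, T⁆ < D := CfsgLib.Coprime.commutator_lt_of_isPGroup
      (hT.to_le (hDT.trans hTT)) hT (by rw [normalizer_eq_top]; exact le_top) hD
    have hDc : ⁅D, T⁆ ≤ center G := ih _ hlt inferInstance (hlt.le.trans hDT)
    have hb : ⁅⁅D, T⁆, T⁆ = ⊥ := by
      rw [commutator_eq_bot_iff_le_centralizer]
      exact hDc.trans (center_le_centralizer _)
    have h3 : ⁅⁅T, T⁆, D⁆ = ⊥ :=
      commutator_commutator_eq_bot_of_rotate (by rw [commutator_comm T D, hb]) hb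
    rw [commutator_eq_bot_iff_le_centralizer] at h3
    refine abelian_two_central S hno D ((hDT.trans hTT).trans hTR) ⟨⟨fun u v => Subtype.ext ?_⟩⟩
      (hT.to_le (hDT.trans hTT))
    exact (mem_centralizer_iff.1 (h3 (hDT u.2)) v v.2).symm

theorem square_central (S : Setup σ R b) (hno : NoMoved R b) (T : Subgroup G) [T.Normal]
    (hTR : T ≤ R) (hT : IsPGroup 2 T) : ∀ x ∈ T, x * x ∈ center G := by
  intro x hx
  have hX : (T ⊓ centralizer (T : Set G)) ≤ center G := by
    haveI : IsMulCommutative (↥(T ⊓ centralizer (T : Set G))) := ⟨⟨fun u v => Subtype.ext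
      ((mem_centralizer_iff.1 (Subgroup.mem_inf.1 u.2).2 v (Subgroup.mem_inf.1 v.2).1).symm)⟩⟩
    exact abelian_two_central S hno _ (inf_le_left.trans hTR) inferInstance (hT.to_le inf_le_left)
  refine hX (Subgroup.mem_inf.2 ⟨mul_mem hx hx, mem_centralizer_iff.2 fun y hy => ?_⟩)
  set c := ⁅x, y⁆ with hc
  have hcz : c ∈ center G := comm_central S hno T hTR hT (commutator_mem_commutator hx hy)
  have hxy : x * y = c * y * x := by rw [hc, commutatorElement_def]; group
  calc y * (x * x) = (c * c) * (y * (x * x)) := by rw [central_sq S hcz, one_mul]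
    _ = c * (c * y * x) * x := by group
    _ = c * (x * y) * x := by rw [hxy]
    _ = x * (c * y * x) := by rw [← mul_assoc c x y, ← mem_center_iff.1 hcz x]; group
    _ = x * (x * y) := by rw [hxy]
    _ = x * x * y := (mul_assoc _ _ _).symm

theorem exists_conj_sq_ne (S : Setup σ R b) (hno : NoMoved R b) (T : Subgroup G) [T.Normal]
    (hTR : T ≤ R) (hT : IsPGroup 2 T) (hne : ∃ x ∈ T, b * x ≠ x * b) :
    ∃ x ∈ T, (b * x * b⁻¹ * x⁻¹) * (b * x * b⁻¹ * x⁻¹) ≠ 1 := by
  by_contra hcon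
  push Not at hcon
  set f := MulAut.conj b with hf
  have hfT : ∀ x ∈ T, f x ∈ T := fun x hx => ‹T.Normal›.conj_mem x hx b
  have hfz : ∀ z ∈ center G, f z = z := fun z hz => by
    rw [hf, MulAut.conj_apply, mem_center_iff.1 hz b, mul_inv_cancel_right]
  have hcom : ∀ x ∈ T, f x * x = x * f x := by
    intro x hx
    set y := f x with hy
    have h1 : y * x⁻¹ * (y * x⁻¹) = 1 := hcon x hx
    have h2 : y * y = x * x := by
      rw [hy, ← map_mul, hfz _ (square_central S hno T hTR hT x hx)]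
    have h3 : y * x⁻¹ = x * y⁻¹ := by
      rw [eq_inv_of_mul_eq_one_right h1]; group
    have h4 : y⁻¹ = y * (x * x)⁻¹ := by rw [← h2]; group
    rw [h4] at h3
    calc y * x = y * x⁻¹ * (x * x) := by group
      _ = x * (y * (x * x)⁻¹) * (x * x) := by rw [h3]
      _ = x * y := by group
  set C := fun u v : G => u * v * u⁻¹ * v⁻¹ with hC
  have hCc : ∀ u ∈ T, ∀ v ∈ T, C u v ∈ center G := fun u hu v hv =>
    comm_central S hno T hTR hT (commutator_mem_commutator hu hv)
  have hsw : ∀ u v : G, u * v = C u v * (v * u) := fun u v => by simp only [hC]; group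
  have hpol : ∀ x ∈ T, ∀ y ∈ T, C y (f x) = C (f y) x := by
    intro x hx y hy
    have h := hcom (x * y) (mul_mem hx hy)
    rw [map_mul] at h
    have c1 := hCc y hy _ (hfT x hx)
    have c2 := hCc _ (hfT y hy) x hx
    have e1 : x * y * (f x * f y) = C y (f x) * ((x * f x) * (y * f y)) := by
      calc x * y * (f x * f y) = x * (y * f x) * f y := by group
        _ = x * C y (f x) * (f x * y) * f y := by rw [hsw y (f x)]; group
        _ = C y (f x) * x * (f x * y) * f y := by rw [mem_center_iff.1 c1 x]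
        _ = C y (f x) * ((x * f x) * (y * f y)) := by group
    have e2 : f x * f y * (x * y) = C (f y) x * ((f x * x) * (f y * y)) := by
      calc f x * f y * (x * y) = f x * (f y * x) * y := by group
        _ = f x * C (f y) x * (x * f y) * y := by rw [hsw (f y) x]; group
        _ = C (f y) x * f x * (x * f y) * y := by rw [mem_center_iff.1 c2 (f x)]
        _ = C (f y) x * ((f x * x) * (f y * y)) := by group
    rw [e1, e2, hcom x hx, hcom y hy] at h
    exact (mul_right_cancel h).symm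
  obtain ⟨y, hy, hyb⟩ := hne
  set d := y⁻¹ * f (f y) with hd
  have hdT : d ∈ T := mul_mem (inv_mem hy) (hfT _ (hfT _ hy))
  have hdc : d ∈ center G := by
    haveI : IsMulCommutative (↥(T ⊓ centralizer (T : Set G))) := ⟨⟨fun u v => Subtype.ext
      ((mem_centralizer_iff.1 (Subgroup.mem_inf.1 u.2).2 v (Subgroup.mem_inf.1 v.2).1).symm)⟩⟩
    refine abelian_two_central S hno (T ⊓ centralizer (T : Set G)) (inf_le_left.trans hTR)
      inferInstance (hT.to_le inf_le_left) (Subgroup.mem_inf.2 ⟨hdT, mem_centralizer_iff.2 fun x hx => ?_⟩)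
    have hcc := hCc y hy x hx
    have heq : C (f (f y)) x = C y x := by
      rw [← hpol x hx (f y) (hfT y hy), show C (f y) (f x) = f (C y x) by simp only [hC, map_mul, map_inv],
        hfz _ hcc]
    have hyx : y⁻¹ * x = C y x * (x * y⁻¹) := by
      calc y⁻¹ * x = y⁻¹ * (x * y) * y⁻¹ := by group
        _ = y⁻¹ * ((C y x)⁻¹ * (y * x)) * y⁻¹ := by rw [hsw y x, inv_mul_cancel_left]
        _ = (C y x)⁻¹ * (y⁻¹ * (y * x)) * y⁻¹ := by rw [← mul_assoc, mem_center_iff.1 (inv_mem hcc) y⁻¹, mul_assoc _ y⁻¹]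
        _ = (C y x)⁻¹ * (x * y⁻¹) := by group
        _ = C y x * (x * y⁻¹) := by rw [inv_eq_of_mul_eq_one_right (central_sq S hcc)]
    rw [hd]
    calc x * (y⁻¹ * f (f y)) = (C y x * C y x) * (x * y⁻¹) * f (f y) := by
            rw [central_sq S hcc, one_mul, mul_assoc]
      _ = C y x * (y⁻¹ * x) * f (f y) := by rw [hyx, mul_assoc (C y x)]
      _ = y⁻¹ * C y x * x * f (f y) := by rw [← mul_assoc, ← mem_center_iff.1 hcc y⁻¹]
      _ = y⁻¹ * (C y x * (x * f (f y))) := by group
      _ = y⁻¹ * f (f y) * x := by rw [← heq, ← hsw, mul_assoc]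
  have hffy : f (f y) = y * d := by rw [hd, mul_inv_cancel_left]
  have hf3 : f (f (f y)) = y := by
    rw [hf, ← MulAut.mul_apply, ← MulAut.mul_apply, ← map_mul, ← map_mul, S.cube, map_one,
      MulAut.one_apply]
  have hfy : y = f y * d := by
    conv_lhs => rw [← hf3, hffy, map_mul, hfz _ hdc]
  have hffy2 : f y = f (f y) * d := by
    conv_lhs => rw [hfy, map_mul, hfz _ hdc]
  have hfix : f y = y := by rw [hffy2, hffy, mul_assoc, central_sq S hdc, mul_one]
  refine hyb ?_
  rw [hf, MulAut.conj_apply] at hfix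
  conv_rhs => rw [← hfix, inv_mul_cancel_right]

theorem finrank_le_four (S : Setup σ R b) {x : G}
    (hsq : (b * x * b⁻¹ * x⁻¹) * (b * x * b⁻¹ * x⁻¹) ∈ center G)
    (hne : (b * x * b⁻¹ * x⁻¹) * (b * x * b⁻¹ * x⁻¹) ≠ 1) :
    Module.finrank (ZMod 3) W ≤ 4 := by
  set t := b * x * b⁻¹ * x⁻¹ with ht
  have htt : σ (t * t) = -1 := (central_sign S hsq).resolve_left fun h =>
    hne (S.inj (h.trans (map_one σ).symm))
  have hinj : Function.Injective (σ t - 1 : Module.End (ZMod 3) W) := by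
    rw [← LinearMap.ker_eq_bot, LinearMap.ker_eq_bot']
    intro v hv
    rw [LinearMap.sub_apply, Module.End.one_apply, sub_eq_zero] at hv
    by_contra hv0
    refine neg_ne v hv0 ?_
    calc -v = σ (t * t) v := by rw [htt]; rfl
      _ = v := by rw [act, hv, hv]
  have hle : LinearMap.range (σ t - 1 : Module.End (ZMod 3) W) ≤
      LinearMap.range (σ b - 1) ⊔ (LinearMap.range (σ b - 1)).map (σ x) := by
    rintro _ ⟨v, rfl⟩
    set w := σ b⁻¹ (σ x⁻¹ v) with hw
    refine Submodule.mem_sup.2 ⟨(σ b - 1) (σ x w), ⟨_, rfl⟩, σ x ((σ b - 1) (-w)),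
      ⟨_, ⟨_, rfl⟩, rfl⟩, ?_⟩
    have hv : σ x (σ b w) = v := by
      rw [hw, ← act b b⁻¹, mul_inv_cancel, act_one, ← act, mul_inv_cancel, act_one]
    have ht' : σ t v = σ b (σ x w) := by rw [ht, act, act, act, ← hw]
    simp only [LinearMap.sub_apply, Module.End.one_apply, map_neg, map_sub, hv, ht']
    abel
  calc Module.finrank (ZMod 3) W = Module.finrank (ZMod 3) (LinearMap.range (σ t - 1)) :=
        (LinearMap.finrank_range_of_inj hinj).symm
    _ ≤ _ := Submodule.finrank_mono hle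
    _ ≤ Module.finrank (ZMod 3) (LinearMap.range (σ b - 1)) +
        Module.finrank (ZMod 3) ((LinearMap.range (σ b - 1)).map (σ x)) :=
        Submodule.finrank_add_le_finrank_add_finrank _ _
    _ ≤ 2 + 2 := Nat.add_le_add S.rank ((Submodule.finrank_map_le _ _).trans S.rank)

theorem gl_card_dvd : ∀ d : ℕ, d ≤ 4 →
    (∏ i : Fin d, (3 ^ d - 3 ^ (i : ℕ))) ∣ 3 ^ 6 * (2 ^ 9 * 5 * 13) := by
  intro d hd
  interval_cases d <;> decide

theorem card_dvd (S : Setup σ R b) (hd : Module.finrank (ZMod 3) W ≤ 4) :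
    Nat.card R ∣ 2 ^ 9 * 5 * 13 := by
  haveI : Fact (Nat.Prime 3) := ⟨Nat.prime_three⟩
  set d := Module.finrank (ZMod 3) W with hdd
  have hinj : Function.Injective σ.toHomUnits := fun g h e =>
    S.inj (congrArg Units.val e)
  let eq : (Module.End (ZMod 3) W)ˣ ≃* GL (Fin d) (ZMod 3) :=
    Units.mapEquiv (LinearMap.toMatrixAlgEquiv (Module.finBasis (ZMod 3) W)).toMulEquiv
  have hG : Nat.card G ∣ Nat.card (GL (Fin d) (ZMod 3)) :=
    Subgroup.card_dvd_of_injective (eq.toMonoidHom.comp σ.toHomUnits) (eq.injective.comp hinj)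
  rw [Matrix.card_GL_field, ZMod.card] at hG
  have hdvd : Nat.card R ∣ 3 ^ 6 * (2 ^ 9 * 5 * 13) := by
    refine (card_subgroup_dvd_card R).trans (hG.trans ?_)
    exact gl_card_dvd d hd
  exact (Nat.Coprime.pow_right 6 S.cop).dvd_of_dvd_mul_left hdvd

theorem no_thirteen (S : Setup σ R b) (hno : NoMoved R b) (hR : Nat.card R ∣ 2 ^ 9 * 5 * 13) :
    ¬ 13 ∣ Nat.card R := by
  haveI := S.normal
  intro h13
  haveI : Fact (Nat.Prime 13) := ⟨by norm_num⟩
  haveI : Fact (Nat.Prime 2) := ⟨Nat.prime_two⟩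
  obtain ⟨y, hy⟩ := exists_prime_orderOf_dvd_card' 13 h13
  set T := R ⊓ Cfsg.pCore 2 G with hT
  haveI : (Cfsg.pCore 2 G).Normal := sSup_normal _ fun _ h => h.1
  have hTn : T.Normal := inferInstance
  have hT2 : IsPGroup 2 T := (CfsgLib.PCore.pCore_isPGroup).to_le inf_le_right
  have hcomm : ∀ t ∈ T, t * (y : G) = y * t := by
    obtain ⟨n, hn⟩ := hT2.exists_card_eq
    obtain ⟨r, hr⟩ := hT2.index (frattini T)
    have hn9 : n ≤ 9 := by
      have h1 : 2 ^ n ∣ 2 ^ 9 * (5 * 13) := by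
        rw [← hn, ← mul_assoc]; exact (card_dvd_of_le inf_le_left).trans hR
      exact (Nat.pow_dvd_pow_iff_le_right (by norm_num)).1
        ((Nat.Coprime.pow_left n (by norm_num)).dvd_of_dvd_mul_right h1)
    have hrn : r ≤ n := (Nat.pow_dvd_pow_iff_le_right (by norm_num)).1
      (hr ▸ hn ▸ index_dvd_card (frattini T))
    have haut : ¬ 13 ∣ Nat.card (MulAut T) := fun h => by
      have h' := h.trans (CfsgLib.AutFrattini82.card_aut_dvd hn hr)
      rcases (Nat.Prime.dvd_mul (by norm_num)).1 h' with h1 | h1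
      · exact absurd (Nat.Prime.dvd_of_dvd_pow (by norm_num) h1) (by norm_num)
      · have hr9 : r ≤ 9 := hrn.trans hn9
        revert h1
        interval_cases r <;> decide
    let φ := (MulAut.conjNormal (H := T)).comp (zpowers (y : G)).subtype
    have hone : φ ⟨y, mem_zpowers _⟩ = 1 := by
      by_contra hne
      apply haut
      have ho : orderOf (φ ⟨y, mem_zpowers _⟩) = 13 := by
        refine ((Nat.dvd_prime (by norm_num)).1 ?_).resolve_left fun h => hne (orderOf_eq_one_iff.1 h)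
        refine (orderOf_map_dvd φ _).trans ?_
        rw [Subgroup.orderOf_mk, Subgroup.orderOf_coe, hy]
      rw [← ho]
      exact orderOf_dvd_natCard _
    intro t ht
    have := congrArg Subtype.val (DFunLike.congr_fun hone ⟨t, ht⟩)
    change (y : G) * t * (y : G)⁻¹ = t at this
    conv_lhs => rw [← this, inv_mul_cancel_right]
  have hyT := centralizer_two_core S hno y y.2 hcomm
  obtain ⟨k, hk⟩ := hT2 ⟨y, hyT⟩
  have hdvd : 13 ∣ 2 ^ k := by
    rw [← hy, orderOf_dvd_iff_pow_eq_one]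
    exact Subtype.ext (by rw [Subgroup.coe_pow]; exact congrArg Subtype.val hk)
  exact absurd ((Fact.out : Nat.Prime 13).dvd_of_dvd_pow hdvd) (by norm_num)

theorem five_cube : ∀ a : ZMod 5, a * a * a = 1 → a = 1 := by decide

/-- A finite group with a central subgroup of prime order and two-power index has a normal
two-subgroup covering the quotient. -/
theorem normal_sylow_of_central {K : Type*} [Group K] [Finite K] {V : Subgroup K}
    (hV : V ≤ center K) {n : ℕ} (hidx : V.index = 2 ^ n) (hodd : (Nat.card V).Coprime 2) :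
    ∃ P : Subgroup K, P.Characteristic ∧ IsPGroup 2 P ∧ V ⊔ P = ⊤ := by
  haveI : Fact (Nat.Prime 2) := ⟨Nat.prime_two⟩
  obtain ⟨P⟩ : Nonempty (Sylow 2 K) := inferInstance
  have htop : V ⊔ (P : Subgroup K) = ⊤ := by
    rw [← index_eq_one]
    have h1 : (V ⊔ (P : Subgroup K)).index ∣ 2 ^ n := hidx ▸ index_dvd_of_le le_sup_left
    exact Nat.eq_one_of_dvd_coprimes (Nat.Coprime.pow_left n
      ((Nat.prime_two.coprime_iff_not_dvd).2 P.not_dvd_index)) h1 (index_dvd_of_le le_sup_right)
  have hn : (P : Subgroup K).Normal := by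
    rw [← normalizer_eq_top_iff, ← top_le_iff, ← htop]
    exact sup_le ((hV.trans (center_le_centralizer _)).trans (centralizer_le_normalizer _))
      le_normalizer
  exact ⟨P, P.characteristic_of_normal hn, P.isPGroup', htop⟩

/-- Some elementary abelian normal subgroup inside `R` is moved by `b`. -/
theorem exists_moved (S : Setup σ R b) (Q : Subgroup G) (hQR : Q ≤ R)
    (hQ : Cfsg.IsElementaryAbelian 2 Q) (hbQ : b ∈ Subgroup.normalizer (Q : Set G))
    (hQb : ∃ q ∈ Q, b * q ≠ q * b) : ¬ NoMoved R b := by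
  intro hno
  haveI := S.normal
  haveI := S.solv
  haveI h2 : Fact (Nat.Prime 2) := ⟨Nat.prime_two⟩
  haveI : (Cfsg.pCore 2 G).Normal := sSup_normal _ fun _ h => h.1
  set T := R ⊓ Cfsg.pCore 2 G with hT
  have hTR : T ≤ R := inf_le_left
  haveI hTn : T.Normal := inferInstance
  have hT2 : IsPGroup 2 T := (CfsgLib.PCore.pCore_isPGroup).to_le inf_le_right
  obtain ⟨q0, hq0, hq0b⟩ := hQb
  have hne : ∃ x ∈ T, b * x ≠ x * b := by
    by_contra hcon
    push Not at hcon
    have hc : T ≤ center G := central S T hcon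
    exact hq0b (hcon q0 (centralizer_two_core S hno q0 (hQR hq0) fun t ht =>
      (mem_center_iff.1 (hc ht) q0).symm))
  obtain ⟨x, hx, hxne⟩ := exists_conj_sq_ne S hno T hTR hT2 hne
  have hxsq := square_central S hno T hTR hT2 (b * x * b⁻¹ * x⁻¹)
    (mul_mem (hTn.conj_mem x hx b) (inv_mem hx))
  have hcard := card_dvd S (finrank_le_four S hxsq hxne)
  have h13 := no_thirteen S hno hcard
  have hcard5 : Nat.card R ∣ 2 ^ 9 * 5 :=
    (((Nat.Prime.coprime_iff_not_dvd (p := 13) (by norm_num)).2 h13).symm).dvd_of_dvd_mul_right hcard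
  have hRT : R ≤ T := by
    by_contra hnot
    set π := QuotientGroup.mk' T with hπ
    have hπs : Function.Surjective π := QuotientGroup.mk'_surjective T
    set Rb := R.map π with hRb
    haveI : Rb.Normal := S.normal.map π hπs
    have hRbne : Rb ≠ ⊥ := by
      rw [hRb, Ne, Subgroup.map_eq_bot_iff, hπ, QuotientGroup.ker_mk']; exact hnot
    haveI : Group.IsSolvable (G ⧸ T) := solvable_of_surjective hπs
    obtain ⟨V, s, hs, hVn, hVne, hVR, hVc, hVs⟩ :=
      CfsgLib.Spectrum.exists_normal_elementary_le Rb hRbne inferInstance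
    haveI := hVn
    have hcomap : ∀ P : Subgroup (G ⧸ T), P.Normal → P ≤ Rb → IsPGroup 2 P → P = ⊥ := by
      intro P hPn hPR hP
      have hle : P.comap π ≤ R := by
        refine (comap_mono hPR).trans ?_
        rw [hRb, comap_map_eq, hπ, QuotientGroup.ker_mk']; exact sup_le le_rfl hTR
      have h : P.comap π ≤ T := le_inf hle (CfsgLib.PCore.le_pCore (hPn.comap π)
        (CfsgLib.PCore.isPGroup_comap_mk' hT2 hP))
      rw [← map_comap_eq_self_of_surjective hπs P, Subgroup.map_eq_bot_iff, hπ, QuotientGroup.ker_mk']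
      exact h
    haveI : Fact s.Prime := ⟨hs⟩
    have hVp : IsPGroup s V := fun v => ⟨1, Subtype.ext (by
      rw [pow_one, Subgroup.coe_pow]; exact hVs v v.2)⟩
    have hRbcard : Nat.card Rb ∣ 2 ^ 9 * 5 := (Subgroup.card_map_dvd R π).trans hcard5
    obtain ⟨n, hn⟩ := hVp.exists_card_eq
    have hn0 : n ≠ 0 := fun h => hVne (Subgroup.card_eq_one.1 (by rw [hn, h, pow_zero]))
    have hsn : s ^ n ∣ 2 ^ 9 * 5 := hn ▸ (card_dvd_of_le hVR).trans hRbcard
    have hs5 : s = 5 := by
      rcases (Nat.Prime.dvd_mul hs).1 ((dvd_pow_self s hn0).trans hsn) with h | h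
      · have := (Nat.prime_dvd_prime_iff_eq hs Nat.prime_two).1 (hs.dvd_of_dvd_pow h)
        subst this
        exact absurd (hcomap V hVn hVR hVp) hVne
      · exact (Nat.prime_dvd_prime_iff_eq hs (by norm_num)).1 h
    subst hs5
    have hn1 : n = 1 := by
      have h := (Nat.pow_dvd_pow_iff_le_right (x := 5) (by norm_num)).1
        ((Nat.Coprime.pow n 9 (by norm_num : Nat.Coprime 5 2)).dvd_of_dvd_mul_left hsn |>.trans
          (pow_one 5).symm.dvd)
      omega
    rw [hn1, pow_one] at hn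
    obtain ⟨v, hv, hv1⟩ := V.ne_bot_iff_exists_ne_one.1 hVne |> fun ⟨v, h⟩ =>
      (⟨v, v.2, fun h' => h (Subtype.ext h')⟩ : ∃ v ∈ V, v ≠ 1)
    have hgen : ∀ w ∈ V, w ∈ zpowers v := fun w hw => by
      have := mem_zpowers_of_prime_card hn (g := (⟨v, hv⟩ : V)) (g' := ⟨w, hw⟩)
        (fun h => hv1 (congrArg Subtype.val h))
      obtain ⟨i, hi⟩ := mem_zpowers_iff.1 this
      exact mem_zpowers_iff.2 ⟨i, congrArg Subtype.val hi⟩
    set B := π b with hB
    have hB3 : B * B * B = 1 := by rw [hB, ← map_mul, ← map_mul, S.cube, map_one]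
    have hBv : B * v * B⁻¹ = v := by
      obtain ⟨m, hm⟩ := mem_zpowers_iff.1 (hgen _ (hVn.conj_mem v hv B))
      have e1 : MulAut.conj B v = v ^ m := hm.symm
      have e3 : v ^ (m * m * m) = v ^ (1 : ℤ) := by
        rw [zpow_one]
        conv_rhs => rw [show v = MulAut.conj (B * B * B) v by rw [hB3, map_one, MulAut.one_apply]]
        rw [map_mul, map_mul, MulAut.mul_apply, MulAut.mul_apply, e1, map_zpow, e1, map_zpow,
          map_zpow, e1, ← zpow_mul, ← zpow_mul, mul_assoc]
      have ho : orderOf v = 5 := orderOf_eq_prime (hVs v hv) hv1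
      rw [zpow_eq_zpow_iff_modEq, ho, ← ZMod.intCast_eq_intCast_iff, Int.cast_mul, Int.cast_mul,
        Int.cast_one] at e3
      have hm1 : (m : ZMod 5) = 1 :=
        five_cube _ e3
      rw [← hm]
      conv_rhs => rw [← zpow_one v]
      rw [zpow_eq_zpow_iff_modEq, ho, ← ZMod.intCast_eq_intCast_iff, hm1, Int.cast_one]
    have hcent : V ≤ center (G ⧸ T) := by
      have hb : b ∈ (centralizer (V : Set (G ⧸ T))).comap π := by
        rw [mem_comap, mem_centralizer_iff]
        intro w hw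
        obtain ⟨i, rfl⟩ := mem_zpowers_iff.1 (hgen w hw)
        have hBc : Commute B v := by
          rw [Commute, SemiconjBy]
          calc B * v = B * v * B⁻¹ * B := by group
            _ = v * B := by rw [hBv]
        exact ((hBc.zpow_right i).eq).symm
      have htop := normal_eq_top S _ hb
      intro w hw
      rw [mem_center_iff]
      intro g
      obtain ⟨g, rfl⟩ := hπs g
      have : g ∈ (centralizer (V : Set (G ⧸ T))).comap π := htop ▸ mem_top g
      exact (mem_centralizer_iff.1 (mem_comap.1 this) w hw).symm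
    have hVc' : V.subgroupOf Rb ≤ center Rb := fun w hw => mem_center_iff.2 fun u =>
      Subtype.ext (mem_center_iff.1 (hcent hw) u)
    have hcardV : Nat.card (V.subgroupOf Rb) = 5 := by
      rw [Nat.card_congr (subgroupOfEquivOfLe hVR).toEquiv, hn]
    obtain ⟨n2, -, hn2⟩ : ∃ m ≤ 9, (V.subgroupOf Rb).index = 2 ^ m := by
      rw [← Nat.dvd_prime_pow Nat.prime_two]
      refine Nat.dvd_of_mul_dvd_mul_left (by norm_num : 0 < 5) ?_
      rw [← hcardV, card_mul_index, hcardV, mul_comm 5]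
      exact hRbcard
    obtain ⟨P, hPc, hP2, hPtop⟩ := normal_sylow_of_central hVc' hn2 (by rw [hcardV]; norm_num)
    have hPbot : P.map Rb.subtype = ⊥ :=
      hcomap _ ConjAct.normal_of_characteristic_of_normal (map_subtype_le _) (hP2.map _)
    rw [Subgroup.map_eq_bot_iff_of_injective _ Rb.subtype_injective] at hPbot
    rw [hPbot, sup_bot_eq, subgroupOf_eq_top] at hPtop
    apply hnot
    have hRc : R.map π ≤ center (G ⧸ T) := hPtop.trans hcent
    rw [← S.comm, commutator_le]
    intro r hr z hz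
    rw [← QuotientGroup.eq_one_iff]
    change π ⁅r, z⁆ = 1
    rw [map_commutatorElement, commutatorElement_eq_one_iff_mul_comm]
    exact (mem_center_iff.1 (hRc ⟨r, hr, rfl⟩) (π z)).symm
  -- now `R = T` and `Q` together with the centre is moved
  set Z := R ⊓ center G with hZ
  haveI : Z.Normal := inferInstance
  set A := Q ⊔ Z with hA
  have hAR : A ≤ R := sup_le hQR inf_le_left
  have hAn : A.Normal := ⟨fun a ha g => by
    obtain ⟨q, hq, z, hz, rfl⟩ := mem_sup_of_normal_right.1 ha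
    obtain ⟨r, hr, i, rfl⟩ := rep S g
    have hq' : b ^ i * q * (b ^ i)⁻¹ ∈ Q := (mem_normalizer_iff.1 (zpow_mem hbQ i) q).1 hq
    have hcz : ⁅r, b ^ i * q * (b ^ i)⁻¹⁆ ∈ Z := Subgroup.mem_inf.2
      ⟨hTR (commutator_le_left T T (commutator_mem_commutator (hRT hr) (hRT (hQR hq')))),
        comm_central S hno T hTR hT2 (commutator_mem_commutator (hRT hr) (hRT (hQR hq')))⟩
    have hzc := Subgroup.mem_inf.1 hz
    have e : r * b ^ i * (q * z) * (r * b ^ i)⁻¹ =
        ⁅r, b ^ i * q * (b ^ i)⁻¹⁆ * (b ^ i * q * (b ^ i)⁻¹) * z := by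
      calc r * b ^ i * (q * z) * (r * b ^ i)⁻¹
          = r * b ^ i * q * (z * (r * b ^ i)⁻¹) := by group
        _ = r * b ^ i * q * ((r * b ^ i)⁻¹ * z) := by rw [← mem_center_iff.1 hzc.2]
        _ = _ := by rw [commutatorElement_def]; group
    rw [e]
    exact mul_mem (mul_mem (mem_sup_right hcz) (mem_sup_left hq')) (mem_sup_right hz)⟩
  have hAc : IsMulCommutative A := by
    refine ⟨⟨fun u v => Subtype.ext ?_⟩⟩
    obtain ⟨q, hq, z, hz, hu⟩ := mem_sup_of_normal_right.1 u.2
    obtain ⟨q', hq', z', hz', hv⟩ := mem_sup_of_normal_right.1 v.2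
    change (u : G) * v = v * u
    rw [← hu, ← hv]
    have e1 : q * q' = q' * q := congrArg Subtype.val (hQ.1.1.1 ⟨q, hq⟩ ⟨q', hq'⟩)
    have e2 : ∀ g, Commute z g := fun g => (mem_center_iff.1 (Subgroup.mem_inf.1 hz).2 g).symm
    have e3 : ∀ g, Commute z' g := fun g => (mem_center_iff.1 (Subgroup.mem_inf.1 hz').2 g).symm
    exact ((Commute.mul_right e1 (e3 q).symm).mul_left ((e2 q').mul_right (e2 z')) ).eq
  refine hq0b (hno A hAn hAR 2 Nat.prime_two hAc (fun a ha => ?_) q0 (mem_sup_left hq0))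
  obtain ⟨q, hq, z, hz, rfl⟩ := mem_sup_of_normal_right.1 ha
  have hzc := (Subgroup.mem_inf.1 hz).2
  rw [(Commute.symm (show Commute z q from (mem_center_iff.1 hzc q).symm)).mul_pow, hQ.2 q hq,
    one_mul, pow_two, central_sq S hzc]

end CfsgLib.Solvable.BlockThree
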