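import Mathlib
import Cfsg.Prelude.Def_Transfer
import Cfsg.Agent.Lib.Solvable.BlockThreeFrame
import Cfsg.Agent.Lib.Solvable.BlockThreeTwoCase
import Cfsg.Agent.Lib.LargeExtra.Transport

/-!
From a solvable group acting on a space over the field with three elements to the irreducible
situation.
-/

set_option autoImplicit false
set_option linter.style.haveILetI false
open Subgroup
open scoped commutatorElement

namespace CfsgLib.Solvable.BlockThree

variable {S : Type*} [Group S] [Finite S] {E : Type*} [AddCommGroup E] [Module (ZMod 3) E] [Finite E]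

/-- The four-group on which `b` acts. -/
theorem four_group (Q : Subgroup S) (hQ : Cfsg.IsElementaryAbelian 2 Q) (hQ4 : Nat.card Q = 4)
    {b : S} (hb3 : b * b * b = 1) (hbQ : b ∈ Subgroup.normalizer (Q : Set S))
    (hQb : ∃ q ∈ Q, b * q ≠ q * b) :
    ∃ q0 q1 q2 : S, q0 ∈ Q ∧ b * q0 * b⁻¹ = q1 ∧ b * q1 * b⁻¹ = q2 ∧ b * q2 * b⁻¹ = q0 ∧
      q0 * q1 = q2 ∧ (∀ q ∈ Q, q = 1 ∨ q = q0 ∨ q = q1 ∨ q = q2) ∧
      (∀ q ∈ Q, ∃ x ∈ Q, q = b * x * b⁻¹ * x⁻¹) := by
  classical
  obtain ⟨q0, hq0, hq0b⟩ := hQb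
  set q1 := b * q0 * b⁻¹ with hq1
  set q2 := b * q1 * b⁻¹ with hq2
  have h1 : q1 ∈ Q := (mem_normalizer_iff.1 hbQ q0).1 hq0
  have h2 : q2 ∈ Q := (mem_normalizer_iff.1 hbQ q1).1 h1
  have h3 : b * q2 * b⁻¹ = q0 := by
    rw [hq2, hq1, show b * (b * (b * q0 * b⁻¹) * b⁻¹) * b⁻¹ =
      (b * b * b) * q0 * (b * b * b)⁻¹ by group, hb3, one_mul, inv_one, mul_one]
  have n01 : q1 ≠ q0 := fun h => hq0b (by
    calc b * q0 = b * q0 * b⁻¹ * b := by group
      _ = q0 * b := by rw [← hq1, h])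
  have n12 : q2 ≠ q1 := fun h => n01 (by
    rw [hq2] at h
    nth_rewrite 2 [hq1] at h
    exact mul_left_cancel (mul_right_cancel h))
  have n02 : q2 ≠ q0 := fun h => n01 (by rw [h] at h3; exact h3)
  have e0 : q0 ≠ 1 := fun h => hq0b (by rw [h, mul_one, one_mul])
  have e1 : q1 ≠ 1 := fun h => e0 (conj_eq_one_iff.1 (hq1 ▸ h))
  have e2 : q2 ≠ 1 := fun h => e1 (conj_eq_one_iff.1 (hq2 ▸ h))
  have hall : ∀ q ∈ Q, q = 1 ∨ q = q0 ∨ q = q1 ∨ q = q2 := by
    intro q hq
    letI := Fintype.ofFinite Q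
    have hs : ({⟨1, one_mem Q⟩, ⟨q0, hq0⟩, ⟨q1, h1⟩, ⟨q2, h2⟩} : Finset Q) = Finset.univ := by
      refine Finset.eq_univ_of_card _ ?_
      rw [← Nat.card_eq_fintype_card, hQ4, Finset.card_insert_of_notMem, Finset.card_insert_of_notMem,
        Finset.card_insert_of_notMem, Finset.card_singleton] <;>
        simp [Subtype.ext_iff, e0.symm, e1.symm, e2.symm, n01.symm, n02.symm, n12.symm]
    have := hs ▸ Finset.mem_univ (⟨q, hq⟩ : Q)
    simpa [Subtype.ext_iff] using this
  have hsq : ∀ q ∈ Q, q * q = 1 := fun q hq => by rw [← pow_two]; exact hQ.2 q hq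
  have h012 : q0 * q1 = q2 := by
    rcases hall _ (mul_mem hq0 h1) with h | h | h | h
    · exact absurd (by rw [← inv_eq_of_mul_eq_one_right h, inv_eq_of_mul_eq_one_right (hsq q0 hq0)]) n01
    · exact absurd (mul_eq_left.1 h) e1
    · exact absurd (mul_eq_right.1 h) e0
    · exact h
  refine ⟨q0, q1, q2, hq0, rfl, rfl, h3, h012, hall, fun q hq => ?_⟩
  have i0 : q0⁻¹ = q0 := inv_eq_of_mul_eq_one_right (hsq q0 hq0)
  have i1 : q1⁻¹ = q1 := inv_eq_of_mul_eq_one_right (hsq q1 h1)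
  have i2 : q2⁻¹ = q2 := inv_eq_of_mul_eq_one_right (hsq q2 h2)
  rcases hall q hq with rfl | rfl | rfl | rfl
  · exact ⟨1, one_mem Q, by group⟩
  · refine ⟨q1, h1, ?_⟩
    rw [← hq2, ← h012, mul_assoc, mul_inv_cancel, mul_one]
  · refine ⟨q2, h2, ?_⟩
    rw [h3, i2, ← h012, ← mul_assoc, hsq q0 hq0, one_mul]
  · refine ⟨q0, hq0, ?_⟩
    rw [← hq1, i0]
    refine h012.symm.trans ?_
    exact congrArg Subtype.val (hQ.1.1.1 ⟨q0, hq0⟩ ⟨q1, h1⟩)

/-- `Q` lies in the core prime to three. -/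
theorem four_le_core [Group.IsSolvable S] (Q : Subgroup S) (hQ : Cfsg.IsElementaryAbelian 2 Q)
    (b : S) (P : Sylow 3 S) (hbP : ∀ x ∈ (P : Subgroup S), b * x = x * b)
    (hQc : ∀ q ∈ Q, ∃ x ∈ Q, q = b * x * b⁻¹ * x⁻¹) : Q ≤ Cfsg.pPrimeCore 3 S := by
  haveI : Fact (Nat.Prime 3) := ⟨Nat.prime_three⟩
  haveI hKn : (Cfsg.pPrimeCore 3 S).Normal := sSup_normal _ fun _ h => h.1
  set π := QuotientGroup.mk' (Cfsg.pPrimeCore 3 S) with hπ
  have hπs : Function.Surjective π := QuotientGroup.mk'_surjective _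
  haveI : Group.IsSolvable (S ⧸ Cfsg.pPrimeCore 3 S) := solvable_of_surjective hπs
  set L := Cfsg.pCore 3 (S ⧸ Cfsg.pPrimeCore 3 S) with hL
  haveI : L.Normal := sSup_normal _ fun _ h => h.1
  have hc : π b ∈ centralizer (L : Set (S ⧸ Cfsg.pPrimeCore 3 S)) := by
    rw [mem_centralizer_iff]
    intro l hl
    obtain ⟨x, hx, rfl⟩ := CfsgLib.PCore.pCore_le_sylow (P.mapSurjective hπs) hl
    rw [← map_mul, ← map_mul, hbP x hx]
  have hbL : π b ∈ L := CfsgLib.PCore.centralizer_pCore_le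
    (CfsgLib.PCore.isPSolvable_of_isSolvable (p := 3)) CfsgLib.PCore.pPrimeCore_quotient_pPrimeCore hc
  intro q hq
  obtain ⟨x, hx, rfl⟩ := hQc q hq
  have hmem : π (b * x * b⁻¹ * x⁻¹) ∈ L := by
    rw [show b * x * b⁻¹ * x⁻¹ = b * (x * b⁻¹ * x⁻¹) by group, map_mul, map_mul, map_mul, map_inv,
      map_inv]
    exact mul_mem hbL ((inferInstance : L.Normal).conj_mem _ (inv_mem hbL) (π x))
  obtain ⟨k, hk⟩ := CfsgLib.PCore.pCore_isPGroup (p := 3) ⟨_, hmem⟩
  have h2 : π (b * x * b⁻¹ * x⁻¹) ^ 2 = 1 := by rw [← map_pow, hQ.2 _ hq, map_one]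
  have h3 : π (b * x * b⁻¹ * x⁻¹) ^ 3 ^ k = 1 := congrArg Subtype.val hk
  have := pow_gcd_eq_one.2 ⟨h2, h3⟩
  rw [Nat.Coprime.gcd_eq_one (Nat.Coprime.pow_right k (by norm_num)), pow_one] at this
  exact (QuotientGroup.eq_one_iff _).1 this

/-- Translation of the irreducible situation to subgroups of `S`. -/
theorem structure_of_setup {W : Type*} [AddCommGroup W] [Module (ZMod 3) W] [Finite W]
    {G : Type*} [Group G] [Finite G] {σ : G →* Module.End (ZMod 3) W} {R : Subgroup G} {b : G}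
    (hS : Setup σ R b) (Q : Subgroup G) (hQR : Q ≤ R) (hQ : Cfsg.IsElementaryAbelian 2 Q)
    (hQ4 : Nat.card Q = 4) (hbQ : b ∈ Subgroup.normalizer (Q : Set G))
    (hQb : ∃ q ∈ Q, b * q ≠ q * b)
    (hline : ∃ u : W, u ≠ 0 ∧ ∀ g ∈ centralizer (Q : Set G), ∃ c : ZMod 3, σ g u = c • u) :
    (Cfsg.IsElementaryAbelian 2 R ∧ Nat.card R = 4) ∨
      (Cfsg.IsExtraspecial 2 R ∧ Nat.card R = 32 ∧
        ∃ A : Subgroup G, A ≤ R ∧ Cfsg.IsElementaryAbelian 2 A ∧ Nat.card A = 8) := by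
  have h := exists_moved hS Q hQR hQ hbQ hQb
  simp only [NoMoved, not_forall] at h
  obtain ⟨A, hAn, hAR, s, hs, hAc, hAs, a, ha, hab⟩ := h
  obtain ⟨k, π, e, c, F⟩ := exists_frame hS hAR hs
    (fun x hx y hy => congrArg Subtype.val (hAc.1.1 ⟨x, hx⟩ ⟨y, hy⟩)) hAs ⟨a, ha, hab⟩ hQR hline
  rcases frame_card hS F with rfl | rfl
  · obtain rfl := frame_three_result hS F hQR hQ4
    exact Or.inl ⟨hQ, hQ4⟩
  · exact Or.inr (frame_four_result hS F)

theorem sign_prod : ∀ i : Fin 3,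
    (if i = 1 then (1 : ZMod 3) else -1) * (if i = 0 then (1 : ZMod 3) else -1) =
      (if i = 2 then (1 : ZMod 3) else -1) := by decide

theorem sign_sum : ∀ i j : Fin 3,
    1 + (if i = 0 then (1 : ZMod 3) else -1) * (if j = 0 then (1 : ZMod 3) else -1) +
        (if i = 1 then (1 : ZMod 3) else -1) * (if j = 1 then (1 : ZMod 3) else -1) +
        (if i = 2 then (1 : ZMod 3) else -1) * (if j = 2 then (1 : ZMod 3) else -1) =
      (if i = j then (1 : ZMod 3) else 0) := by decide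

theorem two_ne : (2 : ZMod 3) ≠ 0 := by decide

theorem module_structure [Group.IsSolvable S] (ρ : Representation (ZMod 3) S E)
    (hfaith : Function.Injective ρ) (b : S) (hb : Nat.card (zpowers b) = 3)
    (E₀ E₁ : Submodule (ZMod 3) E) (hE01 : E₀ ⊔ E₁ = ⊤) (hE1 : ∀ v ∈ E₁, ρ b v = v)
    (hE0inv : ∀ v ∈ E₀, ρ b v ∈ E₀) (hE0 : Nat.card E₀ = 27)
    (hind : ∃ v ∈ E₀, ρ b (ρ b v - v) - (ρ b v - v) ≠ 0)
    (Q : Subgroup S) (hQ : Cfsg.IsElementaryAbelian 2 Q) (hQ4 : Nat.card Q = 4)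
    (hbQ : b ∈ Subgroup.normalizer (Q : Set S)) (hQb : ∃ q ∈ Q, b * q ≠ q * b)
    (P : Sylow 3 S) (hbP : ∀ x ∈ (P : Subgroup S), b * x = x * b) :
    let R := ⁅Cfsg.pPrimeCore 3 S, zpowers b⁆
    ((Cfsg.IsElementaryAbelian 2 R ∧ Nat.card R = 4) ∨
      (Cfsg.IsExtraspecial 2 R ∧ Nat.card R = 32 ∧
        ∃ A : Subgroup S, A ≤ R ∧ Cfsg.IsElementaryAbelian 2 A ∧ Nat.card A = 8)) ∧
    ∃ F₀ F₁ : Submodule (ZMod 3) E, F₀ ⊓ F₁ = ⊥ ∧ F₀ ⊔ F₁ = ⊤ ∧
      (∀ r ∈ R, ∀ v ∈ F₁, ρ r v = v) ∧ (∀ r ∈ R ⊔ zpowers b, ∀ v ∈ F₀, ρ r v ∈ F₀) ∧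
      (∀ r ∈ R ⊔ zpowers b, (∀ v ∈ F₀, ρ r v = v) → r = 1) ∧
      (∀ N : Submodule (ZMod 3) E, N ≤ F₀ → (∀ r ∈ R ⊔ zpowers b, ∀ v ∈ N, ρ r v ∈ N) →
        N = ⊥ ∨ N = F₀) := by
  classical
  intro R
  haveI : Fact (Nat.Prime 3) := ⟨Nat.prime_three⟩
  have hb3 : b * b * b = 1 := by
    rw [← pow_two, ← pow_succ, show 2 + 1 = Nat.card (zpowers b) from hb.symm,
      Nat.card_zpowers, pow_orderOf_eq_one]
  obtain ⟨q0, q1, q2, hq0, c01, c12, c20, h012, hall, hQc⟩ := four_group Q hQ hQ4 hb3 hbQ hQb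
  have hQK := four_le_core Q hQ b P hbP hQc
  set K := Cfsg.pPrimeCore 3 S with hK
  haveI : K.Normal := sSup_normal _ fun _ h => h.1
  have hBn : zpowers b ≤ Subgroup.normalizer (R : Set S) :=
    CfsgLib.Coprime.le_normalizer_commutator_right K (zpowers b)
  have hRK : R ≤ K := commutator_le_left K (zpowers b)
  have hRcop : (Nat.card R).Coprime 3 :=
    CfsgLib.PCore.pPrimeCore_coprime.coprime_dvd_left (card_dvd_of_le hRK)
  have hRR : ⁅R, zpowers b⁆ = R := CfsgLib.Coprime.commutator_commutator_eq (zpowers b) K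
    (by rw [normalizer_eq_top]; exact le_top)
    (by rw [hb]; exact CfsgLib.PCore.pPrimeCore_coprime.symm) (Or.inr inferInstance)
  have hQR : Q ≤ R := fun q hq => by
    obtain ⟨x, hx, rfl⟩ := hQc q hq
    have h := inv_mem (commutator_mem_commutator (hQK hx) (mem_zpowers b) : ⁅x, b⁆ ∈ R)
    rwa [commutatorElement_def, show (x * b * x⁻¹ * b⁻¹)⁻¹ = b * x * b⁻¹ * x⁻¹ by group] at h
  have hbR : b ∉ R := fun h => by
    have h3 : 3 ∣ Nat.card R := hb ▸ card_dvd_of_le (zpowers_le.2 h)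
    exact absurd (Nat.eq_one_of_dvd_coprimes hRcop h3 dvd_rfl) (by norm_num)
  have hG : R ⊔ zpowers b ≤ Subgroup.normalizer (R : Set S) := sup_le le_normalizer hBn
  -- the action
  have hact : ∀ g h : S, ∀ v, ρ (g * h) v = ρ g (ρ h v) := fun g h v => by rw [map_mul]; rfl
  have hone : ∀ v, ρ 1 v = v := fun v => by rw [map_one]; rfl
  have hinv : ∀ g : S, ∀ v, ρ g⁻¹ (ρ g v) = v := fun g v => by rw [← hact, inv_mul_cancel, hone]
  have hginj : ∀ g, Function.Injective (ρ g) := fun g =>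
    Function.LeftInverse.injective (g := ρ g⁻¹) (hinv g)
  -- the averaging map
  letI := Fintype.ofFinite R
  have hn : IsUnit ((Nat.card R : ℕ) : ZMod 3) := (ZMod.isUnit_iff_coprime _ _).2 hRcop
  obtain ⟨avg, havg⟩ : ∃ avg : E →ₗ[ZMod 3] E, ∀ v, avg v = ∑ r : R, ρ (r : S) v :=
    ⟨∑ r : R, ρ (r : S), fun v => LinearMap.sum_apply _ _ _⟩
  have avg_inv : ∀ r ∈ R, ∀ v, avg (ρ r v) = avg v := fun r hr v => by
    rw [havg, havg]
    exact Fintype.sum_equiv (Equiv.mulRight (⟨r, hr⟩ : R)) _ _ fun x => (hact _ _ v).symm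
  have avg_fix : ∀ r ∈ R, ∀ v, ρ r (avg v) = avg v := fun r hr v => by
    rw [havg, map_sum]
    exact Fintype.sum_equiv (Equiv.mulLeft (⟨r, hr⟩ : R)) _ _ fun x => (hact _ _ v).symm
  have avg_of_fix : ∀ v, (∀ r ∈ R, ρ r v = v) → avg v = (Nat.card R : ZMod 3) • v := fun v hv => by
    rw [havg, Finset.sum_congr rfl fun (r : R) _ => hv r r.2, Finset.sum_const, Finset.card_univ,
      ← Nat.card_eq_fintype_card, Nat.cast_smul_eq_nsmul]
  have avg_comm : ∀ g ∈ R ⊔ zpowers b, ∀ v, avg (ρ g v) = ρ g (avg v) := fun g hg v => by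
    rw [havg, havg, map_sum]
    have hgn := hG hg
    refine Fintype.sum_equiv
      { toFun := fun r : R => (⟨g⁻¹ * r * g, by
          have := (mem_normalizer_iff.1 (inv_mem hgn) r).1 r.2
          rwa [inv_inv] at this⟩ : R)
        invFun := fun r => ⟨g * r * g⁻¹, (mem_normalizer_iff.1 hgn r).1 r.2⟩
        left_inv := fun r => Subtype.ext (by
          show g * (g⁻¹ * (r : S) * g) * g⁻¹ = r
          group)
        right_inv := fun r => Subtype.ext (by
          show g⁻¹ * (g * (r : S) * g⁻¹) * g = r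
          group) } _ _ fun r => ?_
    simp only [Equiv.coe_fn_mk]
    rw [← hact, ← hact]
    congr 2
    group
  let F1 : Submodule (ZMod 3) E :=
    { carrier := {v | ∀ r ∈ R, ρ r v = v}
      add_mem' := fun {x y} hx hy r hr => by rw [map_add, hx r hr, hy r hr]
      zero_mem' := fun r _ => map_zero _
      smul_mem' := fun k {x} hx r hr => by rw [map_smul, hx r hr] }
  let F0 := LinearMap.ker avg
  have hF01 : F0 ⊓ F1 = ⊥ := by
    rw [Submodule.eq_bot_iff]
    intro v hv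
    have h := LinearMap.mem_ker.1 hv.1
    rw [avg_of_fix v hv.2, smul_eq_zero] at h
    exact h.resolve_left hn.ne_zero
  have hFtop : F0 ⊔ F1 = ⊤ := by
    rw [eq_top_iff]
    intro v _
    obtain ⟨w, hw⟩ : ∃ w, (Nat.card R : ZMod 3) • w = avg v :=
      ⟨(Nat.card R : ZMod 3)⁻¹ • avg v, by rw [smul_smul, mul_inv_cancel₀ hn.ne_zero, one_smul]⟩
    have hw1 : w ∈ F1 := fun r hr => by
      have := congrArg (ρ r) hw
      rw [map_smul, avg_fix r hr v, ← hw] at this
      exact smul_right_injective E hn.ne_zero this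
    refine Submodule.mem_sup.2 ⟨v - w, ?_, w, hw1, sub_add_cancel v w⟩
    rw [LinearMap.mem_ker, map_sub, avg_of_fix w hw1, hw, sub_self]
  have hF0inv : ∀ g ∈ R ⊔ zpowers b, ∀ v ∈ F0, ρ g v ∈ F0 := fun g hg v hv => by
    rw [LinearMap.mem_ker, avg_comm g hg, LinearMap.mem_ker.1 hv, map_zero]
  have hsub0 : ∀ r ∈ R, ∀ v, v - ρ r v ∈ F0 := fun r hr v => by
    rw [LinearMap.mem_ker, map_sub, avg_inv r hr, sub_self]
  -- the range of `b - 1`
  set β : Module.End (ZMod 3) E := ρ b - 1 with hβ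
  have hβv : ∀ v, β v = ρ b v - v := fun v => rfl
  have hβE0 : ∀ v, β v ∈ E₀ := fun v => by
    obtain ⟨x, hx, y, hy, rfl⟩ := Submodule.mem_sup.1 (hE01 ▸ Submodule.mem_top : v ∈ E₀ ⊔ E₁)
    rw [hβv, map_add, hE1 y hy, add_sub_add_right_eq_sub]
    exact Submodule.sub_mem _ (hE0inv x hx) hx
  obtain ⟨v0, hv0, hv0n⟩ := hind
  have hβ3 : ∀ v, β (β (β v)) = 0 := fun v => by
    have h3 : ρ b (ρ b (ρ b v)) = v := by rw [← hact, ← hact, hb3, hone]
    simp only [hβv, map_sub, h3]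
    have e : ∀ x : E, x + x + x = 0 := fun x => by
      rw [← two_smul (ZMod 3) x]
      nth_rewrite 2 [← one_smul (ZMod 3) x]
      rw [← add_smul, show (2 : ZMod 3) + 1 = 0 from rfl, zero_smul]
    calc v - ρ b (ρ b v) - (ρ b (ρ b v) - ρ b v) - (ρ b (ρ b v) - ρ b v - (ρ b v - v))
        = (ρ b v + ρ b v + ρ b v) - (ρ b (ρ b v) + ρ b (ρ b v) + ρ b (ρ b v)) := by abel
      _ = 0 := by rw [e, e, sub_zero]
  have hrank : Module.finrank (ZMod 3) (LinearMap.range β) ≤ 2 := by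
    have hlt : LinearMap.range β < E₀ := by
      refine lt_of_le_of_ne (by rintro _ ⟨v, rfl⟩; exact hβE0 v) fun h => hv0n ?_
      obtain ⟨w, hw⟩ : v0 ∈ LinearMap.range β := h ▸ hv0
      show β (β v0) = 0
      rw [← hw, hβ3]
    have h3 : Module.finrank (ZMod 3) E₀ = 3 := by
      have h := Module.natCard_eq_pow_finrank (K := ZMod 3) (V := E₀)
      rw [hE0, Nat.card_zmod, show (27 : ℕ) = 3 ^ 3 from rfl] at h
      exact (Nat.pow_right_injective (le_refl 2 |>.trans (by norm_num)) h).symm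
    have := Submodule.finrank_lt_finrank_of_lt hlt
    omega
  -- the sign spaces of `Q`
  have hq1 : q1 ∈ Q := c01 ▸ (mem_normalizer_iff.1 hbQ q0).1 hq0
  have hq2 : q2 ∈ Q := c12 ▸ (mem_normalizer_iff.1 hbQ q1).1 hq1
  have hQcomm : ∀ x ∈ Q, ∀ y ∈ Q, x * y = y * x := fun x hx y hy =>
    congrArg Subtype.val (hQ.1.1.1 ⟨x, hx⟩ ⟨y, hy⟩)
  have hsq : ∀ x ∈ Q, x * x = 1 := fun x hx => by rw [← pow_two]; exact hQ.2 x hx
  have hbmove : ∀ x y : S, b * x * b⁻¹ = y → ∀ v, ρ b (ρ x v) = ρ y (ρ b v) := fun x y h v => by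
    rw [← h, ← hact, ← hact, inv_mul_cancel_right]
  let U : Fin 3 → E → Prop := fun i v =>
    ρ q0 v = (if i = 0 then (1 : ZMod 3) else -1) • v ∧ ρ q1 v = (if i = 1 then (1 : ZMod 3) else -1) • v
  let proj : Fin 3 → E →ₗ[ZMod 3] E := fun i =>
    1 + (if i = 0 then (1 : ZMod 3) else -1) • ρ q0 + (if i = 1 then (1 : ZMod 3) else -1) • ρ q1 +
      (if i = 2 then (1 : ZMod 3) else -1) • ρ q2
  have h2v : ∀ i v, U i v → ρ q2 v = (if i = 2 then (1 : ZMod 3) else -1) • v := by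
    intro i v hv
    rw [← h012, hact, hv.2, map_smul, hv.1, smul_smul]
    congr 1
    exact sign_prod i
  have hproj : ∀ i j v, U j v → proj i v = (if i = j then (1 : ZMod 3) else 0) • v := by
    intro i j v hv
    simp only [proj, LinearMap.add_apply, LinearMap.smul_apply, Module.End.one_apply, hv.1, hv.2,
      h2v j v hv, smul_smul]
    nth_rewrite 1 [← one_smul (ZMod 3) v]
    rw [← add_smul, ← add_smul, ← add_smul]
    congr 1
    exact sign_sum i j
  have hprojmem : ∀ i v, U i (proj i v) := by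
    intro i v
    have m01 : q1 * q0 = q2 := by rw [hQcomm q1 hq1 q0 hq0, h012]
    have m02 : q0 * q2 = q1 := by rw [← h012, ← mul_assoc, hsq q0 hq0, one_mul]
    have m12 : q1 * q2 = q0 := by rw [← h012, hQcomm q0 hq0 q1 hq1, ← mul_assoc, hsq q1 hq1, one_mul]
    constructor <;>
      (simp only [proj, LinearMap.add_apply, LinearMap.smul_apply, Module.End.one_apply, map_add,
          map_smul, ← hact, hsq q0 hq0, hsq q1 hq1, hone, h012, m01, m02, m12, smul_add, smul_smul]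
       fin_cases i <;> simp <;> abel)
  have hsplit : ∀ v, v - (proj 0 v + proj 1 v + proj 2 v) = v + ρ q0 v + ρ q1 v + ρ q2 v := by
    intro v
    have e3 : (v + v + v) = (0 : E) := by
      rw [← two_smul (ZMod 3) v]
      nth_rewrite 2 [← one_smul (ZMod 3) v]
      rw [← add_smul, show (2 : ZMod 3) + 1 = 0 from rfl, zero_smul]
    simp only [proj, LinearMap.add_apply, LinearMap.smul_apply, Module.End.one_apply]
    simp
    linear_combination (norm := abel) (-1 : ℤ) • e3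
  have hCfix : ∀ v, ∀ q ∈ Q, ρ q (v + ρ q0 v + ρ q1 v + ρ q2 v) = v + ρ q0 v + ρ q1 v + ρ q2 v := by
    intro v q hq
    have m01 : q1 * q0 = q2 := by rw [hQcomm q1 hq1 q0 hq0, h012]
    have m02 : q0 * q2 = q1 := by rw [← h012, ← mul_assoc, hsq q0 hq0, one_mul]
    have m12 : q1 * q2 = q0 := by rw [← h012, hQcomm q0 hq0 q1 hq1, ← mul_assoc, hsq q1 hq1, one_mul]
    have m20 : q2 * q0 = q1 := by rw [hQcomm q2 hq2 q0 hq0, m02]
    have m21 : q2 * q1 = q0 := by rw [hQcomm q2 hq2 q1 hq1, m12]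
    rcases hall q hq with rfl | rfl | rfl | rfl
    · exact hone _
    · simp only [map_add, ← hact, hsq _ hq0, hone, h012, m02]; abel
    · simp only [map_add, ← hact, hsq _ hq1, hone, m01, m12]; abel
    · simp only [map_add, ← hact, hsq _ hq2, hone, m20, m21]; abel
  -- a nonzero line
  have hshift : ∀ i v, U i v → U (i + 1) (ρ b v) := by
    intro i v hv
    refine ⟨?_, ?_⟩
    · rw [← hbmove q2 q0 c20, h2v i v hv, map_smul]
      congr 1
      fin_cases i <;> rfl
    · rw [← hbmove q0 q1 c01, hv.1, map_smul]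
      congr 1
      fin_cases i <;> rfl
  have hQfaith : ∃ v, ∃ i, proj i v ≠ 0 := by
    by_contra hcon
    push Not at hcon
    have hne : q0 ≠ 1 := fun h => by
      have h1 : q1 = 1 := by rw [← c01, h, mul_one, mul_inv_cancel]
      have h2' : q2 = 1 := by rw [← h012, h, h1, one_mul]
      obtain ⟨q, hq, hqb⟩ := hQb
      rcases hall q hq with e | e | e | e <;>
        exact hqb (by simp [e, h, h1, h2'])
    refine hne (hfaith (LinearMap.ext fun v => ?_))
    rw [hone]
    have := hsplit v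
    rw [hcon v 0, hcon v 1, hcon v 2, add_zero, add_zero, sub_zero] at this
    have h := hCfix v q0 hq0
    rwa [← this] at h
  obtain ⟨w, i, hwi⟩ := hQfaith
  obtain ⟨x0, hx0, hx0n⟩ : ∃ x0, U 0 x0 ∧ x0 ≠ 0 := by
    have hm := hprojmem i w
    fin_cases i
    · exact ⟨_, hm, hwi⟩
    · exact ⟨_, hshift 2 _ (hshift 1 _ hm), fun h => hwi (hginj b (hginj b (by
        rw [h, map_zero, map_zero])))⟩
    · exact ⟨_, hshift 2 _ hm, fun h => hwi (hginj b (h.trans (map_zero _).symm))⟩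
  have hx1 : U 1 (ρ b x0) := hshift 0 x0 hx0
  have hx2 : U 2 (ρ b (ρ b x0)) := hshift 1 _ hx1
  set p := β x0 with hp
  set bp := β (ρ b x0) with hbp
  have hli : LinearIndependent (ZMod 3) ![p, bp] := by
    rw [LinearIndependent.pair_iff]
    intro c d hcd
    have h0 := congrArg (proj 0) hcd
    have h2 := congrArg (proj 2) hcd
    simp only [hp, hbp, hβv, map_add, map_smul, map_sub, map_zero, hproj _ _ _ hx0, hproj _ _ _ hx1,
      hproj _ _ _ hx2] at h0 h2
    simp at h0 h2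
    refine ⟨h0.resolve_right hx0n, h2.resolve_right fun h => hx0n (hginj b (hginj b ?_))⟩
    rw [h, map_zero, map_zero]
  have hrange : ∀ v, ∃ c d : ZMod 3, β v = c • p + d • bp := by
    intro v
    have hsub : Submodule.span (ZMod 3) (Set.range ![p, bp]) ≤ LinearMap.range β := by
      rw [Submodule.span_le]
      rintro _ ⟨k, rfl⟩
      fin_cases k
      · exact ⟨x0, rfl⟩
      · exact ⟨ρ b x0, rfl⟩
    have heq := Submodule.eq_of_le_of_finrank_le hsub (by
      rw [finrank_span_eq_card hli, Fintype.card_fin]; exact hrank)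
    have hmem : β v ∈ Submodule.span (ZMod 3) (Set.range ![p, bp]) := by
      rw [heq]; exact ⟨v, rfl⟩
    rw [Matrix.range_cons, Matrix.range_cons, Matrix.range_empty, Set.union_empty,
      Set.singleton_union, Submodule.mem_span_pair] at hmem
    obtain ⟨c, d, h⟩ := hmem
    exact ⟨c, d, h.symm⟩
  have hline : ∀ x, U 0 x → ∃ c : ZMod 3, x = c • x0 := by
    intro x hx
    obtain ⟨c, d, hcd⟩ := hrange x
    refine ⟨c, ?_⟩
    have h := congrArg (proj 0) hcd
    simp only [hp, hbp, hβv, map_add, map_smul, map_sub, hproj _ _ _ hx, hproj _ _ _ hx0,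
      hproj _ _ _ hx1, hproj _ _ _ hx2, hproj _ _ _ (hshift 0 x hx)] at h
    simpa using h
  have hCb : ∀ v, (∀ q ∈ Q, ρ q v = v) → ρ b v = v := by
    intro v hv
    obtain ⟨c, d, hcd⟩ := hrange v
    have hbv : ∀ q ∈ Q, ρ q (ρ b v) = ρ b v := by
      intro q hq
      obtain ⟨y, hy, rfl⟩ : ∃ y ∈ Q, b * y * b⁻¹ = q := ⟨b⁻¹ * q * b, by
        have := (mem_normalizer_iff.1 (inv_mem hbQ) q).1 hq
        rwa [inv_inv] at this, by group⟩
      rw [← hbmove y _ rfl, hv y hy]
    have hz : ∀ u, (∀ q ∈ Q, ρ q u = u) → ∀ k, proj k u = 0 := by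
      intro u hu k
      simp only [proj, LinearMap.add_apply, LinearMap.smul_apply, Module.End.one_apply, hu q0 hq0,
        hu q1 hq1, hu q2 hq2]
      fin_cases k <;> simp
    have h0 := (congrArg (proj 0) hcd).symm
    have h2 := (congrArg (proj 2) hcd).symm
    simp only [hβv, map_sub, hz _ hbv, hz _ hv, hp, hbp, map_add, map_smul, hproj _ _ _ hx0,
      hproj _ _ _ hx1, hproj _ _ _ hx2] at h0 h2
    simp at h0 h2
    have hd : d = 0 := h2.resolve_right fun h => hx0n (hginj b (hginj b (by rw [h, map_zero, map_zero])))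
    rw [h0.resolve_right hx0n, hd, zero_smul, zero_smul, add_zero, hβv, sub_eq_zero] at hcd
    exact hcd
  have hU0 : ∀ k v, U k v → v ∈ F0 := by
    intro k v hv
    obtain ⟨q, hq, hqv⟩ : ∃ q ∈ Q, ρ q v = -v := by
      by_cases hk : k = 0
      · refine ⟨q1, hq1, ?_⟩; rw [hv.2, hk]; simp
      · refine ⟨q0, hq0, ?_⟩; rw [hv.1, if_neg hk, neg_smul, one_smul]
    have h := hsub0 q (hQR hq) v
    rw [hqv, sub_neg_eq_add, ← two_smul (ZMod 3) v] at h
    exact (Submodule.smul_mem_iff _ two_ne).1 h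
  have hirred : ∀ N : Submodule (ZMod 3) E, N ≤ F0 →
      (∀ g ∈ R ⊔ zpowers b, ∀ v ∈ N, ρ g v ∈ N) → N = ⊥ ∨ N = F0 := by
    intro N hN hinvN
    by_cases hbot : N = ⊥
    · exact Or.inl hbot
    right
    have hbG : b ∈ R ⊔ zpowers b := mem_sup_right (mem_zpowers b)
    obtain ⟨v, hvN, hv⟩ : ∃ v ∈ N, β v ≠ 0 := by
      by_contra hcon
      push Not at hcon
      apply hbot
      rw [Submodule.eq_bot_iff]
      intro v hv
      have hR : ∀ r ∈ R, ∀ u ∈ N, ρ r u = u := by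
        intro r hr
        rw [← hRR] at hr
        induction hr using closure_induction with
        | mem y hy =>
          obtain ⟨g, hg, z, hz, rfl⟩ := hy
          have hzN : ∀ i : ℤ, ∀ u ∈ N, ρ (b ^ i) u = u := by
            intro i u hu
            induction i with
            | zero => rw [zpow_zero, hone]
            | succ n ih => rw [zpow_add_one, hact, (show ρ b u = u from sub_eq_zero.1 ((hβv u).symm.trans (hcon u hu))), ih]
            | pred n ih =>
              rw [zpow_sub_one, hact]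
              nth_rewrite 1 [← (show ρ b u = u from sub_eq_zero.1 ((hβv u).symm.trans (hcon u hu)))]
              rw [hinv, ih]
          obtain ⟨i, rfl⟩ := mem_zpowers_iff.1 hz
          intro u hu
          rw [commutatorElement_def, hact, hact, hact, ← zpow_neg,
            hzN _ u hu, hzN _ _ (hinvN _ (mem_sup_left (inv_mem hg)) u hu), ← hact, mul_inv_cancel,
            hone]
        | one => exact fun u _ => hone u
        | mul x y _ _ hx hy => exact fun u hu => by rw [hact, hy u hu, hx u hu]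
        | inv x _ hx => exact fun u hu => by nth_rewrite 1 [← hx u hu]; exact hinv x u
      exact (Submodule.eq_bot_iff _).1 hF01 v ⟨hN hv, fun r hr => hR r hr v hv⟩
    have hvU : β v ∈ N := Submodule.sub_mem _ (hinvN b hbG v hvN) hvN
    obtain ⟨c, d, hcd⟩ := hrange v
    have hprojN : ∀ k, ∀ u ∈ N, proj k u ∈ N := fun k u hu => by
      simp only [proj, LinearMap.add_apply, LinearMap.smul_apply, Module.End.one_apply]
      exact Submodule.add_mem _ (Submodule.add_mem _ (Submodule.add_mem _ hu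
        (Submodule.smul_mem _ _ (hinvN _ (mem_sup_left (hQR hq0)) u hu)))
        (Submodule.smul_mem _ _ (hinvN _ (mem_sup_left (hQR hq1)) u hu)))
        (Submodule.smul_mem _ _ (hinvN _ (mem_sup_left (hQR hq2)) u hu))
    have hx0N : x0 ∈ N := by
      rcases eq_or_ne c 0 with hc | hc
      · have hd : d ≠ 0 := fun h => hv (by rw [hcd, hc, h, zero_smul, zero_smul, add_zero])
        have h := hprojN 2 _ hvU
        simp only [hcd, hc, hp, hbp, hβv, map_add, map_smul, map_sub, hproj _ _ _ hx1,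
          hproj _ _ _ hx2] at h
        simp at h
        have h' := hinvN b hbG _ ((Submodule.smul_mem_iff _ hd).1 h)
        rwa [← hact, ← hact, hb3, hone] at h'
      · have h := hprojN 0 _ hvU
        simp only [hcd, hp, hbp, hβv, map_add, map_smul, map_sub, hproj _ _ _ hx0, hproj _ _ _ hx1,
          hproj _ _ _ hx2] at h
        simp at h
        exact (Submodule.smul_mem_iff _ hc).1 h
    have hrN : ∀ u, β u ∈ N := fun u => by
      obtain ⟨c', d', h⟩ := hrange u
      have hbx := hinvN b hbG _ hx0N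
      rw [h, hp, hbp, hβv, hβv]
      exact Submodule.add_mem _ (Submodule.smul_mem _ _ (Submodule.sub_mem _ hbx hx0N))
        (Submodule.smul_mem _ _ (Submodule.sub_mem _ (hinvN b hbG _ hbx) hbx))
    let H : Subgroup S :=
      { carrier := {g | g ∈ R ⊔ zpowers b ∧ ∀ u, ρ g u - u ∈ N}
        mul_mem' := fun {g h} hg hh => ⟨mul_mem hg.1 hh.1, fun u => by
          rw [hact, ← sub_add_sub_cancel (ρ g (ρ h u)) (ρ h u) u]
          exact Submodule.add_mem _ (hg.2 _) (hh.2 u)⟩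
        one_mem' := ⟨one_mem _, fun u => by rw [hone, sub_self]; exact Submodule.zero_mem _⟩
        inv_mem' := fun {g} hg => ⟨inv_mem hg.1, fun u => by
          have h := hg.2 (ρ g⁻¹ u)
          rw [← hact, mul_inv_cancel, hone] at h
          rw [← neg_sub]
          exact Submodule.neg_mem _ h⟩ }
    have hRH : R ≤ H := by
      have hbH : zpowers b ≤ H := zpowers_le.2 ⟨hbG, hrN⟩
      calc R = ⁅R, zpowers b⁆ := hRR.symm
        _ ≤ H := commutator_le.2 fun r hr z hz => by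
          have hzH := hbH hz
          have hconj : r * z * r⁻¹ ∈ H := by
            refine ⟨mul_mem (mul_mem (mem_sup_left hr) hzH.1) (inv_mem (mem_sup_left hr)), fun u => ?_⟩
            have h := hinvN r (mem_sup_left hr) _ (hzH.2 (ρ r⁻¹ u))
            rwa [map_sub, ← hact r r⁻¹, mul_inv_cancel, hone, ← hact, ← hact] at h
          rw [commutatorElement_def]
          exact mul_mem hconj (inv_mem hzH)
    refine le_antisymm hN fun u hu => ?_
    have h : avg u - (Nat.card R : ZMod 3) • u ∈ N := by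
      rw [havg, Nat.cast_smul_eq_nsmul, Nat.card_eq_fintype_card, ← Finset.card_univ,
        ← Finset.sum_const, ← Finset.sum_sub_distrib]
      exact Submodule.sum_mem _ fun r _ => (hRH r.2).2 u
    rw [LinearMap.mem_ker.1 hu, zero_sub, Submodule.neg_mem_iff] at h
    exact (Submodule.smul_mem_iff _ hn.ne_zero).1 h
  have hbF1 : ∀ v ∈ F1, ρ b v = v := fun v hv => hCb v fun q hq => hv q (hQR hq)
  have hfaith0 : ∀ g ∈ R ⊔ zpowers b, (∀ v ∈ F0, ρ g v = v) → g = 1 := by
    intro g hg hfix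
    refine hfaith (LinearMap.ext fun v => ?_)
    rw [hone]
    obtain ⟨x, hx, y, hy, rfl⟩ := Submodule.mem_sup.1 (hFtop ▸ Submodule.mem_top : v ∈ F0 ⊔ F1)
    rw [map_add, hfix x hx]
    congr 1
    let H : Subgroup S :=
      { carrier := {g | ρ g y = y}
        mul_mem' := fun {g h} hg hh => by
          change ρ (g * h) y = y
          rw [hact, show ρ h y = y from hh, show ρ g y = y from hg]
        one_mem' := hone y
        inv_mem' := fun {g} hg => by
          change ρ g⁻¹ y = y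
          nth_rewrite 1 [← show ρ g y = y from hg]
          exact hinv g y }
    exact (sup_le (fun r hr => hy r hr) (zpowers_le.2 (hbF1 y hy)) : R ⊔ zpowers b ≤ H) hg
  refine ⟨?_, F0, F1, hF01, hFtop, fun r hr v hv => hv r hr, hF0inv, hfaith0, hirred⟩
  -- the irreducible situation
  let G := ↥(R ⊔ zpowers b)
  let σ : G →* Module.End (ZMod 3) F0 :=
    { toFun := fun g => (ρ (g : S)).restrict (hF0inv _ g.2)
      map_one' := LinearMap.ext fun v => Subtype.ext (hone _)
      map_mul' := fun g h => LinearMap.ext fun v => Subtype.ext (hact _ _ _) }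
  let R' : Subgroup G := R.subgroupOf (R ⊔ zpowers b)
  let b' : G := ⟨b, mem_sup_right (mem_zpowers b)⟩
  have hmapR : R'.map (R ⊔ zpowers b).subtype = R := map_subgroupOf_eq_of_le le_sup_left
  have hmapb : (zpowers b').map (R ⊔ zpowers b).subtype = zpowers b := MonoidHom.map_zpowers _ b'
  have hS : Setup σ R' b' :=
    { solv := inferInstance
      inj := fun g h e => by
        have : (g : S)⁻¹ * (h : S) = 1 := hfaith0 _ (mul_mem (inv_mem g.2) h.2) fun v hv => by
          have e' : ρ (g : S) v = ρ (h : S) v :=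
            congrArg Subtype.val (LinearMap.congr_fun e ⟨v, hv⟩)
          rw [hact, ← e', hinv]
        exact Subtype.ext (inv_mul_eq_one.1 this)
      normal := (normal_subgroupOf_iff_le_normalizer le_sup_left).2 hG
      cube := Subtype.ext hb3
      gen := Subgroup.map_injective (R ⊔ zpowers b).subtype_injective (by
        rw [Subgroup.map_sup, hmapR, hmapb, ← MonoidHom.range_eq_map, range_subtype])
      cop := by rw [Nat.card_congr (subgroupOfEquivOfLe le_sup_left).toEquiv]; exact hRcop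
      comm := Subgroup.map_injective (R ⊔ zpowers b).subtype_injective (by
        rw [map_commutator, hmapR, hmapb, hRR])
      not_mem := fun h => hbR h
      irred := fun N hN => by
        rcases hirred (N.map F0.subtype) (Submodule.map_subtype_le _ _) (by
          rintro g hg _ ⟨v, hv, rfl⟩
          exact ⟨σ ⟨g, hg⟩ v, hN _ v hv, rfl⟩) with h | h
        · exact Or.inl (Submodule.map_injective_of_injective F0.injective_subtype
            (h.trans (Submodule.map_bot _).symm))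
        · exact Or.inr (Submodule.map_injective_of_injective F0.injective_subtype
            (by rw [h, Submodule.map_top, Submodule.range_subtype]))
      nfix := fun v hv => Subtype.ext ((Submodule.eq_bot_iff _).1 hF01 v ⟨v.2, fun r hr =>
        congrArg Subtype.val (hv ⟨r, mem_sup_left hr⟩ hr)⟩)
      rank := by
        refine le_trans ?_ hrank
        rw [← Submodule.finrank_map_subtype_eq F0 (LinearMap.range (σ b' - 1))]
        refine Submodule.finrank_mono ?_
        rintro _ ⟨_, ⟨v, rfl⟩, rfl⟩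
        exact ⟨v, rfl⟩
      block := by
        obtain ⟨x, hx, y, hy, hxy⟩ := Submodule.mem_sup.1 (hFtop ▸ Submodule.mem_top : v0 ∈ F0 ⊔ F1)
        refine ⟨⟨x, hx⟩, fun h => hv0n ?_⟩
        have h' : β (β x) = 0 := congrArg Subtype.val h
        have hy0 : β y = 0 := by rw [hβv, hbF1 y hy, sub_self]
        show β (β v0) = 0
        rw [← hxy, map_add, hy0, add_zero, h'] }
  have hQG : Q ≤ R ⊔ zpowers b := hQR.trans le_sup_left
  have hres := structure_of_setup hS (Q.subgroupOf (R ⊔ zpowers b)) (fun q hq => hQR hq)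
    ⟨⟨⟨fun u v => Subtype.ext (Subtype.ext (hQcomm _ u.2 _ v.2))⟩⟩,
      fun u hu => Subtype.ext (hQ.2 _ hu)⟩
    (by rw [Nat.card_congr (subgroupOfEquivOfLe hQG).toEquiv, hQ4])
    (mem_normalizer_iff.2 fun x => mem_normalizer_iff.1 hbQ (x : S))
    (by
      obtain ⟨q, hq, hqb⟩ := hQb
      exact ⟨⟨q, hQG hq⟩, hq, fun h => hqb (congrArg Subtype.val h)⟩)
    ⟨⟨x0, hU0 0 x0 hx0⟩, fun h => hx0n (congrArg Subtype.val h), fun g hg => by
      have hcom : ∀ q ∈ Q, (g : S) * q = q * g := fun q hq =>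
        (congrArg Subtype.val (mem_centralizer_iff.1 hg ⟨q, hQG hq⟩ hq)).symm
      obtain ⟨c, hc⟩ := hline (ρ (g : S) x0) ⟨by
          rw [← hact, ← hcom q0 hq0, hact, hx0.1, map_smul], by
          rw [← hact, ← hcom q1 hq1, hact, hx0.2, map_smul]⟩
      exact ⟨c, Subtype.ext hc⟩⟩
  haveI : Fact (Nat.Prime 2) := ⟨Nat.prime_two⟩
  let eR : R' ≃* R := subgroupOfEquivOfLe le_sup_left
  rcases hres with ⟨h1, h2⟩ | ⟨h1, h2, A, hAR, hA, hA8⟩
  · left
    refine ⟨⟨⟨⟨fun u v => Subtype.ext ?_⟩⟩, fun u hu => ?_⟩, by rw [← Nat.card_congr eR.toEquiv, h2]⟩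
    · exact congrArg (fun z : R' => ((z : G) : S)) (h1.1.1.1
        ⟨⟨u, mem_sup_left u.2⟩, u.2⟩ ⟨⟨v, mem_sup_left v.2⟩, v.2⟩)
    · exact congrArg Subtype.val (h1.2 ⟨u, mem_sup_left hu⟩ hu)
  · right
    refine ⟨CfsgLib.LargeExtra.isExtraspecial_of_equiv eR h1, by rw [← Nat.card_congr eR.toEquiv, h2],
      A.map (R ⊔ zpowers b).subtype, ?_, ⟨⟨⟨?_⟩⟩, ?_⟩, ?_⟩
    · exact (map_mono hAR).trans hmapR.le
    · rintro ⟨_, u, hu, rfl⟩ ⟨_, v, hv, rfl⟩
      exact Subtype.ext (congrArg (fun z : A => ((z : G) : S)) (hA.1.1.1 ⟨u, hu⟩ ⟨v, hv⟩))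
    · rintro _ ⟨u, hu, rfl⟩
      exact congrArg Subtype.val (hA.2 u hu)
    · rw [Nat.card_congr (A.equivMapOfInjective _ (R ⊔ zpowers b).subtype_injective).toEquiv.symm, hA8]

end CfsgLib.Solvable.BlockThree
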