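import Cfsg.Agent.Lib.Solvable.SystemNormalizer
import Cfsg.Agent.Lib.Solvable.Carter
import Cfsg.Agent.Lib.Solvable.NilpotentParts
import Cfsg.Agent.Lib.Solvable.MinNormal
import Cfsg.Agent.Lib.Solvable.Fitting
import Cfsg.Agent.Lib.Solvable.Factorization
import Cfsg.Agent.S0544

/-!
# System normalizers and Carter subgroups
-/

set_option autoImplicit false
open Pointwise
open scoped commutatorElement

namespace CfsgLib.CarterSystem

open Subgroup CfsgLib.NilPart

universe u

variable {G : Type u} [Group G] [Finite G]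

/-- An element of `C` whose image has order prime to `p` may be replaced by a `p'`-element. -/
theorem exists_lift {H : Type u} [Group H] (f : G →* H) {p : ℕ} [hp : Fact p.Prime]
    {C : Subgroup G} {c : G} (hc : c ∈ C) (h : (orderOf (f c)).Coprime p) :
    ∃ c' ∈ Carter.pp p C, f c' = f c := by
  set a := (orderOf c).factorization p
  obtain ⟨t, ht⟩ := exists_pow_eq_self_of_coprime (x := f c) (n := p ^ a) (h.symm.pow_left a)
  refine ⟨(c ^ p ^ a) ^ t, pow_mem (Carter.mem_pp (pow_mem hc _) ?_) _, by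
    rw [map_pow, map_pow, ht]⟩
  rw [orderOf_pow' c (pow_pos hp.out.pos a).ne',
    Nat.gcd_eq_right (Nat.ordProj_dvd (orderOf c) p)]
  exact (Nat.coprime_ordCompl hp.out (orderOf_pos c).ne').symm

theorem map_pp_le {H : Type u} [Group H] [Finite H] (f : G →* H) {p : ℕ} [Fact p.Prime]
    (C : Subgroup G) : Carter.pp p (C.map f) ≤ (Carter.pp p C).map f := by
  refine (closure_le _).2 ?_
  rintro _ ⟨⟨c, hc, rfl⟩, hord⟩
  obtain ⟨c', hc', e⟩ := exists_lift f hc hord
  exact ⟨c', hc', e⟩

/-- The image of a Carter subgroup is a Carter subgroup. -/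
theorem isCarter_map [Group.IsSolvable G] {C : Subgroup G} (hC : Cfsg.IsCarterSubgroup C)
    {H : Type u} [Group H] (f : G →* H) (hf : Function.Surjective f) :
    Cfsg.IsCarterSubgroup (C.map f) := by
  refine ⟨Fitting.isNilpotent_map hC.1 f, le_antisymm (fun y hy => ?_) le_normalizer⟩
  obtain ⟨x, rfl⟩ := hf y
  set L := C ⊔ f.ker
  have hxC : MulAut.conj x • C ≤ L := by
    refine Coprime.conj_smul_le.2 fun c hc => ?_
    rw [show L = (C.map f).comap f from (comap_map_eq f C).symm, mem_comap, map_mul, map_mul,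
      map_inv]
    exact (mem_normalizer_iff.1 hy _).1 (mem_map_of_mem f hc)
  have hCL : C ≤ L := le_sup_left
  obtain ⟨-, hconj⟩ := Carter.exists_and_conj (G := L)
  obtain ⟨h, hh⟩ := hconj _ _ (Carter.isCarter_subgroupOf hC hCL)
    (Carter.isCarter_subgroupOf (Carter.isCarter_smul hC x) hxC)
  have hmem : (h : G)⁻¹ * x ∈ normalizer (C : Set G) := by
    refine mem_normalizer_of_conj fun c hc => ?_
    have h1 : (⟨x * c * x⁻¹, hxC ?_⟩ : L) ∈ (MulAut.conj x • C).subgroupOf L :=
      mem_subgroupOf.2 (by rw [Coprime.mem_conj_smul]; simpa [mul_assoc] using hc)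
    · rw [← hh, Coprime.mem_conj_smul, mem_subgroupOf] at h1
      simpa [mul_assoc] using h1
    · rw [Coprime.mem_conj_smul]; simpa [mul_assoc] using hc
  rw [hC.2] at hmem
  have hx : x ∈ L := by
    have := mul_mem h.2 (mem_sup_left (T := f.ker) hmem)
    simpa using this
  rwa [show L = (C.map f).comap f from (comap_map_eq f C).symm, mem_comap] at hx

/-- An element of prime power order of the system normalizer lies in the other complements. -/
theorem mem_of_orderOf {K : Nat.Primes → Subgroup G} (hK : Cfsg.IsComplementSystem K)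
    (p : Nat.Primes) {x : G} (hx : x ∈ normalizer (K p : Set G))
    (h : (orderOf x).Coprime (p : ℕ)) : x ∈ K p := by
  set W := normalizer (K p : Set G)
  haveI : ((K p).subgroupOf W).Normal := normal_in_normalizer
  have h1 : orderOf (QuotientGroup.mk' ((K p).subgroupOf W) ⟨x, hx⟩) ∣ orderOf x := by
    refine (orderOf_map_dvd _ _).trans ?_
    rw [orderOf_mk]
  have h2 : orderOf (QuotientGroup.mk' ((K p).subgroupOf W) ⟨x, hx⟩) ∣
      (p : ℕ) ^ (Nat.card G).factorization (p : ℕ) := by
    rw [← hK p, ← relIndex_mul_index (le_normalizer (H := K p))]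
    exact (_root_.orderOf_dvd_natCard _).trans (Dvd.intro _ rfl)
  have h3 := orderOf_eq_one_iff.1 (Nat.eq_one_of_dvd_coprimes (h.pow_right _) h1 h2)
  exact (QuotientGroup.eq_one_iff (⟨x, hx⟩ : W)).1 h3

theorem part_le_pp {C : Subgroup G} {p r : ℕ} [hp : Fact p.Prime] [hr : Fact r.Prime]
    (hrp : r ≠ p) : part r C ≤ Carter.pp p C :=
  (closure_le _).2 fun x ⟨hx, k, hk⟩ => Carter.mem_pp hx (by
    rw [hk]; exact ((Nat.coprime_primes hr.out hp.out).2 hrp).pow_left k)

/-- The intersection of a complement with `C ⊔ N` is the `p'`-part of `C`. -/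
theorem inf_eq_pp {C N : Subgroup G} [N.Normal] (hC : Group.IsNilpotent C) {p : ℕ}
    [hp : Fact p.Prime] (hN : IsPGroup p N) {Kp : Subgroup G} (hle : Carter.pp p C ≤ Kp)
    (hcop : ¬ p ∣ Nat.card Kp) : Kp ⊓ (C ⊔ N) = Carter.pp p C := by
  have hCL : Carter.pp p C ≤ Kp ⊓ (C ⊔ N) :=
    le_inf hle ((Carter.pp_le p C).trans le_sup_left)
  refine (eq_of_le_of_card_ge hCL (Nat.le_of_dvd Nat.card_pos ?_)).symm
  rw [Nat.dvd_iff_prime_pow_dvd_dvd]
  intro r k hr hk
  rcases Nat.eq_zero_or_pos k with rfl | hk0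
  · simp
  haveI := Fact.mk hr
  have hrp : r ≠ p := fun e =>
    hcop (e ▸ (dvd_pow_self r hk0.ne').trans (hk.trans (card_dvd_of_le inf_le_left)))
  have h1 : Nat.card (C ⊔ N : Subgroup G) ∣ Nat.card C * Nat.card N := by
    have hCN : ∀ g : (C ⊔ N : Subgroup G), ∃ c ∈ C.subgroupOf (C ⊔ N),
        ∃ m ∈ N.subgroupOf (C ⊔ N), g = c * m := fun g => by
      obtain ⟨c, hc, m, hm, e⟩ := mem_sup_of_normal_right.1 g.2
      exact ⟨⟨c, mem_sup_left hc⟩, hc, ⟨m, mem_sup_right hm⟩, hm, Subtype.ext e.symm⟩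
    refine (Dvd.intro _ (Factorization.card_mul_card hCN).symm).trans (dvd_of_eq ?_)
    rw [Nat.card_congr (subgroupOfEquivOfLe (le_sup_left : C ≤ C ⊔ N)).toEquiv,
      Nat.card_congr (subgroupOfEquivOfLe (le_sup_right : N ≤ C ⊔ N)).toEquiv]
  obtain ⟨j, hj⟩ := IsPGroup.iff_card.1 hN
  have h2 : r ^ k ∣ Nat.card C := by
    refine (Nat.Coprime.dvd_of_dvd_mul_right ?_ (hk.trans ((card_dvd_of_le inf_le_right).trans h1)))
    rw [hj]
    exact Nat.coprime_pow_primes _ _ hr hp.out hrp
  refine (Nat.pow_dvd_pow r ((hr.pow_dvd_iff_le_factorization Nat.card_pos.ne').1 h2)).trans ?_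
  rw [← card_part hC r]
  exact card_dvd_of_le (part_le_pp hrp)

/-- A Carter subgroup contains the normalizer in `N` of its `p'`-part. -/
theorem normalizer_pp_inf_le {C : Subgroup G} (hC : Cfsg.IsCarterSubgroup C) {p : ℕ}
    [hp : Fact p.Prime] {N : Subgroup G} [N.Normal] (hN : IsPGroup p N) :
    N ⊓ normalizer (Carter.pp p C : Set G) ≤ C := by
  haveI := hC.1
  set U := Carter.pp p C
  set N₁ := N ⊓ normalizer (U : Set G)
  set V := part p C
  have hCU : C ≤ normalizer (U : Set G) := le_normalizer.trans (Carter.normalizer_le_pp p C)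
  have hVN : V ≤ normalizer (N₁ : Set G) := fun v hv => by
    refine mem_normalizer_of_conj fun n hn => mem_inf.2 ⟨?_, ?_⟩
    · exact (inferInstance : N.Normal).conj_mem n (mem_inf.1 hn).1 v
    · exact mul_mem (mul_mem (hCU (part_le p C hv)) (mem_inf.1 hn).2)
        (inv_mem (hCU (part_le p C hv)))
  set P0 := N₁ ⊔ V
  haveI : (N₁.subgroupOf P0).Normal := (normal_subgroupOf_iff_le_normalizer le_sup_left).2
    (sup_le le_normalizer hVN)
  have hP0 : IsPGroup p P0 := by
    refine IsPGroup.to_sup_of_normal_left' (hN.to_le inf_le_left) (isPGroup_part hC.1 p) ?_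
    exact hVN
  have hcent : P0 ≤ centralizer (U : Set G) := by
    refine sup_le (fun n hn => mem_centralizer_iff.2 fun w hw => ?_) ?_
    · have h1 : n * w * n⁻¹ * w⁻¹ ∈ N ⊓ U := by
        refine mem_inf.2 ⟨?_, mul_mem ((mem_normalizer_iff.1 (mem_inf.1 hn).2 w).1 hw)
          (inv_mem hw)⟩
        rw [mul_assoc n w n⁻¹, mul_assoc n (w * n⁻¹) w⁻¹]
        exact mul_mem (mem_inf.1 hn).1
          ((inferInstance : N.Normal).conj_mem _ (inv_mem (mem_inf.1 hn).1) w)
      obtain ⟨j, hj⟩ := IsPGroup.iff_card.1 hN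
      have hcopU : (Nat.card N).Coprime (Nat.card U) := by
        rw [hj]
        exact Nat.Coprime.pow_left _
          (hp.out.coprime_iff_not_dvd.2 (Carter.not_dvd_card_pp p C))
      rw [inf_eq_bot_of_coprime hcopU, mem_bot] at h1
      exact (mul_inv_eq_iff_eq_mul.1 (mul_inv_eq_one.1 h1)).symm
    · refine le_centralizer_iff.1 ((closure_le _).2 ?_)
      rintro w ⟨hw, hword⟩
      refine mem_centralizer_iff.2 fun v hv => ?_
      obtain ⟨j, hj⟩ := IsPGroup.iff_orderOf.1 (isPGroup_part hC.1 p) ⟨v, hv⟩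
      rw [orderOf_mk] at hj
      exact (commute_of_mem hC.1 (part_le p C hv) hw
        (by rw [hj]; exact hword.symm.pow_left j)).eq
  suffices hPV : P0 ≤ V from (le_sup_left.trans hPV).trans (part_le p C)
  by_contra hlt
  haveI := hP0.isNilpotent
  have hlt' : V.subgroupOf P0 < ⊤ := lt_top_iff_ne_top.2 fun e => hlt (subgroupOf_eq_top.1 e)
  obtain ⟨x, hx, hxV⟩ := SetLike.exists_of_lt
    (Group.normalizerCondition_of_isNilpotent (G := P0) _ hlt')
  have hxn : (x : G) ∈ normalizer (C : Set G) := by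
    refine mem_normalizer_of_conj fun c hc => ?_
    suffices hle : C ≤ C.comap (MulAut.conj (x : G)).toMonoidHom from hle hc
    refine le_of_parts hC.1 fun r hr _ y hy => ?_
    haveI := Fact.mk hr
    rw [mem_comap]
    show (x : G) * y * (x : G)⁻¹ ∈ C
    by_cases hrp : r = p
    · subst hrp
      exact part_le r C
        ((mem_normalizer_iff.1 hx ⟨y, mem_sup_right hy⟩).1 (mem_subgroupOf.2 hy))
    · rw [(mem_centralizer_iff.1 (hcent x.2) y (part_le_pp hrp hy)).symm, mul_inv_cancel_right]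
      exact part_le r C hy
  rw [hC.2] at hxn
  exact hxV (mem_subgroupOf.2 (le_part (hP0.to_le (zpowers_le.2 x.2)) (zpowers_le.2 hxn)
    (mem_zpowers (x : G))))

/-- A Carter subgroup whose `p'`-parts lie in the complements contains the system normalizer. -/
theorem systemNormalizer_le : ∀ (n : ℕ) {G : Type u} [Group G] [Finite G] [Group.IsSolvable G],
    Nat.card G = n → ∀ (C : Subgroup G), Cfsg.IsCarterSubgroup C →
    ∀ (K : Nat.Primes → Subgroup G), Cfsg.IsComplementSystem K →
    (∀ p : Nat.Primes, Carter.pp (p : ℕ) C ≤ K p) → Cfsg.systemNormalizer K ≤ C := by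
  intro n
  induction n using Nat.strong_induction_on with
  | _ n ih =>
  intro G _ _ _ hn C hC K hK hle
  subst hn
  rcases subsingleton_or_nontrivial G with hs | hs
  · exact fun x _ => Subsingleton.elim (1 : G) x ▸ one_mem C
  obtain ⟨N, hN⟩ := MinNormal.exists_isMinNormal (G := G)
  haveI := hN.1
  obtain ⟨p, hp, -, hNp, -⟩ := hN.elementaryAbelian_of_solvable
  haveI := Fact.mk hp
  set f := QuotientGroup.mk' N
  have hf : Function.Surjective f := QuotientGroup.mk'_surjective N
  have hDL : Cfsg.systemNormalizer K ≤ C ⊔ N := by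
    have h1 := ih _ (by
        rw [← index_eq_card, ← N.card_mul_index]
        exact lt_mul_of_one_lt_left (Nat.pos_of_ne_zero index_ne_zero_of_finite)
          (N.one_lt_card_iff_ne_bot.2 hN.2.1)) rfl (C.map f) (isCarter_map hC f hf)
      (fun q => (K q).map f) (SystemNormalizer.isComplementSystem_map hK hf) (fun q => by
        haveI : Fact (q : ℕ).Prime := ⟨q.2⟩
        exact (map_pp_le f C).trans (map_mono (hle q)))
    rw [SystemNormalizer.systemNormalizer_map hK hf, map_le_iff_le_comap, comap_map_eq,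
      QuotientGroup.ker_mk'] at h1
    exact h1
  refine le_of_parts (Cfsg.Agent.S0544.result K hK) fun r hr _ => (closure_le _).2 ?_
  rintro x ⟨hx, k, hk⟩
  haveI := Fact.mk hr
  let π : Nat.Primes := ⟨p, hp⟩
  have hinf : K π ⊓ (C ⊔ N) = Carter.pp p C :=
    inf_eq_pp hC.1 hNp (hle π) (SystemNormalizer.not_dvd_card hK π)
  have hxK : x ∈ normalizer (K π : Set G) :=
    iInf_le (fun q : Nat.Primes => normalizer (K q : Set G)) π hx
  by_cases hrp : r = p
  · obtain ⟨c, hc, m, hm, e⟩ := mem_sup_of_normal_right.1 (hDL hx)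
    have hxU : x ∈ normalizer (Carter.pp p C : Set G) := by
      rw [← hinf]
      refine mem_normalizer_of_conj fun y hy => mem_inf.2 ⟨?_, ?_⟩
      · exact (mem_normalizer_iff.1 hxK y).1 (mem_inf.1 hy).1
      · exact mul_mem (mul_mem (hDL hx) (mem_inf.1 hy).2) (inv_mem (hDL hx))
    have hmU : m ∈ normalizer (Carter.pp p C : Set G) := by
      have := mul_mem (inv_mem (Carter.normalizer_le_pp p C (le_normalizer hc))) hxU
      rwa [← e, inv_mul_cancel_left] at this
    rw [← e]
    exact mul_mem hc (normalizer_pp_inf_le hC hNp (mem_inf.2 ⟨hm, hmU⟩))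
  · have hcop : (orderOf x).Coprime p := by
      rw [hk]; exact ((Nat.coprime_primes hr hp).2 hrp).pow_left k
    exact Carter.pp_le p C (hinf ▸ mem_inf.2 ⟨mem_of_orderOf hK π hxK hcop, hDL hx⟩)

/-- Every subgroup has a complement system containing its `p'`-parts. -/
theorem exists_system [Group.IsSolvable G] {C : Subgroup G} (hC : Group.IsNilpotent C) :
    ∃ K : Nat.Primes → Subgroup G, Cfsg.IsComplementSystem K ∧
      ∀ p : Nat.Primes, Carter.pp (p : ℕ) C ≤ K p := by
  have h : ∀ p : Nat.Primes, ∃ H : Subgroup G,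
      H.index = (p : ℕ) ^ (Nat.card G).factorization (p : ℕ) ∧ Carter.pp (p : ℕ) C ≤ H := by
    intro p
    haveI : Fact (p : ℕ).Prime := ⟨p.2⟩
    haveI := hC
    obtain ⟨H, hH, hle⟩ := Hall.exists_ge_card
      (m := Nat.card G / (p : ℕ) ^ (Nat.card G).factorization (p : ℕ))
      (k := (p : ℕ) ^ (Nat.card G).factorization (p : ℕ))
      (Nat.div_mul_cancel (Nat.ordProj_dvd (Nat.card G) (p : ℕ))).symm
      (Nat.Coprime.pow_right _ (Nat.coprime_ordCompl p.2 Nat.card_pos.ne').symm)
      (U := Carter.pp (p : ℕ) C)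
      (Nat.Coprime.pow_right _ (p.2.coprime_iff_not_dvd.2 (Carter.not_dvd_card_pp _ C)).symm)
    refine ⟨H, Nat.eq_of_mul_eq_mul_left (Nat.card_pos (α := H)) ?_, hle⟩
    rw [H.card_mul_index, hH, Nat.div_mul_cancel (Nat.ordProj_dvd (Nat.card G) (p : ℕ))]
  choose K hK hle using h
  exact ⟨K, hK, hle⟩

theorem systemNormalizer_smul (K : Nat.Primes → Subgroup G) (g : G) :
    Cfsg.systemNormalizer (fun p => MulAut.conj g • K p) =
      MulAut.conj g • Cfsg.systemNormalizer K := by
  ext x
  rw [Coprime.mem_conj_smul, SystemNormalizer.mem_iff, SystemNormalizer.mem_iff]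
  refine forall_congr' fun p => ?_
  rw [map_mul, map_mul, mul_smul, mul_smul, map_inv, inv_smul_eq_iff]

theorem isComplementSystem_smul {K : Nat.Primes → Subgroup G} (hK : Cfsg.IsComplementSystem K)
    (g : G) : Cfsg.IsComplementSystem (fun p => MulAut.conj g • K p) := fun p =>
  (ComplementSystem.index_conj_smul _ g).trans (hK p)

/-- A Carter subgroup of a group of nilpotent length at most two is a system normalizer. -/
theorem carter_le [Group.IsSolvable G] {F : Subgroup G} [F.Normal] (hF : Group.IsNilpotent F)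
    (hGF : Group.IsNilpotent (G ⧸ F)) {C : Subgroup G} (hC : Cfsg.IsCarterSubgroup C)
    {K : Nat.Primes → Subgroup G} (hK : Cfsg.IsComplementSystem K)
    (hle : ∀ p : Nat.Primes, Carter.pp (p : ℕ) C ≤ K p) : C ≤ Cfsg.systemNormalizer K := by
  haveI := hF
  haveI := hGF
  set f := QuotientGroup.mk' F
  have hf : Function.Surjective f := QuotientGroup.mk'_surjective F
  have himg : C.map f = ⊤ := by
    by_contra hne
    exact (Group.normalizerCondition_of_isNilpotent (G := G ⧸ F) _ (lt_top_iff_ne_top.2 hne)).ne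
      (isCarter_map hC f hf).2.symm
  intro c hc
  refine mem_iInf.2 fun p => ?_
  haveI : Fact (p : ℕ).Prime := ⟨p.2⟩
  have hkey : K p ≤ Carter.pp (p : ℕ) C ⊔ Carter.pp (p : ℕ) F := by
    intro k hk
    have hcop : (orderOf k).Coprime (p : ℕ) :=
      (Nat.Coprime.coprime_dvd_left (orderOf_dvd_natCard (K p) hk)
        ((p.2.coprime_iff_not_dvd.2 (SystemNormalizer.not_dvd_card hK p)).symm))
    obtain ⟨c₀, hc₀, e⟩ := (himg.ge (mem_top (f k)) : f k ∈ C.map f)
    obtain ⟨c', hc', e'⟩ := exists_lift f hc₀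
      (by rw [e]; exact hcop.coprime_dvd_left (orderOf_map_dvd f k))
    have hfF : c'⁻¹ * k ∈ F := QuotientGroup.eq.1 (e'.trans e)
    have hfK : c'⁻¹ * k ∈ K p := mul_mem (inv_mem (hle p hc')) hk
    have := mul_mem (mem_sup_left (T := Carter.pp (p : ℕ) F) hc')
      (mem_sup_right (S := Carter.pp (p : ℕ) C) (Carter.mem_pp hfF
        (Nat.Coprime.coprime_dvd_left (orderOf_dvd_natCard (K p) hfK)
          ((p.2.coprime_iff_not_dvd.2 (SystemNormalizer.not_dvd_card hK p)).symm))))
    rwa [mul_inv_cancel_left] at this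
  haveI hpn : (Carter.pp (p : ℕ) F).Normal := normalizer_eq_top_iff.1 (top_le_iff.1
    ((normalizer_eq_top_iff.2 (inferInstance : F.Normal)).ge.trans (Carter.normalizer_le_pp _ F)))
  have hFK : Carter.pp (p : ℕ) F ≤ K p := by
    rw [← relIndex_eq_one]
    refine Nat.eq_one_of_dvd_coprimes ?_ (index_dvd_card _)
      ((SystemNormalizer.relIndex_dvd (Carter.pp (p : ℕ) F) (K p)).trans (hK p).dvd)
    rw [Nat.card_congr (Equiv.refl _)]
    exact Nat.Coprime.pow_right _ (p.2.coprime_iff_not_dvd.2 (Carter.not_dvd_card_pp _ F)).symm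
  have heq : K p = Carter.pp (p : ℕ) C ⊔ Carter.pp (p : ℕ) F :=
    le_antisymm hkey (sup_le (hle p) hFK)
  rw [heq]
  exact le_normalizer_sup (le_normalizer.trans (Carter.normalizer_le_pp _ C))
    ((normalizer_eq_top_iff.2 hpn).symm ▸ le_top) hc

end CfsgLib.CarterSystem
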