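import Mathlib
import Cfsg.Agent.Lib.Frobenius.Theorem
import Cfsg.Agent.Lib.Frobenius.FPFThompson
import Cfsg.Agent.Lib.Solvable.Supersolvable

/-!
A subgroup central in every solvable subgroup containing it is central.
-/

set_option autoImplicit false
set_option linter.style.haveILetI false

namespace CfsgLib.CentralInSolvable

open Subgroup
open scoped Pointwise

universe u

/-- The property: every solvable subgroup containing `A` centralises `A`. -/
def SolvCentral {G : Type u} [Group G] (A : Subgroup G) : Prop :=
  ∀ S : Subgroup G, A ≤ S → Group.IsSolvable S → S ≤ centralizer (A : Set G)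

theorem le_center_of_solvCentral : ∀ (n : ℕ) {G : Type u} [Group G] [Finite G],
    Nat.card G = n → ∀ (A : Subgroup G), Group.IsSolvable A → SolvCentral A → A ≤ center G := by
  intro n
  induction n using Nat.strong_induction_on with
  | _ n ih =>
    intro G _ _ hn A hA h
    by_contra hnot
    have hAC : A ≤ centralizer (A : Set G) := h A le_rfl hA
    set C := centralizer (A : Set G) with hC
    have hCtop : C ≠ ⊤ := fun e => hnot (centralizer_eq_top_iff_subset.1 e)
    have hAab : ∀ x ∈ A, ∀ y ∈ A, x * y = y * x := fun x hx y hy =>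
      (mem_centralizer_iff.1 (hAC hx) y hy).symm
    -- every proper subgroup containing `A` centralises it
    have hproper : ∀ H : Subgroup G, A ≤ H → H ≠ ⊤ → H ≤ C := by
      intro H hAH hH
      have hcard : Nat.card H < n := hn ▸
        lt_of_le_of_ne (card_le_card_group H) fun e => hH (eq_top_of_card_eq H e)
      have hsol : Group.IsSolvable (A.subgroupOf H) := by
        haveI := hA
        exact Group.isSolvable_of_isSolvable_injective (f := (subgroupOfEquivOfLe hAH).toMonoidHom)
          (MulEquiv.injective _)
      have hcen := ih _ hcard rfl (A.subgroupOf H) hsol fun S hS hSs => by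
        intro x hx
        have hle : A ≤ S.map H.subtype := fun a ha => ⟨⟨a, hAH ha⟩, hS ha, rfl⟩
        haveI := hSs
        have hs' : Group.IsSolvable (S.map H.subtype) :=
          Group.isSolvable_of_surjective (f := (S.equivMapOfInjective _ H.subtype_injective).toMonoidHom)
            (MulEquiv.surjective _)
        have hxc := h _ hle hs' ⟨x, hx, rfl⟩
        exact mem_centralizer_iff.2 fun a ha => Subtype.ext (mem_centralizer_iff.1 hxc (a : G) ha)
      intro x hx
      refine mem_centralizer_iff.2 fun a ha => ?_
      exact (congrArg Subtype.val (mem_center_iff.1 (hcen (x := ⟨a, hAH ha⟩) ha) ⟨x, hx⟩)).symm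
    -- conjugates
    have hconjC : ∀ (g c : G), c ∈ C → g * c * g⁻¹ ∈ centralizer ((A.map (MulAut.conj g).toMonoidHom : Subgroup G) : Set G) := by
      intro g c hc
      refine mem_centralizer_iff.2 ?_
      rintro _ ⟨a, ha, rfl⟩
      have := mem_centralizer_iff.1 hc a ha
      show g * a * g⁻¹ * (g * c * g⁻¹) = g * c * g⁻¹ * (g * a * g⁻¹)
      calc g * a * g⁻¹ * (g * c * g⁻¹) = g * (a * c) * g⁻¹ := by group
        _ = g * (c * a) * g⁻¹ := by rw [this]
        _ = _ := by group
    have hkey : ∀ g : G, A.map (MulAut.conj g).toMonoidHom ≤ C → g ∈ normalizer (C : Set G) := by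
      intro g hg
      -- `C` centralises the conjugate
      have h1 : ∀ c ∈ C, g⁻¹ * c * g ∈ C := by
        have hle : A ≤ C.map (MulAut.conj g⁻¹).toMonoidHom := fun a ha =>
          ⟨g * a * g⁻¹, hg ⟨a, ha, rfl⟩, by simp [mul_assoc]⟩
        have hne' : C.map (MulAut.conj g⁻¹).toMonoidHom ≠ ⊤ := fun e => hCtop (by
          apply map_injective (f := (MulAut.conj g⁻¹).toMonoidHom) (MulAut.conj g⁻¹).injective
          rw [e, map_top_of_surjective _ (MulAut.conj g⁻¹).surjective])
        intro c hc
        exact hproper _ hle hne' ⟨c, hc, by simp⟩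
      rw [mem_normalizer_iff_map_conj_eq]
      have hge : C ≤ C.map (MulAut.conj g).toMonoidHom := fun c hc =>
        ⟨g⁻¹ * c * g, h1 c hc, by simp [mul_assoc]⟩
      exact (eq_of_le_of_card_ge hge
        (Nat.card_congr (C.equivMapOfInjective _ (MulAut.conj g).injective).toEquiv).symm.le).symm
    by_cases hCn : C.Normal
    · -- all conjugates of `A` lie in `C` and commute
      have hconj : ∀ g a : G, a ∈ A → g * a * g⁻¹ ∈ C := fun g a ha => hCn.conj_mem a (hAC ha) g
      have hN : ∀ x ∈ normalClosure (A : Set G), ∀ y ∈ normalClosure (A : Set G), x * y = y * x := by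
        have hcomm : IsMulCommutative (normalClosure (A : Set G)) := by
          refine isMulCommutative_closure fun x hx y hy => ?_
          obtain ⟨a, ha, hax⟩ := Group.mem_conjugatesOfSet_iff.1 hx
          obtain ⟨b, hb, hby⟩ := Group.mem_conjugatesOfSet_iff.1 hy
          obtain ⟨g, rfl⟩ := isConj_iff.1 hax
          obtain ⟨k, rfl⟩ := isConj_iff.1 hby
          have hb' := mem_centralizer_iff.1 (hCn.conj_mem _ (hconj k b hb) g⁻¹) a ha
          have h2 := congrArg (fun t => g * t * g⁻¹) hb'
          simpa [mul_assoc] using h2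
        exact fun x hx y hy => congrArg Subtype.val (hcomm.is_comm.comm ⟨x, hx⟩ ⟨y, hy⟩)
      apply hCtop
      rw [eq_top_iff]
      intro g _
      set N := normalClosure (A : Set G)
      have hNs : Group.IsSolvable N :=
        Group.isSolvable_of_comm fun x y => Subtype.ext (hN x x.2 y y.2)
      have hS : Group.IsSolvable (N ⊔ zpowers g : Subgroup G) := by
        haveI := hNs
        rw [Group.isSolvable_iff_subgroup_quotient (N.subgroupOf (N ⊔ zpowers g))]
        refine ⟨Group.isSolvable_of_isSolvable_injective
          (f := (subgroupOfEquivOfLe (le_sup_left : N ≤ N ⊔ zpowers g)).toMonoidHom) (MulEquiv.injective _), ?_⟩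
        haveI : Group.IsSolvable (zpowers g) := Group.isSolvable_of_comm fun x y => mul_comm' x y
        refine Group.isSolvable_of_surjective (f := (QuotientGroup.mk' (N.subgroupOf (N ⊔ zpowers g))).comp
          (inclusion (le_sup_right : zpowers g ≤ N ⊔ zpowers g))) fun q => ?_
        obtain ⟨⟨x, hx⟩, rfl⟩ := QuotientGroup.mk'_surjective _ q
        obtain ⟨a, ha, b, hb, rfl⟩ := mem_sup_of_normal_left.1 hx
        refine ⟨⟨b, hb⟩, ?_⟩
        rw [MonoidHom.comp_apply, QuotientGroup.mk'_apply, QuotientGroup.mk'_apply, QuotientGroup.eq]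
        show (b⁻¹ * (a * b) : G) ∈ N
        have : b⁻¹ * (a * b) = b⁻¹ * a * b⁻¹⁻¹ := by group
        rw [this]
        exact Normal.conj_mem inferInstance a ha b⁻¹
      exact h _ (le_normalClosure.trans le_sup_left) hS (le_sup_right (α := Subgroup G) (mem_zpowers g))
    · -- `C` is self-normalising
      have hCN : ∀ g ∈ normalizer (C : Set G), g ∈ C := by
        by_contra hcon
        push Not at hcon
        obtain ⟨g, hg, hgC⟩ := hcon
        apply hCn
        rw [← normalizer_eq_top_iff]
        by_contra htop
        exact hgC (hproper _ (hAC.trans le_normalizer) htop hg)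
      set Z := center G with hZ
      have hZC : Z ≤ C := fun z hz => mem_centralizer_iff.2 fun a _ => mem_center_iff.1 hz a
      have hinter : ∀ g : G, g ∉ C → ∀ c ∈ C, g * c * g⁻¹ ∈ C → c ∈ Z := by
        intro g hg c hc hgc
        have hne' : ¬ A.map (MulAut.conj g).toMonoidHom ≤ C := fun hle => hg (hCN g (hkey g hle))
        have htop : A ⊔ A.map (MulAut.conj g).toMonoidHom = ⊤ := by
          by_contra e
          exact hne' (le_sup_right.trans (hproper _ le_sup_left e))
        have hmem : g * c * g⁻¹ ∈ Z := by
          have h1 := hconjC g c hc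
          have h2 : A ⊔ A.map (MulAut.conj g).toMonoidHom ≤ centralizer {g * c * g⁻¹} := by
            refine sup_le (fun a ha => ?_) (fun a ha => ?_)
            · exact mem_centralizer_singleton_iff.2 (mem_centralizer_iff.1 hgc a ha)
            · exact mem_centralizer_singleton_iff.2 (mem_centralizer_iff.1 h1 a ha)
          rw [htop] at h2
          exact mem_center_iff.2 fun y => mem_centralizer_singleton_iff.1 (h2 (mem_top y))
        have h3 := (inferInstance : Z.Normal).conj_mem _ hmem g⁻¹
        simpa [mul_assoc] using h3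
      set π := QuotientGroup.mk' Z with hπ
      have hπs : Function.Surjective π := QuotientGroup.mk'_surjective Z
      have hcm : (C.map π).comap π = C := comap_map_eq_self (by rw [QuotientGroup.ker_mk']; exact hZC)
      have hF : Cfsg.IsFrobeniusComplement (C.map π) := by
        refine ⟨fun e => hnot ?_, fun e => hCtop ?_, fun q hq => ?_⟩
        · intro a ha
          have : π a = 1 := by
            rw [← mem_bot, ← e]
            exact ⟨a, hAC ha, rfl⟩
          exact (QuotientGroup.eq_one_iff a).1 this
        · rw [← hcm, e, comap_top]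
        · obtain ⟨g, rfl⟩ := hπs q
          have hgC : g ∉ C := fun hg => hq ⟨g, hg, rfl⟩
          rw [eq_bot_iff]
          rintro x ⟨⟨c, hc, rfl⟩, hx⟩
          obtain ⟨y, ⟨c', hc', rfl⟩, hy⟩ := hx
          have h1 : π (g * c' * g⁻¹) = π c := by rw [← hy]; simp [MulAut.conj_apply]
          have h2 : g * c' * g⁻¹ ∈ C := by
            rw [← hcm]
            exact ⟨c, hc, h1.symm⟩
          have h3 : c' ∈ Z := hinter g hgC c' hc' h2
          have h4 : π c' = 1 := (QuotientGroup.eq_one_iff c').2 h3
          rw [mem_bot, ← h1, map_mul, map_mul, h4, mul_one, ← map_mul, mul_inv_cancel, map_one]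
      obtain ⟨K, -, hKn, hKc⟩ := CfsgLib.Frobenius.exists_normal_kernel hF
      haveI := hKn
      haveI : Nontrivial (C.map π) := (nontrivial_iff_ne_bot _).2 hF.1
      obtain ⟨p, hp, hpd⟩ := Nat.exists_prime_and_dvd (Finite.one_lt_card (α := C.map π)).ne'
      haveI : Fact p.Prime := ⟨hp⟩
      obtain ⟨x, hx⟩ := exists_prime_orderOf_dvd_card' p hpd
      rw [← orderOf_coe] at hx
      have hKnil : Group.IsNilpotent K := by
        refine CfsgLib.Frobenius.Thompson.isNilpotent_of_element K
          (by rw [normalizer_eq_top]; exact mem_top (x : G ⧸ Z)) hp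
          (orderOf_dvd_iff_pow_eq_one.1 hx.dvd) fun k hk hcomm => ?_
        by_contra hk1
        have hkC : k ∉ C.map π := fun h' => hk1 (mem_bot.1 (hKc.disjoint.le_bot ⟨hk, h'⟩))
        have h1 := hF.2.2 k hkC
        have h2 : (x : G ⧸ Z) ∈ C.map π ⊓ MulAut.conj k • C.map π := by
          refine ⟨x.2, (x : G ⧸ Z), x.2, ?_⟩
          show MulAut.conj k (x : G ⧸ Z) = (x : G ⧸ Z)
          rw [MulAut.conj_apply, ← hcomm, mul_inv_cancel_right]
        rw [h1, mem_bot] at h2
        rw [h2, orderOf_one] at hx
        exact hp.one_lt.ne hx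
      -- the preimage of the kernel is solvable, and so is its product with `A`
      set T := (K ⊔ A.map π).comap π with hT
      have hKA : Group.IsSolvable (K ⊔ A.map π : Subgroup (G ⧸ Z)) := by
        haveI := hA
        haveI := hKnil
        rw [Group.isSolvable_iff_subgroup_quotient (K.subgroupOf (K ⊔ A.map π))]
        refine ⟨Group.isSolvable_of_isSolvable_injective
          (f := (subgroupOfEquivOfLe (le_sup_left : K ≤ K ⊔ A.map π)).toMonoidHom) (MulEquiv.injective _), ?_⟩
        haveI : Group.IsSolvable (A.map π) :=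
          Group.isSolvable_of_surjective (f := π.subgroupMap A) (π.subgroupMap_surjective A)
        refine Group.isSolvable_of_surjective (f := (QuotientGroup.mk' (K.subgroupOf (K ⊔ A.map π))).comp
          (inclusion (le_sup_right : A.map π ≤ K ⊔ A.map π))) fun q => ?_
        obtain ⟨⟨x, hx⟩, rfl⟩ := QuotientGroup.mk'_surjective _ q
        obtain ⟨a, ha, b, hb, rfl⟩ := mem_sup_of_normal_left.1 hx
        refine ⟨⟨b, hb⟩, ?_⟩
        rw [MonoidHom.comp_apply, QuotientGroup.mk'_apply, QuotientGroup.mk'_apply, QuotientGroup.eq]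
        show (b⁻¹ * (a * b) : G ⧸ Z) ∈ K
        have : b⁻¹ * (a * b) = b⁻¹ * a * b⁻¹⁻¹ := by group
        rw [this]
        exact hKn.conj_mem a ha b⁻¹
      have hTs : Group.IsSolvable T := by
        haveI := hKA
        set f := π.subgroupComap (K ⊔ A.map π) with hf
        refine Group.isSolvable_of_ker_le_range (f.ker.subtype) f ?_ (hG' := ?_)
        · rw [range_subtype]
        · refine Group.isSolvable_of_comm fun x y => ?_
          have hmem : ∀ w : f.ker, ((w : T) : G) ∈ Z := fun w =>
            (QuotientGroup.eq_one_iff _).1 (congrArg Subtype.val w.2)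
          exact Subtype.ext (Subtype.ext (mem_center_iff.1 (hmem y) ((x : T) : G)))
      have hTC : T ≤ C := h T (fun a ha => le_sup_right (α := Subgroup (G ⧸ Z)) ⟨a, ha, rfl⟩) hTs
      have hKbot : K = ⊥ := by
        rw [eq_bot_iff]
        intro q hq
        obtain ⟨g, rfl⟩ := hπs q
        have hgC : g ∈ C := hTC (le_sup_left (α := Subgroup (G ⧸ Z)) hq)
        exact hKc.disjoint.le_bot ⟨hq, g, hgC, rfl⟩
      apply hF.2.1
      rw [← hKc.sup_eq_top, hKbot, bot_sup_eq]

end CfsgLib.CentralInSolvable
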