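import Cfsg.Agent.Lib.Solvable.ComplementSystem

/-!
# System normalizers of Hall complement systems: images in quotients, existence
-/

set_option autoImplicit false
open Pointwise

namespace CfsgLib.SystemNormalizer

open Subgroup

universe u

variable {G : Type u} [Group G]

theorem mem_iff {K : Nat.Primes → Subgroup G} {x : G} :
    x ∈ Cfsg.systemNormalizer K ↔ ∀ p, MulAut.conj x • K p = K p := by
  simp only [Cfsg.systemNormalizer, mem_iInf]
  refine forall_congr' fun p => ⟨fun h => ?_, fun h => ?_⟩
  · ext y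
    rw [mem_pointwise_smul_iff_inv_smul_mem, ← map_inv]
    have := (mem_normalizer_iff.1 (inv_mem h) y).symm
    simpa using this
  · rw [mem_normalizer_iff]
    intro y
    conv_rhs => rw [← h]
    rw [mem_pointwise_smul_iff_inv_smul_mem, ← map_inv]
    simp [mul_assoc]

theorem eq_top_of_not_dvd [Finite G] {K : Nat.Primes → Subgroup G}
    (hK : Cfsg.IsComplementSystem K) {p : Nat.Primes} (hp : ¬ (p : ℕ) ∣ Nat.card G) : K p = ⊤ :=
  index_eq_one.1 (by rw [hK p, Nat.factorization_eq_zero_of_not_dvd hp, pow_zero])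

theorem not_dvd_card [Finite G] {K : Nat.Primes → Subgroup G} (hK : Cfsg.IsComplementSystem K)
    (p : Nat.Primes) : ¬ (p : ℕ) ∣ Nat.card (K p) := by
  intro h
  have h1 := (K p).card_mul_index
  rw [hK p] at h1
  refine Nat.pow_succ_factorization_not_dvd (Nat.card_pos (α := G)).ne' p.2 ?_
  rw [pow_succ']
  exact (Nat.mul_dvd_mul_right h _).trans h1.dvd

theorem coprime_card_index [Finite G] {K : Nat.Primes → Subgroup G}
    (hK : Cfsg.IsComplementSystem K) (p : Nat.Primes) :
    (Nat.card (K p)).Coprime (K p).index := by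
  rw [hK p]
  exact Nat.Coprime.pow_right _ ((p.2.coprime_iff_not_dvd).2 (not_dvd_card hK p)).symm

theorem isComplementSystem_map [Finite G] {H : Type u} [Group H] [Finite H]
    {K : Nat.Primes → Subgroup G} (hK : Cfsg.IsComplementSystem K) {f : G →* H}
    (hf : Function.Surjective f) : Cfsg.IsComplementSystem (fun p => (K p).map f) := by
  intro p
  obtain ⟨j, -, hj⟩ := (Nat.dvd_prime_pow p.2).1 (hK p ▸ index_map_dvd (K p) hf)
  have h1 := ((K p).map f).card_mul_index
  have h2 : ¬ (p : ℕ) ∣ Nat.card ((K p).map f) := fun h =>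
    not_dvd_card hK p (h.trans (card_map_dvd (K p) f))
  rw [hj, ← h1, Nat.factorization_mul Nat.card_pos.ne' index_ne_zero_of_finite,
    Finsupp.add_apply, Nat.factorization_eq_zero_of_not_dvd h2, zero_add, hj,
    p.2.factorization_pow, Finsupp.single_eq_same]

/-- The prime divisors of the index of an intersection of members of a complement system. -/
theorem exists_inf [Finite G] {K : Nat.Primes → Subgroup G} (hK : Cfsg.IsComplementSystem K)
    (T : Finset Nat.Primes) :
    ∀ q : ℕ, q.Prime → q ∣ (T.inf K).index → ∃ p ∈ T, (p : ℕ) = q := by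
  classical
  induction T using Finset.induction with
  | empty =>
    intro q hq h
    rw [Finset.inf_empty, index_top] at h
    exact absurd h hq.not_dvd_one
  | @insert a T haT ih =>
    intro q hq h
    have hcop : (K a).index.Coprime (T.inf K).index := by
      rw [hK a]
      refine Nat.Coprime.pow_left _ (a.2.coprime_iff_not_dvd.2 fun h => ?_)
      obtain ⟨p, hp, hpa⟩ := ih a a.2 h
      exact haT (Subtype.ext hpa ▸ hp)
    rw [Finset.inf_insert, (ComplementSystem.coprime_index_product hcop).1, hK a] at h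
    rcases hq.dvd_mul.1 h with h | h
    · exact ⟨a, Finset.mem_insert_self _ _,
        ((Nat.prime_dvd_prime_iff_eq hq a.2).1 (hq.dvd_of_dvd_pow h)).symm⟩
    · obtain ⟨p, hp, hpq⟩ := ih q hq h
      exact ⟨p, Finset.mem_insert_of_mem hp, hpq⟩

/-- The relative index in a normal subgroup divides the index. -/
theorem relIndex_dvd [Finite G] (N : Subgroup G) [N.Normal] (H : Subgroup G) :
    H.relIndex N ∣ H.index := by
  refine Dvd.intro (H ⊔ N).index ?_
  have h1 : H.relIndex N * N.index = (H ⊓ N).index := by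
    rw [← relIndex_mul_index (inf_le_right : H ⊓ N ≤ N), inf_relIndex_right]
  have h2 : N.relIndex H * H.index = (H ⊓ N).index := by
    rw [← relIndex_mul_index (inf_le_left : H ⊓ N ≤ H), inf_relIndex_left]
  rw [← relIndex_mul_index (le_sup_right : N ≤ H ⊔ N), relIndex_sup_right, ← h2] at h1
  refine Nat.eq_of_mul_eq_mul_left (Nat.pos_of_ne_zero ?_ : 0 < N.relIndex H) ?_
  · exact index_ne_zero_of_finite
  · rw [← h1]; ring

/-- A normal subgroup is factorised by the members of a complement system. -/
theorem normal_factor [Finite G] {K : Nat.Primes → Subgroup G} (hK : Cfsg.IsComplementSystem K)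
    (N : Subgroup G) [N.Normal] {T : Finset Nat.Primes} {p : Nat.Primes} (hp : p ∉ T)
    {m : G} (hm : m ∈ N) :
    ∃ u ∈ N ⊓ T.inf K, ∃ k ∈ N ⊓ K p, m = u * k := by
  have hdvd : ∀ H : Subgroup G, H.relIndex N ∣ H.index := relIndex_dvd N
  have hcop : ((T.inf K).subgroupOf N).index.Coprime ((K p).subgroupOf N).index := by
    refine Nat.Coprime.coprime_dvd_left (hdvd _) (Nat.Coprime.coprime_dvd_right (hdvd _) ?_)
    rw [hK p]
    refine Nat.Coprime.pow_right _ (p.2.coprime_iff_not_dvd.2 fun h => ?_).symm
    obtain ⟨q, hq, hqp⟩ := exists_inf hK T p p.2 h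
    exact hp (Subtype.ext hqp ▸ hq)
  obtain ⟨l, hl, d, hd, e⟩ := (ComplementSystem.coprime_index_product hcop).2 ⟨m, hm⟩
  exact ⟨l, ⟨l.2, hl⟩, d, ⟨d.2, hd⟩, congrArg Subtype.val e⟩

/-- An element normalizing the system modulo `N` agrees modulo `N` with an element of the system
normalizer. -/
theorem exists_mul_mem [Finite G] [Group.IsSolvable G] {K : Nat.Primes → Subgroup G}
    (hK : Cfsg.IsComplementSystem K) (N : Subgroup G) [N.Normal] {x : G}
    (hx : ∀ p, MulAut.conj x • K p ≤ K p ⊔ N) :
    ∃ n ∈ N, n * x ∈ Cfsg.systemNormalizer K := by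
  classical
  have key : ∀ T : Finset Nat.Primes,
      ∃ n ∈ N, ∀ p ∈ T, MulAut.conj (n * x) • K p = K p := by
    intro T
    induction T using Finset.induction with
    | empty => exact ⟨1, one_mem _, fun p hp => absurd hp (Finset.notMem_empty p)⟩
    | @insert p T hp ih =>
      obtain ⟨n, hn, hnT⟩ := ih
      set L := K p ⊔ N with hL
      have hle : MulAut.conj (n * x) • K p ≤ L := by
        rw [map_mul, mul_smul]
        refine (pointwise_smul_le_pointwise_smul_iff.2 (hx p)).trans ?_
        rw [conj_smul_eq_self_of_mem (mem_sup_right hn)]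
      have hcard : Nat.card (MulAut.conj (n * x) • K p : Subgroup G) = Nat.card (K p) :=
        Coprime.card_conj_smul _ _
      have hKL : K p ≤ L := le_sup_left
      obtain ⟨l, hl⟩ := Hall.conj_of_card (G := L) (m := Nat.card (K p))
        (k := ((K p).subgroupOf L).index)
        (by rw [← Nat.card_congr (subgroupOfEquivOfLe hKL).toEquiv, card_mul_index])
        ((coprime_card_index hK p).coprime_dvd_right
          (Dvd.intro _ (relIndex_mul_index hKL)))
        (H := (K p).subgroupOf L) (K := (MulAut.conj (n * x) • K p).subgroupOf L)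
        (Nat.card_congr (subgroupOfEquivOfLe hKL).toEquiv)
        ((Nat.card_congr (subgroupOfEquivOfLe hle).toEquiv).trans hcard)
      have hlG : MulAut.conj (l : G) • K p = MulAut.conj (n * x) • K p := by
        ext y
        constructor
        · intro hy
          have hyL : y ∈ L := by
            have := (pointwise_smul_le_pointwise_smul_iff (a := MulAut.conj (l : G))).2 hKL hy
            rwa [conj_smul_eq_self_of_mem l.2] at this
          have h1 : (⟨y, hyL⟩ : L) ∈ MulAut.conj l • (K p).subgroupOf L := by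
            rw [mem_pointwise_smul_iff_inv_smul_mem, ← map_inv] at hy ⊢
            rw [mem_subgroupOf]
            simpa using hy
          rw [hl] at h1
          exact h1
        · intro hy
          have h1 : (⟨y, hle hy⟩ : L) ∈ (MulAut.conj (n * x) • K p).subgroupOf L := hy
          rw [← hl, mem_pointwise_smul_iff_inv_smul_mem, ← map_inv, mem_subgroupOf] at h1
          rw [mem_pointwise_smul_iff_inv_smul_mem, ← map_inv]
          simpa using h1
      obtain ⟨m, hm, k, hk, hmk⟩ := mem_sup_of_normal_left.1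
        (show (l : G) ∈ N ⊔ K p from sup_comm (K p) N ▸ l.2)
      obtain ⟨v, hv, k', hk', rfl⟩ := normal_factor hK N hp hm
      have h2 : MulAut.conj v • K p = MulAut.conj (n * x) • K p := by
        rw [← hlG, ← hmk, map_mul, mul_smul, conj_smul_eq_self_of_mem hk, map_mul, mul_smul,
          conj_smul_eq_self_of_mem hk'.2]
      refine ⟨v⁻¹ * n, mul_mem (inv_mem hv.1) hn, fun q hq => ?_⟩
      rw [mul_assoc, map_mul, mul_smul]
      rcases Finset.mem_insert.1 hq with rfl | hq
      · rw [← h2, map_inv, inv_smul_smul]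
      · rw [hnT q hq, conj_smul_eq_self_of_mem]
        exact inv_mem ((Finset.inf_le hq : T.inf K ≤ K q) hv.2)
  obtain ⟨n, hn, hnT⟩ := key ((Nat.card G).primeFactors.attach.image
    fun p : {x // x ∈ (Nat.card G).primeFactors} =>
      (⟨p.1, Nat.prime_of_mem_primeFactors p.2⟩ : Nat.Primes))
  refine ⟨n, hn, mem_iff.2 fun p => ?_⟩
  by_cases hp : (p : ℕ) ∣ Nat.card G
  · exact hnT p (Finset.mem_image.2
      ⟨⟨p, Nat.mem_primeFactors.2 ⟨p.2, hp, Nat.card_pos.ne'⟩⟩, Finset.mem_attach _ _, rfl⟩)
  · rw [eq_top_of_not_dvd hK hp]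
    exact conj_smul_eq_self_of_mem (mem_top _)

/-- The system normalizer of the image of a complement system is the image of the system
normalizer. -/
theorem systemNormalizer_map [Finite G] [Group.IsSolvable G] {H : Type u} [Group H]
    {K : Nat.Primes → Subgroup G} (hK : Cfsg.IsComplementSystem K) {f : G →* H}
    (hf : Function.Surjective f) :
    Cfsg.systemNormalizer (fun p => (K p).map f) = (Cfsg.systemNormalizer K).map f := by
  have hsmul : ∀ (x : G) (L : Subgroup G),
      (MulAut.conj x • L).map f = MulAut.conj (f x) • L.map f := by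
    intro x L
    ext y
    constructor
    · rintro ⟨z, ⟨w, hw, rfl⟩, rfl⟩
      exact ⟨f w, ⟨w, hw, rfl⟩, by simp⟩
    · rintro ⟨_, ⟨w, hw, rfl⟩, rfl⟩
      exact ⟨x * w * x⁻¹, ⟨w, hw, by simp⟩, by simp⟩
  refine le_antisymm (fun y hy => ?_) ?_
  · obtain ⟨x, rfl⟩ := hf y
    obtain ⟨n, hn, hnx⟩ := exists_mul_mem hK f.ker (x := x) fun p => by
      rw [← comap_map_eq, ← map_le_iff_le_comap, hsmul]
      exact (mem_iff.1 hy p).le
    refine ⟨n * x, hnx, ?_⟩
    rw [map_mul, MonoidHom.mem_ker.1 hn, one_mul]
  · rintro _ ⟨x, hx, rfl⟩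
    exact mem_iff.2 fun p => by rw [← hsmul, mem_iff.1 hx p]

end CfsgLib.SystemNormalizer
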