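import Cfsg.Agent.Lib.Solvable.NilpotentParts
import Cfsg.Agent.Lib.Solvable.Factorization
import Cfsg.Agent.Lib.Solvable.SystemNormalizer
import Cfsg.Agent.Lib.Solvable.Fitting
import Cfsg.Agent.Lib.Characters.Burnside
import Cfsg.Agent.S0558
import Cfsg.Agent.S0561
import Cfsg.Agent.S0562
import Cfsg.Agent.S0566

/-!
# Products of two nilpotent subgroups of coprime orders are solvable

In a minimal counterexample both factors involve two primes, the normalizer of either factor
controls the centralizers of its nontrivial elements, so both factors are trivial intersection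
subgroups and each has order at most that of the other.
-/

set_option autoImplicit false
open Pointwise

namespace CfsgLib.KegelWielandtCoprime

open Subgroup CfsgLib.NilPart

universe u

variable {G : Type u} [Group G]

/-- A factorization by nilpotent subgroups of coprime orders, each involving two primes. -/
structure Pair (A B : Subgroup G) : Prop where
  nilA : Group.IsNilpotent A
  nilB : Group.IsNilpotent B
  cop : (Nat.card A).Coprime (Nat.card B)
  prod : ∀ g : G, ∃ a ∈ A, ∃ b ∈ B, g = a * b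
  twoA : ∀ p : ℕ, ∃ r : ℕ, r.Prime ∧ r ∣ Nat.card A ∧ r ≠ p
  twoB : ∀ p : ℕ, ∃ r : ℕ, r.Prime ∧ r ∣ Nat.card B ∧ r ≠ p

/-- Every element of `L` is a product inside `L`. -/
def Fact' (A B L : Subgroup G) : Prop :=
  ∀ g ∈ L, ∃ a ∈ L ⊓ A, ∃ b ∈ L ⊓ B, g = a * b

/-- Proper factorised subgroups are solvable. -/
def SmallSolvable (G : Type u) [Group G] : Prop :=
  ∀ A B : Subgroup G, Pair A B → ∀ L : Subgroup G, L ≠ ⊤ → Fact' A B L → Group.IsSolvable L

variable {A B : Subgroup G}

theorem Pair.symm (h : Pair A B) : Pair B A :=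
  ⟨h.nilB, h.nilA, h.cop.symm, Factorization.swap h.prod, h.twoB, h.twoA⟩

theorem Fact'.symm {L : Subgroup G} (h : Fact' A B L) : Fact' B A L := fun g hg => by
  obtain ⟨a, ha, b, hb, e⟩ := h g⁻¹ (inv_mem hg)
  exact ⟨b⁻¹, inv_mem hb, a⁻¹, inv_mem ha, by rw [← mul_inv_rev, ← e, inv_inv]⟩

theorem Pair.conj_right [Finite G] (h : Pair A B) (y : G) :
    Pair A (MulAut.conj y • B) ∧
      ∃ g ∈ normalizer (A : Set G), MulAut.conj y • B = MulAut.conj g • B := by
  obtain ⟨g, h1, h2⟩ := Factorization.exists_conj h.prod 1 y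
  rw [map_one, one_smul] at h1
  haveI := h.nilB
  have hg : g ∈ normalizer (A : Set G) :=
    mem_normalizer_of_conj (Coprime.conj_smul_le.1 h1.ge)
  refine ⟨⟨h.nilA, Group.nilpotent_of_mulEquiv (Subgroup.equivSMul (MulAut.conj y) B), ?_, ?_,
    h.twoA, ?_⟩, g, hg, h2⟩
  · rw [Coprime.card_conj_smul]; exact h.cop
  · intro x
    obtain ⟨a, ha, b, hb, e⟩ := Factorization.conj_factorization h.prod g x
    exact ⟨a, h1.ge ha, b, h2.ge hb, e⟩
  · rw [Coprime.card_conj_smul]; exact h.twoB

theorem Pair.inf_eq_bot [Finite G] (h : Pair A B) : A ⊓ B = ⊥ := inf_eq_bot_of_coprime h.cop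

theorem Pair.eq_one [Finite G] (h : Pair A B) {x : G} (ha : x ∈ A) (hb : x ∈ B) : x = 1 :=
  mem_bot.1 (h.inf_eq_bot ▸ (⟨ha, hb⟩ : x ∈ A ⊓ B))

theorem Pair.card_mul [Finite G] (h : Pair A B) : Nat.card A * Nat.card B = Nat.card G := by
  rw [Factorization.card_mul_card h.prod, h.inf_eq_bot, card_bot, mul_one]

theorem Pair.index_left [Finite G] (h : Pair A B) : A.index = Nat.card B :=
  Nat.eq_of_mul_eq_mul_left Nat.card_pos (A.card_mul_index.trans h.card_mul.symm)

theorem Pair.not_dvd [Finite G] (h : Pair A B) {p : ℕ} (hp : p.Prime) (hA : p ∣ Nat.card A) :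
    ¬ p ∣ Nat.card B := fun hB =>
  hp.not_dvd_one (h.cop ▸ Nat.dvd_gcd hA hB)

theorem Pair.not_dvd_symm [Finite G] (h : Pair A B) {p : ℕ} (hp : p.Prime)
    (hB : p ∣ Nat.card B) : ¬ p ∣ Nat.card A := fun hA => h.not_dvd hp hA hB

theorem mem_center_iff' {g : G} : g ∈ center G ↔ centralizer ({g} : Set G) = ⊤ := by
  rw [centralizer_eq_top_iff_subset, Set.singleton_subset_iff, SetLike.mem_coe]

/-- The hypotheses on a minimal counterexample. -/
structure Ctx (G : Type u) [Group G] : Prop where
  simple : IsSimpleGroup G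
  nsolv : ¬ Group.IsSolvable G
  small : SmallSolvable G

theorem Ctx.normalizer_ne_top (c : Ctx G) {J : Subgroup G} (h1 : J ≠ ⊥) (h2 : J ≠ ⊤) :
    normalizer (J : Set G) ≠ ⊤ := fun h =>
  (c.simple.eq_bot_or_eq_top_of_normal J (normalizer_eq_top_iff.1 h)).elim h1 h2

theorem Ctx.centralizer_ne_top (c : Ctx G) {g : G} (h : g ≠ 1) :
    centralizer ({g} : Set G) ≠ ⊤ := fun h' => by
  rcases c.simple.eq_bot_or_eq_top_of_normal (center G) inferInstance with e | e
  · exact h (mem_bot.1 (e ▸ mem_center_iff'.2 h'))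
  · exact c.nsolv (Group.isSolvable_of_comm fun a b =>
      mem_center_iff.1 (e ▸ mem_top b : b ∈ center G) a)

theorem Pair.ne_bot_left [Finite G] (h : Pair A B) : A ≠ ⊥ := fun e => by
  obtain ⟨r, hr, hd, -⟩ := h.twoA 0
  rw [e, card_bot] at hd
  exact hr.not_dvd_one hd

theorem Pair.ne_top_left [Finite G] (h : Pair A B) : A ≠ ⊤ := fun e => by
  refine h.symm.ne_bot_left ?_
  rw [← inf_top_eq B, ← e, inf_comm]
  exact h.inf_eq_bot

variable [Finite G]

/-- Parts for primes of the two factors generate the group. -/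
theorem gen (c : Ctx G) (h : Pair A B) {p q : ℕ} (hp : p.Prime) (hq : q.Prime)
    (hpA : p ∣ Nat.card A) (hqB : q ∣ Nat.card B) : part p A ⊔ part q B = ⊤ := by
  haveI := Fact.mk hp
  haveI := Fact.mk hq
  by_contra hJ
  have hP := part_ne_bot h.nilA p hpA
  have hQ := part_ne_bot h.nilB q hqB
  -- for every conjugate of `B` the product of the parts is a proper subgroup
  have key : ∀ x : G, ∃ S : Subgroup G, S ≠ ⊤ ∧
      (S : Set G) = (part p A : Set G) * ((MulAut.conj x • part q B : Subgroup G) : Set G) := by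
    intro x
    obtain ⟨h', g, hg, hgB⟩ := h.conj_right x
    set B' := MulAut.conj x • B with hB'
    have hq' : q ∣ Nat.card B' := by rw [hB', Coprime.card_conj_smul]; exact hqB
    rw [← part_smul]
    set J := part p A ⊔ part q B' with hJdef
    have hJ' : J ≠ ⊤ := by
      intro e
      apply hJ
      have e1 : MulAut.conj g • part p A = part p A := by
        rw [← part_smul, smul_eq_of_mem_normalizer hg]
      have e2 : J = MulAut.conj g • (part p A ⊔ part q B) := by
        rw [smul_sup, e1, ← part_smul, ← hgB]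
      rw [e, eq_comm, eq_top_iff] at e2
      refine eq_top_iff.2 fun y _ => ?_
      have := e2 (mem_top (g * y * g⁻¹))
      rw [mem_pointwise_smul_iff_inv_smul_mem, ← map_inv] at this
      simpa [mul_assoc] using this
    set L := normalizer (J : Set G) with hL
    have hLne : L ≠ ⊤ :=
      c.normalizer_ne_top (fun e => hP (le_bot_iff.1 (e ▸ le_sup_left))) hJ'
    have hAn : ((part p A).subgroupOf A).Normal :=
      (normal_subgroupOf_iff_le_normalizer (part_le p A)).2 (le_normalizer_part p A)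
    have hBn : ((part q B').subgroupOf B').Normal :=
      (normal_subgroupOf_iff_le_normalizer (part_le q B')).2 (le_normalizer_part q B')
    have hfac : Fact' A B' L := Cfsg.Agent.S0562.result A B' _ _ h'.prod (part_le p A) hAn
      (part_le q B') hBn
    haveI := c.small A B' h' L hLne hfac
    have hPL : part p A ≤ L := le_sup_left.trans le_normalizer
    have hQL : part q B' ≤ L := le_sup_right.trans le_normalizer
    have hall : ∀ {r : ℕ} {X : Subgroup G} (C D : Subgroup G), r.Prime → Pair C D →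
        Nat.card X = r ^ (Nat.card C).factorization r → r ∣ Nat.card C → X ≤ C → X ≤ L →
        (Nat.card (X.subgroupOf L)).Coprime (X.subgroupOf L).index := by
      intro r X C D hr hCD hX hrC hXC hXL
      rw [Nat.card_congr (subgroupOfEquivOfLe hXL).toEquiv, hX]
      refine Nat.Coprime.pow_left _ ((hr.coprime_iff_not_dvd).2 fun hd => ?_)
      have hd' : r ∣ X.index := hd.trans (Dvd.intro _ (relIndex_mul_index hXL))
      have h1 : X.index = ordCompl[r] (Nat.card C) * Nat.card D := by
        refine Nat.eq_of_mul_eq_mul_left (Nat.pow_pos (n := (Nat.card C).factorization r) hr.pos) ?_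
        rw [← mul_assoc, Nat.ordProj_mul_ordCompl_eq_self, hCD.card_mul, ← hX, card_mul_index]
      rcases hr.dvd_mul.1 (h1 ▸ hd') with e | e
      · exact Nat.not_dvd_ordCompl hr Nat.card_pos.ne' e
      · exact hCD.not_dvd hr hrC e
    obtain ⟨S, hS⟩ := Cfsg.Agent.S0561.hall_permute (A.subgroupOf L) (B'.subgroupOf L)
      ((part p A).subgroupOf L) ((part q B').subgroupOf L)
      (fun z => by
        obtain ⟨a, ha, b, hb, e⟩ := hfac z z.2
        exact ⟨⟨a, ha.1⟩, ha.2, ⟨b, hb.1⟩, hb.2, Subtype.ext e⟩)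
      (fun z hz => part_le p A hz)
      ⟨fun z hz w => (mem_normalizer_iff.1 (le_normalizer_part p A w.2) _).1 hz⟩
      (fun z hz => part_le q B' hz)
      ⟨fun z hz w => (mem_normalizer_iff.1 (le_normalizer_part q B' w.2) _).1 hz⟩
      (hall A B' hp h' (card_part h.nilA p) hpA (part_le p A) hPL)
      (hall B' A hq h'.symm (card_part h'.nilB q) hq' (part_le q B') hQL) 1 1
    rw [map_one, one_smul, one_smul] at hS
    have hset : ((S.map L.subtype : Subgroup G) : Set G) =
        (part p A : Set G) * (part q B' : Set G) := by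
      ext y
      constructor
      · rintro ⟨s, hs, rfl⟩
        rw [hS] at hs
        obtain ⟨a, ha, b, hb, rfl⟩ := hs
        exact ⟨a, ha, b, hb, rfl⟩
      · rintro ⟨a, ha, b, hb, rfl⟩
        refine ⟨⟨a, hPL ha⟩ * ⟨b, hQL hb⟩, ?_, rfl⟩
        rw [hS]
        exact ⟨⟨a, hPL ha⟩, ha, ⟨b, hQL hb⟩, hb, rfl⟩
    refine ⟨S.map L.subtype, fun e => hLne (eq_top_iff.2 ?_), hset⟩
    exact e ▸ map_subtype_le S
  obtain ⟨N, hN, hNtop, hle⟩ := Cfsg.Agent.S0566.kegel _ (part p A) rfl hP (part q B) hQ key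
  have hNbot : N = ⊥ := (c.simple.eq_bot_or_eq_top_of_normal N hN).resolve_right hNtop
  rcases hle with e | e
  · exact hP (le_bot_iff.1 (e.trans hNbot.le))
  · exact hQ (le_bot_iff.1 (e.trans hNbot.le))

/-- No proper subgroup contains parts of both factors. -/
theorem not_both (c : Ctx G) (h : Pair A B) {p q : ℕ} (hp : p.Prime) (hq : q.Prime)
    (hpA : p ∣ Nat.card A) (hqB : q ∣ Nat.card B) {H : Subgroup G} (hH : H ≠ ⊤)
    (h1 : part p A ≤ H) (h2 : part q B ≤ H) : False :=
  hH (eq_top_iff.2 (gen c h hp hq hpA hqB ▸ sup_le h1 h2))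

/-- A normal `p`-subgroup of a factorised subgroup lies in the factor involving `p`. -/
theorem le_left_of_isPGroup (h : Pair A B) {K : Subgroup G} (hK : Fact' A B K) {p : ℕ}
    [hp : Fact p.Prime] (hpA : p ∣ Nat.card A) {R : Subgroup G} (hRK : R ≤ K)
    (hKR : K ≤ normalizer (R : Set G)) (hR : IsPGroup p R) : R ≤ A := by
  haveI : (R.subgroupOf K).Normal := (normal_subgroupOf_iff_le_normalizer hRK).2 hKR
  have h1 : (A.subgroupOf K).index ∣ Nat.card B := by
    rw [Factorization.index_eq_relIndex (H := B.subgroupOf K) (fun z => ?_)]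
    · exact (index_dvd_card _).trans (card_comap_dvd_of_injective B K.subtype K.subtype_injective)
    · obtain ⟨a, ha, b, hb, e⟩ := hK.symm z z.2
      exact ⟨⟨a, ha.1⟩, ha.2, ⟨b, hb.1⟩, hb.2, Subtype.ext e⟩
  have h2 : (A.subgroupOf K).relIndex (R.subgroupOf K) ∣ Nat.card B :=
    (SystemNormalizer.relIndex_dvd _ _).trans h1
  obtain ⟨k, hk⟩ := IsPGroup.iff_card.1 hR
  have h3 : (A.subgroupOf K).relIndex (R.subgroupOf K) ∣ p ^ k := by
    rw [← hk, ← Nat.card_congr (subgroupOfEquivOfLe hRK).toEquiv]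
    exact index_dvd_card _
  have h4 := Nat.eq_one_of_dvd_coprimes (Nat.Coprime.pow_right _
    (hp.out.coprime_iff_not_dvd.2 (h.not_dvd hp.out hpA)).symm) h2 h3
  rw [relIndex_eq_one] at h4
  exact fun x hx => h4 (show (⟨x, hRK hx⟩ : K) ∈ R.subgroupOf K from hx)

/-- A normal `p`-subgroup, as a subgroup of the whole group. -/
def coreIn (p : ℕ) (K : Subgroup G) : Subgroup G := (Cfsg.pCore p K).map K.subtype

omit [Finite G] in
theorem coreIn_le (p : ℕ) (K : Subgroup G) : coreIn p K ≤ K := map_subtype_le _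

theorem le_normalizer_coreIn (p : ℕ) (K : Subgroup G) :
    K ≤ normalizer (coreIn p K : Set G) := fun g hg => by
  refine mem_normalizer_of_conj ?_
  rintro _ ⟨y, hy, rfl⟩
  exact ⟨⟨g, hg⟩ * y * ⟨g, hg⟩⁻¹, (Fitting.pCore_normal p).conj_mem y hy _, rfl⟩

theorem isPGroup_coreIn (p : ℕ) (K : Subgroup G) : IsPGroup p (coreIn p K) :=
  (Fitting.pCore_isPGroup p).map _

omit [Finite G] in
theorem coreIn_eq_bot {p : ℕ} {K : Subgroup G} : coreIn p K = ⊥ ↔ Cfsg.pCore p K = ⊥ :=
  map_eq_bot_iff_of_injective _ K.subtype_injective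

/-- In a solvable subgroup, an element centralizing all cores lies in the Fitting subgroup. -/
theorem mem_fitting_of_commute {K : Subgroup G} [Group.IsSolvable K] {x : G} (hx : x ∈ K)
    (h : ∀ r : ℕ, r.Prime → ∀ y ∈ coreIn r K, Commute x y) :
    (⟨x, hx⟩ : K) ∈ Cfsg.fittingSubgroup K := by
  refine Fitting.centralizer_fitting_le (le_centralizer_iff.1 ?_ (mem_zpowers (⟨x, hx⟩ : K)))
  rw [Fitting.fitting_eq_iSup_pCore]
  refine iSup_le fun r y hy => mem_centralizer_iff.2 ?_
  rintro _ ⟨j, rfl⟩
  have hc : Commute (⟨x, hx⟩ : K) y :=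
    Subtype.ext (h r (Nat.prime_of_mem_primeFactors r.2) y (mem_map_of_mem _ hy)).eq
  exact (hc.zpow_left j).eq

/-- A central element of one factor lies in no proper subgroup containing a part of the other. -/
theorem not_central_part (c : Ctx G) (h : Pair A B) {z : G} (hzA : z ∈ A)
    (hzc : ∀ a ∈ A, a * z = z * a) (hz1 : z ≠ 1) {q : ℕ} (hq : q.Prime) (hqB : q ∣ Nat.card B)
    {H : Subgroup G} (hH : H ≠ ⊤) (hzH : z ∈ H) (hBH : part q B ≤ H) : False := by
  classical
  let J : Finset ℕ → Subgroup G := fun T => zpowers z ⊔ T.sup fun t => part t B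
  let S : Finset (Finset ℕ) := (Nat.card B).primeFactors.powerset.filter
    fun T => T.Nonempty ∧ J T ≠ ⊤
  have hSne : S.Nonempty := by
    refine ⟨{q}, Finset.mem_filter.2 ⟨Finset.mem_powerset.2 ?_, Finset.singleton_nonempty q, ?_⟩⟩
    · exact Finset.singleton_subset_iff.2 (Nat.mem_primeFactors.2 ⟨hq, hqB, Nat.card_pos.ne'⟩)
    · intro e
      refine hH (eq_top_iff.2 (e ▸ ?_))
      simp only [J, Finset.sup_singleton]
      exact sup_le (zpowers_le.2 hzH) hBH
  obtain ⟨T, hT, hTmax⟩ := S.exists_max_image Finset.card hSne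
  obtain ⟨hTsub, hTne, hJT⟩ : T ⊆ (Nat.card B).primeFactors ∧ T.Nonempty ∧ J T ≠ ⊤ := by
    have := Finset.mem_filter.1 hT
    exact ⟨Finset.mem_powerset.1 this.1, this.2⟩
  have hpr : ∀ t ∈ T, t.Prime := fun t ht => Nat.prime_of_mem_primeFactors (hTsub ht)
  -- `T` is not everything
  have hnotall : ¬ (Nat.card B).primeFactors ⊆ T := by
    intro hall
    have hBJ : B ≤ J T := le_of_parts h.nilB fun r hr hrB =>
      (Finset.le_sup (f := fun t => part t B)
        (hall (Nat.mem_primeFactors.2 ⟨hr, hrB, Nat.card_pos.ne'⟩))).trans le_sup_right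
    have hle : normalClosure ({z} : Set G) ≤ J T := by
      refine (closure_le _).2 fun w hw => ?_
      obtain ⟨v, hv, hvw⟩ := Group.mem_conjugatesOfSet_iff.1 hw
      rw [Set.mem_singleton_iff] at hv
      rw [hv] at hvw
      obtain ⟨g, rfl⟩ := isConj_iff.1 hvw
      obtain ⟨b, hb, a, ha, rfl⟩ := Factorization.swap h.prod g
      have hfix : b * a * z * (b * a)⁻¹ = b * z * b⁻¹ := by
        rw [mul_inv_rev, mul_assoc b a z, hzc a ha]; group
      rw [SetLike.mem_coe, hfix]
      exact mul_mem (mul_mem (hBJ hb) (mem_sup_left (mem_zpowers z))) (inv_mem (hBJ hb))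
    rcases c.simple.eq_bot_or_eq_top_of_normal (normalClosure ({z} : Set G)) inferInstance
      with e | e
    · exact hz1 (mem_bot.1 (e ▸ subset_normalClosure (Set.mem_singleton z)))
    · exact hJT (top_le_iff.1 (e ▸ hle))
  set B₀ := T.sup fun t => part t B with hB₀
  have hB₀B : B₀ ≤ B := Finset.sup_le fun t _ => part_le t B
  have hB₀n : (B₀.subgroupOf B).Normal := (normal_subgroupOf_iff_le_normalizer hB₀B).2
    (le_normalizer_finset_sup T fun t _ => le_normalizer_part t B)
  have hzn : ((zpowers z).subgroupOf A).Normal := by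
    refine (normal_subgroupOf_iff_le_normalizer (zpowers_le.2 hzA)).2 fun a ha => ?_
    refine mem_normalizer_of_conj fun w hw => ?_
    obtain ⟨j, rfl⟩ := hw
    rw [((show Commute a z from hzc a ha).zpow_right j).eq, mul_inv_cancel_right]
    exact ⟨j, rfl⟩
  set L := normalizer ((J T : Subgroup G) : Set G) with hL
  have hJbot : J T ≠ ⊥ := fun e => hz1 (mem_bot.1 (e ▸ mem_sup_left (mem_zpowers z)))
  have hLne : L ≠ ⊤ := c.normalizer_ne_top hJbot hJT
  have hfac : Fact' A B L :=
    Cfsg.Agent.S0562.result A B _ _ h.prod (zpowers_le.2 hzA) hzn hB₀B hB₀n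
  haveI := c.small A B h L hLne hfac
  have hTL : ∀ t ∈ T, part t B ≤ L := fun t ht =>
    (Finset.le_sup (f := fun t => part t B) ht).trans (le_sup_right.trans le_normalizer)
  -- every nontrivial core of `L` belongs to a prime of `B` missing from `T`
  have hcore : ∀ r : ℕ, r.Prime → coreIn r L ≠ ⊥ →
      coreIn r L ≤ part r B ∧ r ∉ T ∧ ∀ u : ℕ, u.Prime → u ∣ Nat.card B → u ≠ r → u ∈ T := by
    intro r hr hne
    haveI := Fact.mk hr
    set R := coreIn r L with hR
    have hRp : IsPGroup r R := isPGroup_coreIn r L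
    have hNR : normalizer (R : Set G) ≠ ⊤ := c.normalizer_ne_top hne fun e =>
      hLne (top_le_iff.1 (e ▸ coreIn_le r L))
    have hLR : L ≤ normalizer (R : Set G) := le_normalizer_coreIn r L
    obtain ⟨k, hk⟩ := IsPGroup.iff_card.1 hRp
    have hrG : r ∣ Nat.card A * Nat.card B := by
      rw [h.card_mul]
      refine (dvd_pow_self r fun e => hne (eq_bot_of_card_eq _ ?_)).trans
        (hk ▸ card_subgroup_dvd_card R)
      rw [hk, e, pow_zero]
    rcases hr.dvd_mul.1 hrG with hrA | hrB
    · exfalso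
      have hRA : R ≤ A := le_left_of_isPGroup h hfac hrA (coreIn_le r L) hLR hRp
      obtain ⟨s, hs, hsA, hsr⟩ := h.twoA r
      haveI := Fact.mk hs
      obtain ⟨t, ht⟩ := hTne
      exact not_both c h hs (hpr t ht) hsA (Nat.dvd_of_mem_primeFactors (hTsub ht)) hNR
        ((part_le_centralizer h.nilA hsr hRp hRA).trans
          (centralizer_le_normalizer (R : Set G))) ((hTL t ht).trans hLR)
    · have hRB : R ≤ B := le_left_of_isPGroup h.symm hfac.symm hrB (coreIn_le r L) hLR hRp
      have hmax : ∀ u : ℕ, u.Prime → u ∣ Nat.card B → u ≠ r → u ∈ T := by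
        intro u hu huB hur
        haveI := Fact.mk hu
        by_contra huT
        have huS : insert u T ∈ S := by
          refine Finset.mem_filter.2 ⟨Finset.mem_powerset.2 (Finset.insert_subset
            (Nat.mem_primeFactors.2 ⟨hu, huB, Nat.card_pos.ne'⟩) hTsub),
            Finset.insert_nonempty u T, fun e => hNR (eq_top_iff.2 (e ▸ ?_))⟩
          simp only [J, Finset.sup_insert]
          refine sup_le ?_ (sup_le ?_ (Finset.sup_le fun t ht => (hTL t ht).trans hLR))
          · exact ((le_sup_left : zpowers z ≤ J T).trans le_normalizer).trans hLR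
          · exact (part_le_centralizer h.nilB hur hRp hRB).trans
              (centralizer_le_normalizer (R : Set G))
        have := hTmax _ huS
        rw [Finset.card_insert_of_notMem huT] at this
        omega
      refine ⟨le_part hRp hRB, fun hrT => hnotall fun u hu => ?_, hmax⟩
      by_cases hur : u = r
      · exact hur ▸ hrT
      · exact hmax u (Nat.prime_of_mem_primeFactors hu) (Nat.dvd_of_mem_primeFactors hu) hur
  haveI : Nontrivial L :=
    (nontrivial_iff_ne_bot L).2 fun e => hJbot (le_bot_iff.1 (le_normalizer.trans e.le))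
  obtain ⟨r, hr, -, hrne⟩ := Fitting.exists_pCore_ne_bot (G := L)
  haveI := Fact.mk hr
  have hrne' : coreIn r L ≠ ⊥ := mt coreIn_eq_bot.1 hrne
  obtain ⟨hRle, hrT, hmax⟩ := hcore r hr hrne'
  have huniq : ∀ s : ℕ, s.Prime → s ≠ r → Cfsg.pCore s L = ⊥ := by
    intro s hs hsr
    by_contra hsne
    obtain ⟨hSle, hsT, -⟩ := hcore s hs (mt coreIn_eq_bot.1 hsne)
    haveI := Fact.mk hs
    refine hsT (hmax s hs ?_ hsr)
    by_contra hsB
    refine hsne (coreIn_eq_bot.1 (le_bot_iff.1 (hSle.trans (le_bot_iff.2 ?_))))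
    refine eq_bot_of_card_eq _ ?_
    rw [card_part h.nilB, Nat.factorization_eq_zero_of_not_dvd hsB, pow_zero]
  obtain ⟨u, hu⟩ := hTne
  haveI := Fact.mk (hpr u hu)
  have hur : u ≠ r := fun e => hrT (e ▸ hu)
  refine part_ne_bot h.nilB u (Nat.dvd_of_mem_primeFactors (hTsub hu)) (eq_bot_iff.2 fun x hx => ?_)
  have hxL := hTL u hu hx
  have hxF := mem_fitting_of_commute hxL fun s hs y hy => by
    by_cases hsr : s = r
    · subst hsr
      exact commute_of_mem h.nilB (part_le u B hx) (part_le _ B (hRle hy))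
        (coprime_orderOf hur (isPGroup_part h.nilB u) (isPGroup_part h.nilB _) hx (hRle hy))
    · rw [show coreIn s L = ⊥ from coreIn_eq_bot.2 (huniq s hs hsr), mem_bot] at hy
      rw [hy]
      exact Commute.one_right x
  rw [Fitting.fitting_eq_iSup_pCore] at hxF
  have hxR : (⟨x, hxL⟩ : L) ∈ Cfsg.pCore r L := by
    refine (iSup_le fun s => ?_ : (⨆ s : (Nat.card L).primeFactors,
      Cfsg.pCore (s : ℕ) L) ≤ Cfsg.pCore r L) hxF
    by_cases hsr : (s : ℕ) = r
    · rw [hsr]
    · rw [huniq _ (Nat.prime_of_mem_primeFactors s.2) hsr]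
      exact bot_le
  have hxr : x ∈ part r B := hRle ⟨_, hxR, rfl⟩
  exact ((disjoint_def.1 (IsPGroup.disjoint_of_ne u r hur _ _ (isPGroup_part h.nilB u)
    (isPGroup_part h.nilB r))) hx hxr : x = 1) ▸ one_mem _

/-- A prime-order element of a conjugate factor. -/
theorem exists_pair_of_orderOf (h : Pair A B) {x : G} {q : ℕ} (hq : q.Prime)
    (hqB : q ∣ Nat.card B) (hx : orderOf x = q) :
    ∃ B' : Subgroup G, Pair A B' ∧ x ∈ part q B' ∧ q ∣ Nat.card B' := by
  obtain ⟨y, hy⟩ := NilpotentSubgroups.exists_le_conj h.nilB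
    (by rw [h.symm.index_left]; exact h.cop.symm) (zpowers x)
    (fun s hs hd => by
      rw [Nat.card_zpowers, hx, Nat.prime_dvd_prime_iff_eq hs hq] at hd
      exact hd ▸ hqB)
  exact ⟨_, (h.conj_right y).1, mem_part (hy (mem_zpowers x)) ⟨1, by rw [hx, pow_one]⟩,
    by rwa [Coprime.card_conj_smul]⟩

theorem part_le_centralizer_singleton {A : Subgroup G} (hA : Group.IsNilpotent A) {p r : ℕ}
    [Fact p.Prime] [Fact r.Prime] (hne : r ≠ p) {a : G} (ha : a ∈ part p A) :
    part r A ≤ centralizer ({a} : Set G) := fun y hy => mem_centralizer_iff.2 fun w hw => by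
  rw [Set.mem_singleton_iff] at hw
  subst hw
  exact mem_centralizer_iff.1
    (part_le_centralizer hA hne (isPGroup_part hA p) (part_le p A) hy) _ ha

/-- The centralizer of a central element of a factor is that factor. -/
theorem centralizer_central_le (c : Ctx G) (h : Pair A B) {z : G} (hzA : z ∈ A)
    (hzc : ∀ a ∈ A, a * z = z * a) (hz1 : z ≠ 1) : centralizer ({z} : Set G) ≤ A := by
  set C := centralizer ({z} : Set G) with hC
  have hAC : A ≤ C := fun a ha => mem_centralizer_iff.2 fun w hw => by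
    rw [Set.mem_singleton_iff] at hw; subst hw; exact (hzc a ha).symm
  have hcop : (Nat.card C).Coprime (Nat.card B) := by
    refine Nat.coprime_of_dvd fun q hq hqC hqB => ?_
    haveI := Fact.mk hq
    obtain ⟨b, hb⟩ := exists_prime_orderOf_dvd_card' (G := C) q hqC
    have hbord : orderOf (b : G) = q := by rw [orderOf_coe, hb]
    obtain ⟨B', h', hbB, -⟩ := exists_pair_of_orderOf h hq hqB hbord
    obtain ⟨s, hs, hsB, hsq⟩ := h'.twoB q
    haveI := Fact.mk hs
    refine not_central_part c h' hzA hzc hz1 hs hsB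
      (c.centralizer_ne_top (g := (b : G)) fun e => hq.one_lt.ne
        (by rw [← hbord, e, orderOf_one])) ?_
      (part_le_centralizer_singleton h'.nilB hsq hbB)
    exact mem_centralizer_iff.2 fun w hw => by
      rw [Set.mem_singleton_iff] at hw; subst hw
      exact (mem_centralizer_iff.1 b.2 z rfl).symm
  have hle : Nat.card C ≤ Nat.card A :=
    Nat.le_of_dvd Nat.card_pos (hcop.dvd_of_dvd_mul_right (h.card_mul ▸ card_subgroup_dvd_card C))
  exact (eq_of_le_of_card_ge hAC hle).ge

/-- In a proper solvable factorised subgroup containing a part of `A` and a central element of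
order a prime `p`, the centralizer of the `p`-core lies in `A`. -/
theorem centralizer_core_le (c : Ctx G) (h : Pair A B) {K : Subgroup G} (hK : K ≠ ⊤)
    (hfac : Fact' A B K) {s : ℕ} (hs : s.Prime) (hsA : s ∣ Nat.card A) (hsK : part s A ≤ K)
    {p : ℕ} (hp : p.Prime) {z : G} (hzA : z ∈ A) (hzp : orderOf z = p)
    (hzc : ∀ a ∈ A, a * z = z * a) (hzK : z ∈ K) :
    coreIn p K ≤ A ∧ ∀ k ∈ K, (∀ y ∈ coreIn p K, Commute k y) → k ∈ A := by
  haveI := Fact.mk hp
  haveI := c.small A B h K hK hfac
  have hpA : p ∣ Nat.card A := hzp ▸ orderOf_dvd_natCard A hzA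
  have hz1 : z ≠ 1 := fun e => hp.one_lt.ne (by rw [← hzp, e, orderOf_one])
  have hcore : ∀ r : ℕ, r.Prime → coreIn r K ≤ A := by
    intro r hr
    haveI := Fact.mk hr
    by_cases hne : coreIn r K = ⊥
    · rw [hne]; exact bot_le
    have hRp : IsPGroup r (coreIn r K) := isPGroup_coreIn r K
    by_cases hrA : r ∣ Nat.card A
    · exact le_left_of_isPGroup h hfac hrA (coreIn_le r K) (le_normalizer_coreIn r K) hRp
    exfalso
    obtain ⟨k, hk⟩ := IsPGroup.iff_card.1 hRp
    have hrG : r ∣ Nat.card A * Nat.card B := by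
      rw [h.card_mul]
      refine (dvd_pow_self r fun e => hne (eq_bot_of_card_eq _ ?_)).trans
        (hk ▸ card_subgroup_dvd_card _)
      rw [hk, e, pow_zero]
    have hrB : r ∣ Nat.card B := (hr.dvd_mul.1 hrG).resolve_left hrA
    have hRB := le_left_of_isPGroup h.symm hfac.symm hrB (coreIn_le r K)
      (le_normalizer_coreIn r K) hRp
    obtain ⟨t, ht, htB, htr⟩ := h.twoB r
    haveI := Fact.mk ht
    exact not_both c h hs ht hsA htB
      (c.normalizer_ne_top hne fun e => hK (top_le_iff.1 (e ▸ coreIn_le r K)))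
      (hsK.trans (le_normalizer_coreIn r K))
      ((part_le_centralizer h.nilB htr hRp hRB).trans
        (centralizer_le_normalizer (coreIn r K : Set G)))
  refine ⟨hcore p hp, fun k hk hcomm => centralizer_central_le c h hzA hzc hz1 ?_⟩
  have hzF := mem_fitting_of_commute hzK fun r hr y hy => (hzc y (hcore r hr hy)).symm
  set F := Cfsg.fittingSubgroup K with hF
  haveI := Fitting.fitting_isNilpotent (G := K)
  have hzpow : IsPGroup p (zpowers (⟨⟨z, hzK⟩, hzF⟩ : F)) :=
    IsPGroup.of_card (n := 1) (by rw [Nat.card_zpowers, pow_one, orderOf_mk, orderOf_mk, hzp])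
  obtain ⟨P, hP⟩ := hzpow.exists_le_sylow
  have hzcore : z ∈ coreIn p K := by
    refine ⟨⟨z, hzK⟩, ?_, rfl⟩
    rw [SetLike.mem_coe, ← Fitting.sylow_fitting_eq_pCore P]
    exact ⟨⟨⟨z, hzK⟩, hzF⟩, hP (mem_zpowers _), rfl⟩
  exact mem_centralizer_iff.2 fun w hw => by
    rw [Set.mem_singleton_iff] at hw; subst hw; exact (hcomm w hzcore).eq.symm

/-- The normalizer of a part of `A` normalizes `A`. -/
theorem normalizer_part_le (c : Ctx G) (h : Pair A B) {r : ℕ} (hr : r.Prime)
    (hrA : r ∣ Nat.card A) : normalizer (part r A : Set G) ≤ normalizer (A : Set G) := by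
  haveI := Fact.mk hr
  set K := normalizer (part r A : Set G) with hKdef
  have hAK : A ≤ K := le_normalizer_part r A
  have hK : K ≠ ⊤ := c.normalizer_ne_top (part_ne_bot h.nilA r hrA) fun e =>
    h.ne_top_left (top_le_iff.1 (e ▸ part_le r A))
  have hfac : Fact' A B K := fun g hg => by
    obtain ⟨a, ha, b, hb, rfl⟩ := h.prod g
    exact ⟨a, ⟨hAK ha, ha⟩, b, ⟨by simpa using mul_mem (inv_mem (hAK ha)) hg, hb⟩, rfl⟩
  intro k hk
  refine mem_normalizer_of_conj fun x hx => ?_
  suffices hle : MulAut.conj k • A ≤ A from Coprime.conj_smul_le.1 hle x hx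
  refine le_of_parts ?_ fun t ht htA => ?_
  · haveI := h.nilA
    exact Group.nilpotent_of_mulEquiv (Subgroup.equivSMul (MulAut.conj k) A)
  rw [part_smul]
  haveI := Fact.mk ht
  refine Coprime.conj_smul_le.2 fun w hw => ?_
  obtain ⟨p, hp, hpA, hpt⟩ := h.twoA t
  haveI := Fact.mk hp
  obtain ⟨z, hzA, hzp, hzc⟩ := exists_central h.nilA p hpA
  obtain ⟨hT, hC⟩ := centralizer_core_le c h hK hfac hr hrA le_normalizer hp hzA hzp hzc (hAK hzA)
  refine hC _ (mul_mem (mul_mem hk (hAK (part_le t A hw))) (inv_mem hk)) fun y hy => ?_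
  have hy' : k⁻¹ * y * k ∈ coreIn p K := by
    have := (mem_normalizer_iff.1 (le_normalizer_coreIn p K (inv_mem hk)) y).1 hy
    simpa using this
  have hcw : Commute w (k⁻¹ * y * k) := (mem_centralizer_iff.1
    (part_le_centralizer h.nilA (fun e => hpt e.symm) (isPGroup_coreIn p K) hT hw) _ hy').symm
  have := (Commute.map hcw (MulAut.conj k).toMonoidHom).eq
  simp only [MulEquiv.coe_toMonoidHom, MulAut.conj_apply] at this
  simpa [Commute, SemiconjBy, mul_assoc] using this

/-- A conjugate of a central element lying in `A` comes from the normalizer of `A`. -/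
theorem mem_normalizer_of_central (c : Ctx G) (h : Pair A B) {p : ℕ} (hp : p.Prime) {z g : G}
    (hzA : z ∈ A) (hzp : orderOf z = p) (hzc : ∀ a ∈ A, a * z = z * a)
    (hg : g * z * g⁻¹ ∈ A) : g ∈ normalizer (A : Set G) := by
  haveI := Fact.mk hp
  obtain ⟨r, hr, hrA, hrp⟩ := h.twoA p
  haveI := Fact.mk hr
  have hz1 : z ≠ 1 := fun e => hp.one_lt.ne (by rw [← hzp, e, orderOf_one])
  have hord : orderOf (g * z * g⁻¹) = p := by
    rw [← hzp]; exact orderOf_injective (MulAut.conj g).toMonoidHom (MulEquiv.injective _) z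
  have hle : part r A ≤ MulAut.conj g • A := by
    intro y hy
    rw [Coprime.mem_conj_smul]
    refine centralizer_central_le c h hzA hzc hz1 (mem_centralizer_iff.2 fun w hw => ?_)
    rw [Set.mem_singleton_iff] at hw
    subst hw
    have h1 : Commute y (g * w * g⁻¹) := commute_of_mem h.nilA (part_le r A hy) hg (by
      obtain ⟨i, hi⟩ := IsPGroup.iff_orderOf.1 (isPGroup_part h.nilA r) ⟨y, hy⟩
      rw [orderOf_mk] at hi
      rw [hi, hord]
      exact ((Nat.coprime_primes hr hp).2 hrp).pow_left _)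
    have := (Commute.map h1 (MulAut.conj g⁻¹).toMonoidHom).eq
    simp only [MulEquiv.coe_toMonoidHom, MulAut.conj_apply] at this
    simpa [mul_assoc] using this.symm
  have heq : MulAut.conj g • part r A = part r A := by
    rw [← part_smul]
    refine (eq_of_le_of_card_ge (le_part (isPGroup_part h.nilA r) hle) ?_).symm
    rw [part_smul, Coprime.card_conj_smul]
  exact normalizer_part_le c h hr hrA (mem_normalizer_of_conj (Coprime.conj_smul_le.1 heq.le))

/-- A factorised proper subgroup containing a part and the centre of `A` normalizes `A`. -/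
theorem factorised_le_normalizer (c : Ctx G) (h : Pair A B) {K : Subgroup G} (hK : K ≠ ⊤)
    (hfac : Fact' A B K) {s : ℕ} (hs : s.Prime) (hsA : s ∣ Nat.card A) (hsK : part s A ≤ K)
    (hZK : ∀ z ∈ A, (∀ a ∈ A, a * z = z * a) → z ∈ K) : K ≤ normalizer (A : Set G) := by
  obtain ⟨p, hp, hpA, -⟩ := h.twoA 0
  obtain ⟨r, hr, hrA, hrp⟩ := h.twoA p
  haveI := Fact.mk hp
  haveI := Fact.mk hr
  obtain ⟨z, hzA, hzp, hzc⟩ := exists_central h.nilA p hpA
  obtain ⟨w, hwA, hwr, hwc⟩ := exists_central h.nilA r hrA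
  obtain ⟨hT, hC⟩ := centralizer_core_le c h hK hfac hs hsA hsK hp hzA hzp hzc (hZK z hzA hzc)
  intro k hk
  refine mem_normalizer_of_central c h hr hwA hwr hwc
    (hC _ (mul_mem (mul_mem hk (hZK w hwA hwc)) (inv_mem hk)) fun y hy => ?_)
  have hy' : k⁻¹ * y * k ∈ coreIn p K := by
    have := (mem_normalizer_iff.1 (le_normalizer_coreIn p K (inv_mem hk)) y).1 hy
    simpa using this
  have := (Commute.map (show Commute w (k⁻¹ * y * k) from (hwc _ (hT hy')).symm)
    (MulAut.conj k).toMonoidHom).eq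
  simp only [MulEquiv.coe_toMonoidHom, MulAut.conj_apply] at this
  simpa [Commute, SemiconjBy, mul_assoc] using this

omit [Finite G] in
/-- An element of one factor normalizing the other has factorised centralizer. -/
theorem fact_centralizer (hAB : ∀ g : G, ∃ a ∈ A, ∃ b ∈ B, g = a * b) (hd : A ⊓ B = ⊥) {x : G}
    (hxA : x ∈ A) (hxB : x ∈ normalizer (B : Set G)) :
    Fact' A B (centralizer ({x} : Set G)) := by
  intro g hg
  obtain ⟨a, ha, b, hb, rfl⟩ := hAB g
  have hgx : x * (a * b) = a * b * x := mem_centralizer_iff.1 hg x rfl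
  have h1 : b * x * b⁻¹ * x⁻¹ ∈ B := by
    rw [show b * x * b⁻¹ * x⁻¹ = b * (x * b⁻¹ * x⁻¹) by group]
    exact mul_mem hb ((mem_normalizer_iff.1 hxB _).1 (inv_mem hb))
  have h2 : b * x * b⁻¹ * x⁻¹ ∈ A := by
    have : b * x * b⁻¹ * x⁻¹ = a⁻¹ * x * a * x⁻¹ := by
      calc b * x * b⁻¹ * x⁻¹ = a⁻¹ * (a * b * x) * b⁻¹ * x⁻¹ := by group
        _ = _ := by rw [← hgx]; group
    rw [this]
    exact mul_mem (mul_mem (mul_mem (inv_mem ha) hxA) ha) (inv_mem hxA)
  have h3 : b * x * b⁻¹ * x⁻¹ = 1 := mem_bot.1 (hd ▸ (⟨h2, h1⟩ : _ ∈ A ⊓ B))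
  have hb' : b ∈ centralizer ({x} : Set G) := mem_centralizer_iff.2 fun w hw => by
    rw [Set.mem_singleton_iff] at hw
    subst hw
    exact (mul_inv_eq_iff_eq_mul.1 (mul_inv_eq_one.1 h3)).symm
  exact ⟨a, ⟨by simpa using mul_mem hg (inv_mem hb'), ha⟩, b, ⟨hb', hb⟩, rfl⟩

/-- The centralizer of a prime-order element of `A` normalizing `B` normalizes `A`. -/
theorem centralizer_le_normalizer_of_mem (c : Ctx G) (h : Pair A B) {p : ℕ} (hp : p.Prime)
    {a : G} (haA : a ∈ A) (hap : orderOf a = p) (haB : a ∈ normalizer (B : Set G)) :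
    centralizer ({a} : Set G) ≤ normalizer (A : Set G) := by
  haveI := Fact.mk hp
  obtain ⟨r, hr, hrA, hrp⟩ := h.twoA p
  haveI := Fact.mk hr
  refine factorised_le_normalizer c h (c.centralizer_ne_top fun e => hp.one_lt.ne
    (by rw [← hap, e, orderOf_one])) (fact_centralizer h.prod h.inf_eq_bot haA haB) hr hrA
    (part_le_centralizer_singleton h.nilA hrp (mem_part haA ⟨1, by rw [hap, pow_one]⟩))
    fun z _ hzc => mem_centralizer_iff.2 fun w hw => ?_
  rw [Set.mem_singleton_iff] at hw
  subst hw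
  exact hzc w haA

theorem index_normalizer_coprime (h : Pair A B) {K : Subgroup G}
    (hK : K ≤ normalizer (A : Set G)) (hcop : (Nat.card K).Coprime (Nat.card B)) : K ≤ A := by
  intro k hk
  have hN : (A.subgroupOf (normalizer (A : Set G))).Normal := normal_in_normalizer
  have h1 : orderOf (QuotientGroup.mk' (A.subgroupOf (normalizer (A : Set G)))
      ⟨k, hK hk⟩) ∣ Nat.card B := by
    refine (_root_.orderOf_dvd_natCard _).trans ?_
    rw [← h.index_left, ← index_eq_card]
    exact relIndex_dvd_index_of_le le_normalizer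
  have h2 : orderOf (QuotientGroup.mk' (A.subgroupOf (normalizer (A : Set G)))
      ⟨k, hK hk⟩) ∣ Nat.card K := by
    refine (orderOf_map_dvd _ _).trans ?_
    rw [orderOf_mk]
    exact orderOf_dvd_natCard K hk
  have h3 := orderOf_eq_one_iff.1 (Nat.eq_one_of_dvd_coprimes hcop h2 h1)
  exact (QuotientGroup.eq_one_iff (⟨k, hK hk⟩ : normalizer (A : Set G))).1 h3

/-- The centralizer of every prime-order element of `A` normalizes `A`. -/
theorem centralizer_le_normalizer_factor (c : Ctx G) (h : Pair A B) {p : ℕ} (hp : p.Prime)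
    {a : G} (haA : a ∈ A) (hap : orderOf a = p) :
    centralizer ({a} : Set G) ≤ normalizer (A : Set G) := by
  haveI := Fact.mk hp
  set K := centralizer ({a} : Set G) with hKdef
  have ha1 : a ≠ 1 := fun e => hp.one_lt.ne (by rw [← hap, e, orderOf_one])
  have haP : a ∈ part p A := mem_part haA ⟨1, by rw [hap, pow_one]⟩
  have hmemK : ∀ {x : G}, x * a = a * x → x ∈ K := fun {x} e =>
    mem_centralizer_iff.2 fun w hw => by rw [Set.mem_singleton_iff] at hw; subst hw; exact e.symm
  by_cases hcase : (Nat.card (K ⊓ normalizer (A : Set G) : Subgroup G)).Coprime (Nat.card B)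
  swap
  · -- an element of `B` centralizes `a` and normalizes `A`
    obtain ⟨q, hq, hq1, hqB⟩ := Nat.Prime.not_coprime_iff_dvd.1 hcase
    haveI := Fact.mk hq
    obtain ⟨b, hb⟩ := exists_prime_orderOf_dvd_card'
      (G := (K ⊓ normalizer (A : Set G) : Subgroup G)) q hq1
    have hbord : orderOf (b : G) = q := by rw [orderOf_coe, hb]
    obtain ⟨B', h', hbB, -⟩ := exists_pair_of_orderOf h hq hqB hbord
    have haK : a ∈ centralizer ({(b : G)} : Set G) := mem_centralizer_iff.2 fun w hw => by
      rw [Set.mem_singleton_iff] at hw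
      subst hw
      exact (mem_centralizer_iff.1 b.2.1 a rfl).symm
    exact centralizer_le_normalizer_of_mem c h' hp haA hap
      (centralizer_le_normalizer_of_mem c h'.symm hq (part_le q B' hbB) hbord b.2.2 haK)
  · -- otherwise `A ⊓ K` has a normal complement in `K`, which must be trivial
    set W := A ⊓ K with hWdef
    have hWK : W ≤ K := inf_le_right
    have hKN : K ⊓ normalizer (A : Set G) ≤ W :=
      le_inf (index_normalizer_coprime h inf_le_right hcase) inf_le_left
    have hWnil : Group.IsNilpotent W := Fitting.isNilpotent_of_le h.nilA inf_le_left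
    have hZK : ∀ z ∈ A, (∀ x ∈ A, x * z = z * x) → z ∈ K := fun z _ hzc =>
      hmemK (hzc a haA).symm
    obtain ⟨r, hr, hrA, hrp⟩ := h.twoA p
    haveI := Fact.mk hr
    obtain ⟨w, hwA, hwr, hwc⟩ := exists_central h.nilA r hrA
    have hpW : p ∣ Nat.card (W.subgroupOf K) := by
      rw [Nat.card_congr (subgroupOfEquivOfLe hWK).toEquiv, ← hap]
      exact orderOf_dvd_natCard W ⟨haA, hmemK rfl⟩
    have hrW : r ∣ Nat.card (W.subgroupOf K) := by
      rw [Nat.card_congr (subgroupOfEquivOfLe hWK).toEquiv, ← hwr]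
      exact orderOf_dvd_natCard W ⟨hwA, hZK w hwA hwc⟩
    obtain ⟨U, hU, hUc⟩ := Cfsg.Agent.S0558.normal_complement (W.subgroupOf K)
      (fun s hs P e => by
        haveI := Fact.mk hs
        obtain ⟨k, hk⟩ := IsPGroup.iff_card.1 P.isPGroup'
        rw [e] at hk
        rw [hk] at hpW hrW
        exact hrp (((Nat.prime_dvd_prime_iff_eq hr hs).1 (hr.dvd_of_dvd_pow hrW)).trans
          ((Nat.prime_dvd_prime_iff_eq hp hs).1 (hp.dvd_of_dvd_pow hpW)).symm))
      (fun t ht htW P => by
        haveI := Fact.mk ht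
        set P' := (P : Subgroup (W.subgroupOf K)).map (W.subgroupOf K).subtype with hP'
        have hP'W : P' ≤ W.subgroupOf K := map_subtype_le _
        haveI hnil : Group.IsNilpotent (W.subgroupOf K) := by
          haveI := hWnil
          exact Group.nilpotent_of_mulEquiv (subgroupOfEquivOfLe hWK).symm
        have hPn : (P : Subgroup (W.subgroupOf K)).Normal := inferInstance
        refine le_antisymm (fun n hn => ?_) ?_
        · have htA : t ∣ Nat.card A := by
            rw [Nat.card_congr (subgroupOfEquivOfLe hWK).toEquiv] at htW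
            exact htW.trans (card_dvd_of_le inf_le_left)
          obtain ⟨z, hzA, hzt, hzc⟩ := exists_central h.nilA t htA
          have hzW : (⟨z, hZK z hzA hzc⟩ : K) ∈ W.subgroupOf K := ⟨hzA, hZK z hzA hzc⟩
          have hzP : (⟨z, hZK z hzA hzc⟩ : K) ∈ P' := by
            refine ⟨⟨_, hzW⟩, ?_, rfl⟩
            have hz : IsPGroup t (zpowers (⟨_, hzW⟩ : W.subgroupOf K)) :=
              IsPGroup.of_card (n := 1)
                (by rw [Nat.card_zpowers, pow_one, orderOf_mk, orderOf_mk, hzt])
            have hsup := IsPGroup.to_sup_of_normal_left P.isPGroup' hz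
            rw [SetLike.mem_coe, ← P.is_maximal' hsup le_sup_left]
            exact mem_sup_right (mem_zpowers (⟨_, hzW⟩ : W.subgroupOf K))
          have h1 := hP'W ((mem_normalizer_iff.1 hn _).1 hzP)
          exact hKN ⟨n.2, mem_normalizer_of_central c h ht hzA hzt hzc h1.1⟩
        · intro x hx
          refine mem_normalizer_of_conj fun y hy => ?_
          obtain ⟨y', hy', rfl⟩ := hy
          exact ⟨⟨x, hx⟩ * y' * ⟨x, hx⟩⁻¹, hPn.conj_mem y' hy' _, rfl⟩)
    haveI := hU
    -- `U` has order prime to `|A|`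
    have hUcop : (Nat.card A).Coprime (Nat.card U) := by
      refine Nat.coprime_of_dvd fun t ht htA htU => ?_
      haveI := Fact.mk ht
      obtain ⟨z, hzA, hzt, hzc⟩ := exists_central h.nilA t htA
      let Z : Subgroup K := zpowers ⟨z, hZK z hzA hzc⟩
      letI : MulAction Z U := MulAction.compHom U ((MulAut.conjNormal (H := U)).comp Z.subtype)
      have hZ : IsPGroup t Z :=
        IsPGroup.of_card (n := 1) (by rw [Nat.card_zpowers, pow_one, orderOf_mk, hzt])
      obtain ⟨v, hv, hv1⟩ := hZ.exists_fixed_point_of_prime_dvd_card_of_fixed_point U htU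
        (a := (1 : U)) (fun g => map_one ((MulAut.conjNormal (H := U)) (g : K)))
      refine hv1 (Subtype.ext ?_).symm
      have hfix := congrArg Subtype.val (hv ⟨_, mem_zpowers (⟨z, hZK z hzA hzc⟩ : K)⟩)
      have h1 : (⟨z, hZK z hzA hzc⟩ : K) * (v : K) * (⟨z, hZK z hzA hzc⟩ : K)⁻¹ = v := hfix
      have h2 : ((v : K) : G) ∈ A := by
        refine centralizer_central_le c h hzA hzc
          (fun e => ht.one_lt.ne (by rw [← hzt, e, orderOf_one]))
          (mem_centralizer_iff.2 fun w hw => ?_)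
        rw [Set.mem_singleton_iff] at hw
        subst hw
        exact congrArg Subtype.val (mul_inv_eq_iff_eq_mul.1 h1)
      exact mem_bot.1 (hUc.disjoint.le_bot ⟨v.2, h2, (v : K).2⟩)
    -- `U` is trivial
    have hUbot : U = ⊥ := by
      by_contra hne
      set U' := U.map K.subtype with hU'
      have hcard : Nat.card U' = Nat.card U := card_map_of_injective K.subtype_injective
      have hdvd : Nat.card U' ∣ Nat.card B := by
        refine (hcard.symm ▸ hUcop.symm).dvd_of_dvd_mul_left ?_
        rw [h.card_mul]; exact card_subgroup_dvd_card U'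
      obtain ⟨y, hy⟩ := NilpotentSubgroups.exists_le_conj h.nilB
        (by rw [h.symm.index_left]; exact h.cop.symm) U' (fun s _ hd => hd.trans hdvd)
      set B' := MulAut.conj y • B
      have h' : Pair A B' := (h.conj_right y).1
      have hUnil : Group.IsNilpotent U' := Fitting.isNilpotent_of_le h'.nilB hy
      obtain ⟨q, hq, hqU⟩ := Nat.exists_prime_and_dvd (n := Nat.card U') (fun e =>
        hne ((map_eq_bot_iff_of_injective _ K.subtype_injective).1 (eq_bot_of_card_eq _ e)))
      haveI := Fact.mk hq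
      obtain ⟨s, hs, hsB, hsq⟩ := h'.twoB q
      haveI := Fact.mk hs
      have hUne := part_ne_bot hUnil q hqU
      refine not_both c h' hr hs hrA hsB (c.normalizer_ne_top hUne fun e => h'.symm.ne_top_left
        (top_le_iff.1 (e ▸ (part_le q U').trans hy))) ?_ ?_
      · refine ((part_le_centralizer_singleton h.nilA hrp haP).trans ?_).trans
          (normalizer_le_part q U')
        intro k hk
        refine mem_normalizer_of_conj ?_
        rintro _ ⟨u, hu, rfl⟩
        exact ⟨⟨k, hk⟩ * u * ⟨k, hk⟩⁻¹, hU.conj_mem u hu _, rfl⟩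
      · exact (part_le_centralizer h'.nilB hsq (isPGroup_part hUnil q)
          ((part_le q U').trans hy)).trans (centralizer_le_normalizer (part q U' : Set G))
    rw [hUbot, isComplement'_bot_left] at hUc
    intro k hk
    exact le_normalizer ((hUc ▸ mem_top (⟨k, hk⟩ : K) : (⟨k, hk⟩ : K) ∈ W.subgroupOf K).1)

/-- A factor meets its other conjugates trivially, so its order is at most that of the other. -/
theorem card_le (c : Ctx G) (h : Pair A B) : Nat.card A ≤ Nat.card B := by
  obtain ⟨g, hg⟩ : ∃ g, g ∉ normalizer (A : Set G) := by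
    by_contra hcon
    push Not at hcon
    exact c.normalizer_ne_top h.ne_bot_left h.ne_top_left (eq_top_iff.2 fun x _ => hcon x)
  have hTI : ∀ x, x ∈ A → x ∈ MulAut.conj g • A → x = 1 := by
    intro x hxA hxg
    by_contra hx
    set D := A ⊓ MulAut.conj g • A
    obtain ⟨p, hp, hpD⟩ := Nat.exists_prime_and_dvd (n := Nat.card D) (fun e => hx
      (mem_bot.1 ((eq_bot_of_card_eq _ e).le (⟨hxA, hxg⟩ : x ∈ D))))
    haveI := Fact.mk hp
    obtain ⟨d, hd⟩ := exists_prime_orderOf_dvd_card' (G := D) p hpD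
    have hdord : orderOf (d : G) = p := by rw [orderOf_coe, hd]
    obtain ⟨r, hr, hrA, hrp⟩ := h.twoA p
    haveI := Fact.mk hr
    haveI := h.nilA
    have hnilg : Group.IsNilpotent (MulAut.conj g • A : Subgroup G) :=
      Group.nilpotent_of_mulEquiv (Subgroup.equivSMul (MulAut.conj g) A)
    have h1 : part r (MulAut.conj g • A) ≤ normalizer (A : Set G) :=
      (part_le_centralizer_singleton hnilg hrp
        (mem_part d.2.2 ⟨1, by rw [hdord, pow_one]⟩)).trans
        (centralizer_le_normalizer_factor c h hp d.2.1 hdord)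
    have h2 : part r (MulAut.conj g • A) ≤ A := by
      refine index_normalizer_coprime h h1 ?_
      obtain ⟨k, hk⟩ := IsPGroup.iff_card.1 (isPGroup_part hnilg r)
      rw [hk]
      exact (hr.coprime_iff_not_dvd.2 (h.not_dvd hr hrA)).pow_left _
    refine hg (normalizer_part_le c h hr hrA (mem_normalizer_of_conj
      (Coprime.conj_smul_le.1 ?_)))
    rw [← part_smul]
    exact le_part (isPGroup_part hnilg r) h2
  have hinj : Function.Injective
      (fun z : A × (MulAut.conj g • A : Subgroup G) => (z.1 : G) * z.2) := by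
    rintro ⟨a, b⟩ ⟨a', b'⟩ e
    simp only at e
    have e' : (a' : G)⁻¹ * a = b' * (b : G)⁻¹ := by
      rw [eq_mul_inv_iff_mul_eq, mul_assoc, e, inv_mul_cancel_left]
    have h0 := hTI _ (mul_mem (inv_mem a'.2) a.2) (e' ▸ mul_mem b'.2 (inv_mem b.2))
    have ha : a = a' := Subtype.ext (inv_mul_eq_one.1 h0).symm
    subst ha
    rw [mul_right_inj] at e
    exact Prod.ext rfl (Subtype.ext e)
  have hle := Nat.card_le_card_of_injective _ hinj
  rw [Nat.card_prod, Coprime.card_conj_smul, ← h.card_mul] at hle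
  exact Nat.le_of_mul_le_mul_left hle Nat.card_pos

theorem no_pair (c : Ctx G) (h : Pair A B) : False := by
  have e : Nat.card A = Nat.card B := le_antisymm (card_le c h) (card_le c h.symm)
  have h1 := h.cop
  rw [← e, Nat.coprime_self] at h1
  exact h.ne_bot_left (eq_bot_of_card_eq A h1)

omit [Finite G] in
theorem factor_image {H : Type u} [Group H] {A B : Subgroup G} {f : G →* H}
    (hf : Function.Surjective f) (hAB : ∀ g : G, ∃ a ∈ A, ∃ b ∈ B, g = a * b) :
    ∀ y : H, ∃ a ∈ A.map f, ∃ b ∈ B.map f, y = a * b := fun y => by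
  obtain ⟨x, rfl⟩ := hf y
  obtain ⟨a, ha, b, hb, rfl⟩ := hAB x
  exact ⟨f a, ⟨a, ha, rfl⟩, f b, ⟨b, hb, rfl⟩, map_mul f a b⟩

/-- Burnside's case: if one factor is a `q`-group, the group is not simple non-solvable. -/
theorem not_primePow (hs : IsSimpleGroup G) (hns : ¬ Group.IsSolvable G) {A B : Subgroup G}
    (hA : Group.IsNilpotent A) (hB : Group.IsNilpotent B)
    (hcop : (Nat.card A).Coprime (Nat.card B)) (hAB : ∀ g : G, ∃ a ∈ A, ∃ b ∈ B, g = a * b)
    (q : ℕ) (hq : ∀ r : ℕ, r.Prime → r ∣ Nat.card B → r = q) : False := by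
  by_cases hAb : A = ⊥
  · refine hns ?_
    haveI : Group.IsNilpotent B := hB
    have hBtop : B = ⊤ := eq_top_iff.2 fun g _ => by
      obtain ⟨a, ha, b, hb, rfl⟩ := hAB g
      rw [hAb, mem_bot] at ha
      simpa [ha] using hb
    haveI : Group.IsNilpotent G :=
      Group.nilpotent_of_mulEquiv ((MulEquiv.subgroupCongr hBtop).trans topEquiv)
    infer_instance
  obtain ⟨p, hp, hpA⟩ := Nat.exists_prime_and_dvd (n := Nat.card A)
    (fun e => hAb (eq_bot_of_card_eq _ e))
  haveI := Fact.mk hp
  obtain ⟨z, hzA, hzp, hzc⟩ := exists_central hA p hpA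
  have hAC : A ≤ centralizer ({z} : Set G) := fun a ha => mem_centralizer_iff.2 fun w hw => by
    rw [Set.mem_singleton_iff] at hw; subst hw; exact (hzc a ha).symm
  have hidx : A.index = Nat.card B := by
    refine Nat.eq_of_mul_eq_mul_left (Nat.card_pos (α := A)) ?_
    rw [A.card_mul_index, Factorization.card_mul_card hAB, inf_eq_bot_of_coprime hcop, card_bot,
      mul_one]
  haveI := hs
  have key : ∀ q' : ℕ, q'.Prime → (∀ r : ℕ, r.Prime → r ∣ Nat.card B → r = q') → False := by
    intro q' hq' huniq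
    have hd : (centralizer ({z} : Set G)).index ∣ q' ^ (Nat.card B).primeFactorsList.length := by
      rw [← Nat.eq_prime_pow_of_unique_prime_dvd Nat.card_pos.ne' (fun {r} hr hd => huniq r hr hd)]
      exact hidx ▸ index_dvd_of_le hAC
    obtain ⟨k, -, hk⟩ := (Nat.dvd_prime_pow hq').1 hd
    have hG := Burnside.prime_card_of_prime_power_class (p := q') (k := k) hq'
      (fun e : z = 1 => hp.one_lt.ne (by rw [← hzp, e, orderOf_one])) hk
    haveI := Fact.mk hG
    haveI : IsCyclic G := isCyclic_of_prime_card (p := Nat.card G) rfl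
    exact hns (Group.isSolvable_of_comm fun a b => (IsCyclic.commGroup (α := G)).mul_comm a b)
  by_cases hB1 : Nat.card B = 1
  · exact key 2 Nat.prime_two fun r hr hd => absurd (hB1 ▸ hd) hr.not_dvd_one
  · obtain ⟨s, hs', hsd⟩ := Nat.exists_prime_and_dvd hB1
    exact key s hs' fun r hr hd => (hq r hr hd).trans (hq s hs' hsd).symm

/-- Wielandt: a product of two nilpotent subgroups of coprime orders is solvable. -/
theorem isSolvable_of_coprime : ∀ (n : ℕ) {G : Type u} [Group G] [Finite G], Nat.card G = n →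
    ∀ A B : Subgroup G, Group.IsNilpotent A → Group.IsNilpotent B →
    (Nat.card A).Coprime (Nat.card B) → (∀ g : G, ∃ a ∈ A, ∃ b ∈ B, g = a * b) →
    Group.IsSolvable G := by
  intro n
  induction n using Nat.strong_induction_on with
  | _ n ih =>
  intro G _ _ hn A B hA hB hcop hAB
  subst hn
  rcases subsingleton_or_nontrivial G with hsub | hnt
  · exact Group.isSolvable_of_comm fun a b => Subsingleton.elim _ _
  by_contra hns
  have hsmall : ∀ A B : Subgroup G, Group.IsNilpotent A → Group.IsNilpotent B →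
      (Nat.card A).Coprime (Nat.card B) → ∀ L : Subgroup G, L ≠ ⊤ → Fact' A B L →
      Group.IsSolvable L := by
    intro A B hA hB hcop L hL hfac
    haveI := hA
    haveI := hB
    refine ih _ (lt_of_le_of_ne (card_le_card_group L) fun e => hL (eq_top_of_card_eq L e)) rfl
      (A.subgroupOf L) (B.subgroupOf L) ?_ ?_ ?_ fun z => ?_
    · rw [← inf_subgroupOf_right]
      haveI := Fitting.isNilpotent_of_le hA (inf_le_left : A ⊓ L ≤ A)
      exact Group.nilpotent_of_mulEquiv (subgroupOfEquivOfLe (inf_le_right : A ⊓ L ≤ L)).symm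
    · rw [← inf_subgroupOf_right]
      haveI := Fitting.isNilpotent_of_le hB (inf_le_left : B ⊓ L ≤ B)
      exact Group.nilpotent_of_mulEquiv (subgroupOfEquivOfLe (inf_le_right : B ⊓ L ≤ L)).symm
    · exact (hcop.coprime_dvd_left (card_comap_dvd_of_injective A L.subtype L.subtype_injective)
        ).coprime_dvd_right (card_comap_dvd_of_injective B L.subtype L.subtype_injective)
    · obtain ⟨a, ha, b, hb, e⟩ := hfac z z.2
      exact ⟨⟨a, ha.1⟩, ha.2, ⟨b, hb.1⟩, hb.2, Subtype.ext e⟩
  have hsimple : IsSimpleGroup G := by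
    refine { toNontrivial := hnt, eq_bot_or_eq_top_of_normal := fun N hN => ?_ }
    by_contra hcon
    push Not at hcon
    haveI := hN
    have hdA : A.relIndex N ∣ Nat.card B := by
      refine (SystemNormalizer.relIndex_dvd N A).trans ?_
      rw [Factorization.index_eq_relIndex (Factorization.swap hAB)]
      exact index_dvd_card _
    have hdB : B.relIndex N ∣ Nat.card A := by
      refine (SystemNormalizer.relIndex_dvd N B).trans ?_
      rw [Factorization.index_eq_relIndex hAB]
      exact index_dvd_card _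
    haveI : Group.IsSolvable N := hsmall A B hA hB hcop N hcon.2 fun g hg => by
      obtain ⟨a, ha, b, hb, e⟩ := (ComplementSystem.coprime_index_product
        (H := A.subgroupOf N) (D := B.subgroupOf N)
        (Nat.Coprime.coprime_dvd_left hdA (Nat.Coprime.coprime_dvd_right hdB hcop.symm))).2
        ⟨g, hg⟩
      exact ⟨a, ⟨a.2, ha⟩, b, ⟨b.2, hb⟩, congrArg Subtype.val e⟩
    haveI : Group.IsSolvable (G ⧸ N) := ih _
      (by
        rw [← index_eq_card, ← N.card_mul_index]
        refine lt_mul_of_one_lt_left (Nat.pos_of_ne_zero index_ne_zero_of_finite) ?_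
        exact N.one_lt_card_iff_ne_bot.2 hcon.1) rfl
      (A.map (QuotientGroup.mk' N)) (B.map (QuotientGroup.mk' N))
      (Fitting.isNilpotent_map hA _) (Fitting.isNilpotent_map hB _)
      ((hcop.coprime_dvd_left (card_map_dvd A _)).coprime_dvd_right (card_map_dvd B _))
      (factor_image (QuotientGroup.mk'_surjective N) hAB)
    exact hns (Group.isSolvable_of_ker_le_range N.subtype (QuotientGroup.mk' N)
      (by rw [QuotientGroup.ker_mk', range_subtype]))
  by_cases hA1 : ∀ p : ℕ, ∃ r : ℕ, r.Prime ∧ r ∣ Nat.card A ∧ r ≠ p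
  swap
  · push Not at hA1
    obtain ⟨p, hp⟩ := hA1
    exact not_primePow hsimple hns hB hA hcop.symm (Factorization.swap hAB) p hp
  by_cases hB1 : ∀ p : ℕ, ∃ r : ℕ, r.Prime ∧ r ∣ Nat.card B ∧ r ≠ p
  swap
  · push Not at hB1
    obtain ⟨p, hp⟩ := hB1
    exact not_primePow hsimple hns hA hB hcop hAB p hp
  exact no_pair ⟨hsimple, hns, fun A B h => hsmall A B h.nilA h.nilB h.cop⟩
    (⟨hA, hB, hcop, hAB, hA1, hB1⟩ : Pair A B)

end CfsgLib.KegelWielandtCoprime
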