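import Mathlib
import Cfsg.Agent.Lib.FewOrders.Prime
import Cfsg.Agent.Lib.StrongEmbedding.PSLTwo
import Cfsg.Agent.Lib.ClassicalGroups.SmallIso
import Cfsg.Agent.Lib.Schur.SLTwo

/-!
# Nonsolvable groups all of whose nontrivial elements have prime order
-/

set_option autoImplicit false
set_option linter.style.haveILetI false

namespace CfsgLib.Solvable.PrimeOrders

open Subgroup CfsgLib.StrongEmbedding

universe u

variable {G : Type u} [Group G] [Finite G]

/-- With three prime divisors, a Sylow subgroup central in its normaliser gives solvability. -/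
theorem isSolvable_of_normalizer_le_centralizer (h3 : (Nat.card G).primeFactors.card ≤ 3)
    {p : ℕ} [Fact p.Prime] (hpG : p ∣ Nat.card G) (P : Sylow p G)
    (hP : normalizer ((P : Subgroup G) : Set G) ≤ centralizer (P : Set G)) :
    Group.IsSolvable G := by
  have hK := MonoidHom.ker_transferSylow_isComplement' P hP
  have hnd := MonoidHom.not_dvd_card_ker_transferSylow P hP
  set f := MonoidHom.transferSylow P hP with hf
  have hKs : Group.IsSolvable f.ker := by
    by_contra hns
    have h := CfsgLib.FewOrders.three_le_card_primeFactors hns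
    have hsub : insert p (Nat.card f.ker).primeFactors ⊆ (Nat.card G).primeFactors := by
      intro t ht
      rcases Finset.mem_insert.1 ht with rfl | ht
      · exact (Fact.out : Nat.Prime t).mem_primeFactors hpG Nat.card_pos.ne'
      · exact Nat.primeFactors_mono (card_subgroup_dvd_card _) Nat.card_pos.ne' ht
    have hp : p ∉ (Nat.card f.ker).primeFactors := fun h' => hnd (Nat.dvd_of_mem_primeFactors h')
    have := Finset.card_le_card hsub
    rw [Finset.card_insert_of_notMem hp] at this
    omega
  have hPs : Group.IsSolvable (P : Subgroup G) := by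
    have : Group.IsNilpotent (P : Subgroup G) := P.2.isNilpotent
    infer_instance
  exact Group.isSolvable_of_ker_le_range f.ker.subtype f (by rw [range_subtype])

/-- With three prime divisors, a normal Sylow subgroup gives solvability. -/
theorem isSolvable_of_normal_sylow (h3 : (Nat.card G).primeFactors.card ≤ 3)
    {p : ℕ} [Fact p.Prime] (hpG : p ∣ Nat.card G) (P : Sylow p G) [(P : Subgroup G).Normal] :
    Group.IsSolvable G := by
  have hQ : Group.IsSolvable (G ⧸ (P : Subgroup G)) := by
    by_contra hns
    have h := CfsgLib.FewOrders.three_le_card_primeFactors hns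
    have hi : Nat.card (G ⧸ (P : Subgroup G)) = (P : Subgroup G).index := (index_eq_card _).symm
    have hsub : insert p (Nat.card (G ⧸ (P : Subgroup G))).primeFactors ⊆
        (Nat.card G).primeFactors := by
      intro t ht
      rcases Finset.mem_insert.1 ht with rfl | ht
      · exact (Fact.out : Nat.Prime t).mem_primeFactors hpG Nat.card_pos.ne'
      · exact Nat.primeFactors_mono (card_quotient_dvd_card _) Nat.card_pos.ne' ht
    have hp : p ∉ (Nat.card (G ⧸ (P : Subgroup G))).primeFactors := fun h' =>
      P.not_dvd_index (hi ▸ Nat.dvd_of_mem_primeFactors h')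
    have := Finset.card_le_card hsub
    rw [Finset.card_insert_of_notMem hp] at this
    omega
  have hPs : Group.IsSolvable (P : Subgroup G) := by
    have : Group.IsNilpotent (P : Subgroup G) := P.2.isNilpotent
    infer_instance
  exact Group.isSolvable_of_ker_le_range (P : Subgroup G).subtype
    (QuotientGroup.mk' (P : Subgroup G)) (by rw [QuotientGroup.ker_mk', range_subtype])

/-- A nonsolvable group with three prime divisors, even order and all nontrivial elements of prime
order is alternating of degree five. -/
theorem iso_alternating_of_even (hord : ∀ g : G, g ≠ 1 → (orderOf g).Prime)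
    (h3 : (Nat.card G).primeFactors.card ≤ 3) (hns : ¬ Group.IsSolvable G) (h2 : 2 ∣ Nat.card G) :
    Nonempty (G ≃* alternatingGroup (Fin 5)) := by
  classical
  have := Fact.mk Nat.prime_two
  let T : Sylow 2 G := default
  have hexp : ∀ t : G, orderOf t = 2 → ∀ c ∈ centralizer ({t} : Set G), c ^ 2 = 1 := by
    intro t ht c hc
    rcases eq_or_ne c 1 with rfl | hc1
    · simp
    by_contra h'
    have hcp := hord c hc1
    have hne : orderOf c ≠ 2 := fun h0 => h' (by rw [← h0]; exact pow_orderOf_eq_one c)
    have hcomm : Commute c t := (mem_centralizer_singleton_iff.1 hc)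
    have hco : (orderOf c).Coprime (orderOf t) := by
      rw [ht]; exact (Nat.coprime_primes hcp Nat.prime_two).2 hne
    have hm := hcomm.orderOf_mul_eq_mul_orderOf_of_coprime hco
    have h1 : c * t ≠ 1 := by
      intro h0; rw [h0, orderOf_one, ht] at hm; omega
    have hp := hord _ h1
    rw [hm, ht] at hp
    exact Nat.not_prime_of_mul_eq rfl hcp.ne_one (by norm_num) hp
  have h : ElementaryCentralizers.Hyp T := by
    refine ⟨?_, ?_, fun t ht => ⟨⟨⟨fun a b => Subtype.ext ?_⟩⟩, hexp t ht⟩⟩
    · intro hcyc
      apply hns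
      have h2T : 2 ∣ Nat.card (T : Subgroup G) := T.dvd_card_of_dvd_card h2
      have hT2 : ∀ x ∈ (T : Subgroup G), x ≠ 1 → orderOf x = 2 := by
        intro x hx hx1
        have hp := hord x hx1
        obtain ⟨k, hk⟩ := T.2 ⟨x, hx⟩
        have : orderOf x ∣ 2 ^ k := orderOf_dvd_of_pow_eq_one (congrArg Subtype.val hk)
        exact (Nat.prime_dvd_prime_iff_eq hp Nat.prime_two).1 (hp.dvd_of_dvd_pow this)
      have hc : Nat.card (T : Subgroup G) = 2 := by
        obtain ⟨g, hg⟩ := IsCyclic.exists_ofOrder_eq_natCard (α := (T : Subgroup G))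
        have hg1 : (g : G) ≠ 1 := by
          intro h0
          rw [← orderOf_coe, h0, orderOf_one] at hg
          omega
        have := hT2 g g.2 hg1
        rw [orderOf_coe] at this
        omega
      refine isSolvable_of_normalizer_le_centralizer h3 h2 T fun n hn => ?_
      rw [mem_centralizer_iff]
      intro x hx
      rcases eq_or_ne x 1 with rfl | hx1
      · simp
      have hnx : n * x * n⁻¹ ∈ (T : Subgroup G) := (mem_normalizer_iff.1 hn x).1 hx
      have hnx1 : n * x * n⁻¹ ≠ 1 := fun h0 => hx1 (conj_eq_one_iff.1 h0)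
      obtain ⟨y, z, hyz, hu⟩ := Nat.card_eq_two_iff.1 hc
      have key : ∀ a b : (T : Subgroup G), a ≠ 1 → b ≠ 1 → a = b := by
        intro a b ha hb
        have hm : ∀ w : (T : Subgroup G), w = y ∨ w = z := fun w => by
          have := Set.eq_univ_iff_forall.1 hu w
          simpa using this
        rcases hm a with rfl | rfl <;> rcases hm b with rfl | rfl <;>
          rcases hm 1 with h1 | h1 <;> first | rfl | exact absurd h1.symm ha | exact absurd h1.symm hb
      have e : n * x * n⁻¹ = x := congrArg Subtype.val
        (key ⟨_, hnx⟩ ⟨x, hx⟩ (fun h0 => hnx1 (congrArg Subtype.val h0))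
          (fun h0 => hx1 (congrArg Subtype.val h0)))
      exact (mul_inv_eq_iff_eq_mul.1 e).symm
    · intro hn
      exact hns (isSolvable_of_normal_sylow h3 h2 T)
    · have ha := hexp t ht a a.2
      have hb := hexp t ht b b.2
      have hab := hexp t ht (a * b : G) (mul_mem a.2 b.2)
      rw [pow_two] at ha hb hab
      rw [coe_mul, coe_mul]
      calc (a : G) * b = (a : G)⁻¹ * (b : G)⁻¹ := by
            rw [inv_eq_of_mul_eq_one_right ha, inv_eq_of_mul_eq_one_right hb]
        _ = ((b : G) * a)⁻¹ := by rw [mul_inv_rev]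
        _ = b * a := inv_eq_of_mul_eq_one_right (by
              have := hexp t ht (b * a : G) (mul_mem b.2 a.2)
              rwa [pow_two] at this)
  obtain ⟨F, hF1, hF2, hcard, ⟨e⟩⟩ := PSLTwo.exists_psl h
  set q := Fintype.card F with hq
  obtain ⟨a, ha⟩ := IsPGroup.iff_card.1 T.2
  rw [ha] at hcard
  have ha2 : 2 ≤ a := by
    by_contra hlt
    interval_cases a
    · have h1 : Nat.card (T : Subgroup G) = 1 := by rw [ha]; rfl
      have := T.dvd_card_of_dvd_card h2
      omega
    · exact h.not_cyclic (isCyclic_of_prime_card (p := 2) (by rw [ha]; rfl))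
  have hchar : CharP F 2 := by
    obtain ⟨r, hr⟩ := CharP.exists F
    obtain ⟨n, hrp, hn⟩ := FiniteField.card F r
    have hdvd : r ∣ 2 ^ a := by rw [← hcard, hq, hn]; exact dvd_pow_self r n.pos.ne'
    have : r = 2 := (Nat.prime_dvd_prime_iff_eq hrp Nat.prime_two).1 (hrp.dvd_of_dvd_pow hdvd)
    subst this
    exact hr
  have hinj : Function.Injective
      (QuotientGroup.mk' (Subgroup.center (Matrix.SpecialLinearGroup (Fin 2) F))) := by
    rw [← MonoidHom.ker_eq_bot_iff, QuotientGroup.ker_mk', PSLTwo.center_sl_two_eq_bot]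
  have hSL : ∀ c : Matrix.SpecialLinearGroup (Fin 2) F, c ≠ 1 → (orderOf c).Prime := by
    intro c hc
    have hc' : e.symm (QuotientGroup.mk' _ c) ≠ 1 := by
      rw [Ne, map_eq_one_iff _ e.symm.injective, map_eq_one_iff _ hinj]
      exact hc
    have := hord _ hc'
    rwa [MulEquiv.orderOf_eq, orderOf_injective _ hinj] at this
  have hq4 : 4 ≤ q := by
    rw [hcard]
    calc 4 = 2 ^ 2 := rfl
      _ ≤ 2 ^ a := Nat.pow_le_pow_right (by norm_num) ha2
  obtain ⟨g, hg⟩ := CfsgLib.Schur.exists_split_torus (F := F)
  obtain ⟨c, hc, -⟩ := CfsgLib.Schur.exists_nonsplit_torus (F := F)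
  have hm1 : (q - 1).Prime := by
    have := hSL (CfsgLib.Schur.slDiag g) (fun h0 => by rw [h0, orderOf_one] at hg; omega)
    rwa [hg] at this
  have hp1 : (q + 1).Prime := by
    have := hSL c (fun h0 => by rw [h0, orderOf_one] at hc; omega)
    rwa [hc] at this
  have h3q : q % 3 ≠ 0 := by
    intro h0
    have := Nat.prime_three.dvd_of_dvd_pow (hcard ▸ Nat.dvd_of_mod_eq_zero h0)
    omega
  have hq4' : q = 4 := by
    rcases (show q % 3 = 1 ∨ q % 3 = 2 by omega) with h' | h'
    · have : 3 ∣ q - 1 := by omega
      have := (Nat.prime_dvd_prime_iff_eq Nat.prime_three hm1).1 this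
      omega
    · have : 3 ∣ q + 1 := by omega
      have := (Nat.prime_dvd_prime_iff_eq Nat.prime_three hp1).1 this
      omega
  obtain ⟨e'⟩ := CfsgLib.ClassicalGroups.psl_two_four_alternating (K := F) hq4'
  exact ⟨e.trans e'⟩

end CfsgLib.Solvable.PrimeOrders
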