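import Cfsg.Agent.Lib.KGV.AvoidNormalClosure
import Cfsg.Agent.Lib.Solvable.Fitting
import Cfsg.Agent.Lib.KGV.SquarefreeDegrees
import Cfsg.Agent.Lib.Coprime.Commutator
import Mathlib.GroupTheory.Abelianization.Defs

/-!
A `p`-subgroup subnormal in its join with a conjugate by some element of every class, in a solvable
group, `p` odd.
-/

set_option autoImplicit false
set_option linter.style.haveILetI false
set_option linter.unusedSectionVars false

open scoped Pointwise commutatorElement

namespace CfsgLib.SubnormalJoinClass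

open Subgroup

universe u

theorem le_pCore_aux {p : ℕ} [hp : Fact p.Prime] (hp2 : p ≠ 2) : ∀ (n : ℕ) {G : Type u} [Group G]
    [Finite G], Nat.card G ≤ n → Group.IsSolvable G → ∀ A : Subgroup G, IsPGroup p A →
    (∀ c : G, ∃ g : G, IsConj c g ∧ (A.subgroupOf (A ⊔ MulAut.conj g • A)).IsSubnormal) →
    A ≤ Cfsg.pCore p G := by
  intro n
  induction n with
  | zero =>
    intro G _ _ hn
    have := Nat.card_pos (α := G)
    omega
  | succ n ih =>
  intro G _ _ hn hG A hA h
  classical
  haveI := hG
  -- the quotient by a nontrivial normal subgroup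
  have hquot : ∀ (N : Subgroup G) [N.Normal], N ≠ ⊥ →
      A.map (QuotientGroup.mk' N) ≤ Cfsg.pCore p (G ⧸ N) := by
    intro N _ hN
    set f := QuotientGroup.mk' N
    have hf : Function.Surjective f := QuotientGroup.mk'_surjective _
    have hlt : Nat.card (G ⧸ N) < Nat.card G := by
      rw [← N.index_mul_card]
      exact lt_mul_of_one_lt_right (Nat.pos_of_ne_zero index_ne_zero_of_finite)
        ((Subgroup.one_lt_card_iff_ne_bot _).2 hN)
    refine ih (by omega) (Group.isSolvable_of_surjective hf) _ (hA.map f) fun c => ?_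
    obtain ⟨c, rfl⟩ := hf c
    obtain ⟨g, hcg, hsn⟩ := h c
    refine ⟨f g, f.map_isConj hcg, ?_⟩
    have hmap : (A ⊔ MulAut.conj g • A).map f = A.map f ⊔ MulAut.conj (f g) • A.map f := by
      rw [Subgroup.map_sup]
      congr 1
      rw [show MulAut.conj g • A = A.map (MulAut.conj g).toMonoidHom from rfl,
        show MulAut.conj (f g) • A.map f = (A.map f).map (MulAut.conj (f g)).toMonoidHom from rfl,
        Subgroup.map_map, Subgroup.map_map]
      congr 1
    let F : (A ⊔ MulAut.conj g • A : Subgroup G) →* (A.map f ⊔ MulAut.conj (f g) • A.map f : Subgroup (G ⧸ N)) :=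
      (f.comp (A ⊔ MulAut.conj g • A).subtype).codRestrict _ fun x => hmap ▸ mem_map_of_mem f x.2
    have hF : Function.Surjective F := by
      rintro ⟨y, hy⟩
      rw [← hmap] at hy
      obtain ⟨x, hx, rfl⟩ := hy
      exact ⟨⟨x, hx⟩, rfl⟩
    have h1 := hsn.map hF
    have h2 : (A.subgroupOf (A ⊔ MulAut.conj g • A)).map F =
        (A.map f).subgroupOf (A.map f ⊔ MulAut.conj (f g) • A.map f) := by
      ext ⟨y, hy⟩
      constructor
      · rintro ⟨x, hx, e⟩
        exact mem_subgroupOf.2 ⟨x, mem_subgroupOf.1 hx, congrArg Subtype.val e⟩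
      · intro hy'
        obtain ⟨x, hx, e⟩ := mem_subgroupOf.1 hy'
        exact ⟨⟨x, mem_sup_left hx⟩, mem_subgroupOf.2 hx, Subtype.ext e⟩
    rwa [h2] at h1
  haveI hPn := CfsgLib.Fitting.pCore_normal (G := G) p
  by_cases hP : Cfsg.pCore p G = ⊥
  swap
  · intro x hx
    have h1 := hquot _ hP (mem_map_of_mem _ hx)
    set f := QuotientGroup.mk' (Cfsg.pCore p G) with hf
    have h2 : (Cfsg.pCore p (G ⧸ Cfsg.pCore p G)).comap f ≤ Cfsg.pCore p G := by
      refine CfsgLib.Fitting.le_pCore ((CfsgLib.Fitting.pCore_normal p).comap f) ?_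
      refine (CfsgLib.Fitting.pCore_isPGroup p).comap_of_ker_isPGroup f ?_
      rw [hf, QuotientGroup.ker_mk']
      exact CfsgLib.Fitting.pCore_isPGroup p
    exact h2 h1
  by_contra hle
  obtain ⟨a₀, ha₀, ha₀P⟩ := SetLike.not_le_iff_exists.1 hle
  have ha₀1 : a₀ ≠ 1 := fun e => ha₀P (e ▸ one_mem _)
  obtain ⟨a, haA, hap⟩ : ∃ a ∈ A, orderOf a = p := by
    have hdvd : p ∣ Nat.card A := by
      obtain ⟨k, hk⟩ := IsPGroup.iff_card.1 hA
      rw [hk]
      refine dvd_pow_self p fun e => ha₀1 ?_
      have : A = ⊥ := card_eq_one.1 (by rw [hk, e, pow_zero])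
      exact mem_bot.1 (this ▸ ha₀)
    obtain ⟨b, hb⟩ := exists_prime_orderOf_dvd_card' p hdvd
    exact ⟨b, b.2, by rw [Subgroup.orderOf_coe, hb]⟩
  set F := Cfsg.fittingSubgroup G with hFdef
  haveI hFn : F.Normal := CfsgLib.Fitting.fitting_normal
  haveI : Group.IsNilpotent F := CfsgLib.Fitting.fitting_isNilpotent
  haveI : Nontrivial G := ⟨⟨a₀, 1, ha₀1⟩⟩
  have hF1 : F ≠ ⊥ := CfsgLib.Fitting.fitting_ne_bot
  have hFp : ¬ p ∣ Nat.card F := by
    intro hd
    obtain ⟨P⟩ := (inferInstance : Nonempty (Sylow p F))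
    have h1 : (P : Subgroup F) ≤ ⊥ := by
      haveI : (P : Subgroup F).Normal := P.normal_of_normalizerCondition Group.normalizerCondition_of_isNilpotent
      haveI : (P : Subgroup F).Characteristic := P.characteristic_of_normal inferInstance
      have h2 : (P : Subgroup F).map F.subtype ≤ Cfsg.pCore p G :=
        CfsgLib.Fitting.le_pCore inferInstance (P.isPGroup'.map _)
      rw [hP, le_bot_iff, Subgroup.map_eq_bot_iff_of_injective _ F.subtype_injective] at h2
      exact h2.le
    have h3 := P.card_eq_multiplicity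
    rw [le_bot_iff.1 h1, card_bot] at h3
    exact absurd h3 (Nat.one_lt_pow (hp.out.factorization_pos_of_dvd Nat.card_pos.ne' hd).ne' hp.out.one_lt).ne
  let V := Abelianization F
  let act : G →* MulAut V :=
    { toFun := fun g => (MulAut.conjNormal g : MulAut F).abelianizationCongr
      map_one' := by
        apply MulEquiv.ext
        intro v
        obtain ⟨c, rfl⟩ := QuotientGroup.mk_surjective v
        show Abelianization.of ((MulAut.conjNormal (1 : G) : MulAut F) c) = Abelianization.of c
        rw [map_one]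
        rfl
      map_mul' := fun g h => by
        apply MulEquiv.ext
        intro v
        obtain ⟨c, rfl⟩ := QuotientGroup.mk_surjective v
        show Abelianization.of ((MulAut.conjNormal (g * h) : MulAut F) c) =
          Abelianization.of ((MulAut.conjNormal g : MulAut F) ((MulAut.conjNormal h : MulAut F) c))
        rw [map_mul]
        rfl }
  have hact : ∀ (g : G) (c : F), act g (Abelianization.of c) = Abelianization.of (MulAut.conjNormal g c) :=
    fun g c => rfl
  let φ : G ⧸ F →* MulAut V := QuotientGroup.lift F act fun b hb => by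
    apply MulEquiv.ext
    intro v
    obtain ⟨c, rfl⟩ := QuotientGroup.mk_surjective v
    show act b (Abelianization.of c) = Abelianization.of c
    rw [hact, show (MulAut.conjNormal b c : F) = ⟨b, hb⟩ * c * ⟨b, hb⟩⁻¹ from
      Subtype.ext (by simp [MulAut.conjNormal_apply]), map_mul, map_mul, map_inv, mul_inv_cancel_comm]
  haveI : Finite V := Finite.of_surjective _ QuotientGroup.mk_surjective
  have hcopV : p.Coprime (Nat.card V) := (hp.out.coprime_iff_not_dvd).2 fun hd =>
    hFp (hd.trans (Subgroup.card_quotient_dvd_card _))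
  have haF : a ∉ F := fun e => hFp (by
    have h1 := orderOf_dvd_natCard (⟨a, e⟩ : F)
    rwa [Subgroup.orderOf_mk, hap] at h1)
  -- `a` acts nontrivially
  have hact1 : act a ≠ 1 := by
    intro e
    apply haF
    refine CfsgLib.Fitting.centralizer_fitting_le (G := G) ?_
    have hzF : zpowers a ≤ normalizer (F : Set G) := by
      rw [normalizer_eq_top]; exact le_top
    have hcop : (Nat.card (zpowers a)).Coprime (Nat.card F) := by
      rw [Nat.card_zpowers, hap]
      exact hp.out.coprime_iff_not_dvd.2 hFp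
    have hdec := CfsgLib.Coprime.commutator_sup_centralizer (zpowers a) F hzF hcop (Or.inr inferInstance)
    have hker : zpowers a ≤ act.ker := zpowers_le.2 (MonoidHom.mem_ker.2 e)
    have hcomm : ⁅F, zpowers a⁆ ≤ (commutator F).map F.subtype := by
      refine commutator_le.2 fun c hc b hb => ?_
      have h1 := congrArg (fun f : MulAut V => f (Abelianization.of ⟨c, hc⟩)) (MonoidHom.mem_ker.1 (hker hb))
      simp only [hact, MulAut.one_apply] at h1
      have h2 := QuotientGroup.eq.1 h1
      refine ⟨_, (inferInstance : (commutator F).Normal).conj_mem _ h2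
        (MulAut.conjNormal b ⟨c, hc⟩), ?_⟩
      simp only [Subgroup.coe_subtype, InvMemClass.coe_inv, Subgroup.coe_mul, MulAut.conjNormal_apply,
        commutatorElement_def]
      group
    have hgen : ((F ⊓ centralizer (zpowers a : Set G)).subgroupOf F) = ⊤ := by
      refine frattini_nongenerating (eq_top_iff.2 fun c _ => ?_)
      have h1 : (c : G) ∈ ((F ⊓ centralizer (zpowers a : Set G)).subgroupOf F ⊔ frattini F).map F.subtype := by
        refine (sup_le (hcomm.trans (map_mono ?_)) ?_) (hdec.ge c.2)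
        · refine le_trans ?_ le_sup_right
          exact le_iInf₂ fun M hM => CfsgLib.KGV.Squarefree.commutator_le_of_coatom hM
        · intro x hx
          exact ⟨⟨x, hx.1⟩, mem_sup_left (mem_subgroupOf.2 hx), rfl⟩
      obtain ⟨d, hd, hdc⟩ := h1
      exact Subtype.ext hdc ▸ hd
    refine mem_centralizer_iff.2 fun c hc => ?_
    have h1 : (c : G) ∈ F ⊓ centralizer (zpowers a : Set G) :=
      mem_subgroupOf.1 (hgen.ge (mem_top (⟨c, hc⟩ : F)))
    exact (mem_centralizer_iff.1 h1.2 a (mem_zpowers a)).symm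
  set f := QuotientGroup.mk' F with hfdef
  have hf : Function.Surjective f := QuotientGroup.mk'_surjective _
  set N := normalClosure ({f a} : Set (G ⧸ F)) with hN
  have hNle : N ≤ Cfsg.pCore p (G ⧸ F) := by
    haveI := CfsgLib.Fitting.pCore_normal (G := G ⧸ F) p
    exact normalClosure_le_normal (Set.singleton_subset_iff.2 (hquot F hF1 (mem_map_of_mem f haA)))
  obtain ⟨M, hMn, hMle, hMne, v, hv⟩ := CfsgLib.KGV.Avoid.exists_avoid hp2 _ φ N le_rfl hcopV
    inferInstance ((CfsgLib.Fitting.pCore_isPGroup p).to_le hNle)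
    ⟨f a, subset_normalClosure rfl, hact1⟩
  obtain ⟨c, rfl⟩ := QuotientGroup.mk_surjective v
  obtain ⟨g, hcg, hsn⟩ := h (c : G)
  obtain ⟨k, rfl⟩ := isConj_iff.1 hcg
  set g := k * (c : G) * k⁻¹ with hg
  have hgF : g ∈ F := hFn.conj_mem _ c.2 k
  set X := A ⊔ MulAut.conj g • A with hX
  haveI hXn := CfsgLib.Fitting.pCore_normal (G := X) p
  have hR : A.subgroupOf X ≤ Cfsg.pCore p X :=
    CfsgLib.Fitting.subnormal_pGroup_le_pCore hsn (hA.comap_of_injective X.subtype X.subtype_injective)
  have hXp : IsPGroup p X := by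
    have htop : Cfsg.pCore p X ⊔ (MulAut.conj g • A).subgroupOf X = ⊤ := by
      rw [eq_top_iff]
      intro x _
      have h1 : (x : G) ∈ (Cfsg.pCore p X ⊔ (MulAut.conj g • A).subgroupOf X).map X.subtype := by
        refine (sup_le ?_ ?_ : A ⊔ MulAut.conj g • A ≤ _) x.2
        · exact fun y hy => ⟨⟨y, mem_sup_left hy⟩, mem_sup_left (hR (mem_subgroupOf.2 hy)), rfl⟩
        · exact fun y hy => ⟨⟨y, mem_sup_right hy⟩, mem_sup_right (mem_subgroupOf.2 hy), rfl⟩
      obtain ⟨d, hd, hdx⟩ := h1
      exact Subtype.ext hdx ▸ hd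
    have h1 : IsPGroup p ((MulAut.conj g • A).subgroupOf X) :=
      ((hA.map (MulAut.conj g).toMonoidHom : IsPGroup p (A.map (MulAut.conj g).toMonoidHom)).to_le le_rfl
        : IsPGroup p (MulAut.conj g • A : Subgroup G)).comap_of_injective X.subtype X.subtype_injective
    have h2 : IsPGroup p (Cfsg.pCore p X ⊔ (MulAut.conj g • A).subgroupOf X : Subgroup X) :=
      (CfsgLib.Fitting.pCore_isPGroup p).to_sup_of_normal_left h1
    rw [htop] at h2
    exact fun x => by
      obtain ⟨j, hj⟩ := h2 ⟨x, mem_top x⟩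
      exact ⟨j, congrArg Subtype.val hj⟩
  have hcomm : a * g = g * a := by
    set d := a * g * a⁻¹ * g⁻¹ with hd
    have hdX : d ∈ X := by
      rw [show d = a * (g * a * g⁻¹)⁻¹ by rw [hd]; group]
      exact mul_mem (mem_sup_left haA) (inv_mem (mem_sup_right ⟨a, haA, rfl⟩))
    have hdF : d ∈ F := mul_mem (hFn.conj_mem g hgF a) (inv_mem hgF)
    obtain ⟨j, hj⟩ := hXp ⟨d, hdX⟩
    have hd1 : d = 1 := orderOf_eq_one_iff.1 (Nat.eq_one_of_dvd_coprimes
      ((hp.out.coprime_iff_not_dvd.2 hFp).pow_left j)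
      (orderOf_dvd_of_pow_eq_one (congrArg Subtype.val hj))
      (Subgroup.orderOf_mk d hdF ▸ orderOf_dvd_natCard _))
    rwa [hd, mul_inv_eq_one, mul_inv_eq_iff_eq_mul] at hd1
  set y := k⁻¹ * a * k with hy
  have hyN : f y ∈ N := by
    rw [hy, map_mul, map_mul, map_inv]
    have h1 := (normalClosure_normal (s := ({f a} : Set (G ⧸ F)))).conj_mem (f a)
      (subset_normalClosure rfl) (f k)⁻¹
    rw [inv_inv] at h1
    exact h1
  have hyp : f y ^ p = 1 := by
    rw [← map_pow, hy, show (k⁻¹ * a * k) ^ p = k⁻¹ * a ^ p * k by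
      simpa using conj_pow (a := k⁻¹) (b := a) (i := p), ← hap, pow_orderOf_eq_one]
    simp
  have hyM : f y ∈ M := by
    refine hv (f y) hyN hyp ?_
    show act y (Abelianization.of c) = Abelianization.of c
    rw [hact]
    congr 1
    refine Subtype.ext ?_
    rw [MulAut.conjNormal_apply, hy]
    calc k⁻¹ * a * k * (c : G) * (k⁻¹ * a * k)⁻¹ = k⁻¹ * (a * g) * a⁻¹ * k := by rw [hg]; group
      _ = _ := by rw [hcomm, hg]; group
  refine hMne (le_antisymm hMle (normalClosure_le_normal (Set.singleton_subset_iff.2 ?_)))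
  have h1 := hMn.conj_mem _ hyM (f k)
  rwa [← map_inv, ← map_mul, ← map_mul, show k * y * k⁻¹ = a by rw [hy]; group] at h1

end CfsgLib.SubnormalJoinClass
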