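import Mathlib
import Cfsg.Agent.Lib.Solvable.Supersolvable

/-!
Criteria for supersolvability: order `2 * p ^ n`, hereditary converse of Lagrange.
-/

set_option autoImplicit false

namespace CfsgLib.Supersolvable

open Subgroup

universe u

variable {G : Type u} [Group G]

theorem of_pGroup [Finite G] {p : ℕ} [hp : Fact p.Prime] (h : IsPGroup p G) :
    Cfsg.IsSupersolvable G := by
  induction hn : Nat.card G using Nat.strong_induction_on generalizing G with
  | _ n ih =>
    subst hn
    rcases subsingleton_or_nontrivial G with h' | h'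
    · exact of_subsingleton
    obtain ⟨z, hz⟩ := exists_prime_orderOf_dvd_card' (G := center G) p (by
      obtain ⟨k, hk⟩ := IsPGroup.iff_card.1 (h.to_subgroup (center G))
      have hk0 : k ≠ 0 := by
        rintro rfl
        rw [pow_zero] at hk
        exact h.bot_lt_center.ne' (card_eq_one.1 hk)
      rw [hk]
      exact dvd_pow_self p hk0)
    rw [← orderOf_coe] at hz
    set N := zpowers (z : G) with hN
    have hNn : N.Normal := by
      refine ⟨fun x hx g => ?_⟩
      have hxc : x ∈ center G := zpowers_le.2 z.2 hx
      rwa [mem_center_iff.1 hxc g, mul_inv_cancel_right]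
    have hc : Nat.card N = p := by rw [hN, Nat.card_zpowers, hz]
    exact of_cyclic_normal_quotient N
      (ih _ (card_quotient_lt (ne_bot_of_card_prime hp.out hc)) (h.to_quotient N) rfl)

/-- A group of order `2 * p ^ n` is supersolvable. -/
theorem of_card_two_mul_prime_pow [Finite G] {p n : ℕ} (hp : p.Prime)
    (hG : Nat.card G = 2 * p ^ n) : Cfsg.IsSupersolvable G := by
  induction n generalizing G with
  | zero =>
    have : Fact (Nat.Prime 2) := ⟨Nat.prime_two⟩
    exact of_pGroup (p := 2) (IsPGroup.of_card (n := 1) (by simpa using hG))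
  | succ n ih =>
    by_cases hp2 : p = 2
    · subst hp2
      have : Fact (Nat.Prime 2) := ⟨Nat.prime_two⟩
      exact of_pGroup (p := 2) (IsPGroup.of_card (n := n + 2) (by rw [hG]; ring))
    have : Fact p.Prime := ⟨hp⟩
    obtain ⟨P⟩ := (inferInstance : Nonempty (Sylow p G))
    have hPc : Nat.card P = p ^ (n + 1) := by
      rw [P.card_eq_multiplicity, hG, Nat.factorization_mul (by norm_num) (pow_ne_zero _ hp.ne_zero),
        Finsupp.add_apply, Nat.prime_two.factorization, Finsupp.single_eq_of_ne hp2,
        hp.factorization_pow, Finsupp.single_eq_same, zero_add]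
    have hidx : (P : Subgroup G).index = 2 := by
      have := (P : Subgroup G).card_mul_index
      rw [hPc, hG, mul_comm 2] at this
      exact mul_left_cancel₀ (pow_ne_zero _ hp.ne_zero) this
    have hPn := normal_of_index_eq_two hidx
    obtain ⟨t, ht⟩ := exists_prime_orderOf_dvd_card' (G := G) 2 (hG ▸ dvd_mul_right 2 _)
    have htP : t ∉ (P : Subgroup G) := by
      intro h
      have h1 : orderOf t ∣ Nat.card P := by
        have e : orderOf t = orderOf (⟨t, h⟩ : (P : Subgroup G)) :=
          orderOf_coe (⟨t, h⟩ : (P : Subgroup G))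
        rw [e]
        exact orderOf_dvd_natCard _
      rw [ht, hPc] at h1
      exact hp2 ((Nat.prime_dvd_prime_iff_eq Nat.prime_two hp).1 (Nat.prime_two.dvd_of_dvd_pow h1)).symm
    have htt : t * t = 1 := by
      have := pow_orderOf_eq_one t
      rwa [ht, pow_two] at this
    -- a non-identity element of the centre of `P` of order `p`
    obtain ⟨z, hz⟩ := exists_prime_orderOf_dvd_card' (G := center (P : Subgroup G)) p (by
      obtain ⟨k, hk⟩ := IsPGroup.iff_card.1 (P.isPGroup'.to_subgroup (center (P : Subgroup G)))
      have hk0 : k ≠ 0 := by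
        rintro rfl
        rw [pow_zero] at hk
        have : Nontrivial (P : Subgroup G) :=
          Finite.one_lt_card_iff_nontrivial.1 (hPc ▸ Nat.one_lt_pow n.succ_ne_zero hp.one_lt)
        exact P.isPGroup'.bot_lt_center.ne' (card_eq_one.1 hk)
      rw [hk]
      exact dvd_pow_self p hk0)
    rw [← orderOf_coe, ← orderOf_coe] at hz
    set x : G := ((z : (P : Subgroup G)) : G) with hx
    have hxp : x ^ p = 1 := hz ▸ pow_orderOf_eq_one x
    set x' : G := t * x * t⁻¹ with hx'
    have hxP : x ∈ (P : Subgroup G) := (z : (P : Subgroup G)).2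
    have hx'P : x' ∈ (P : Subgroup G) := hPn.conj_mem x hxP t
    have hcen : ∀ q ∈ (P : Subgroup G), q * x = x * q := fun q hq =>
      congrArg Subtype.val (mem_center_iff.1 z.2 ⟨q, hq⟩)
    have hcen' : ∀ q ∈ (P : Subgroup G), q * x' = x' * q := fun q hq => by
      have h1 := hcen _ (hPn.conj_mem q hq t⁻¹)
      have h2 := congrArg (fun u => t * u * t⁻¹) h1
      rw [inv_inv] at h2
      simpa [hx', mul_assoc] using h2
    have htx' : t * x' * t⁻¹ = x := by
      have : t * x' * t⁻¹ = t * t * x * (t * t)⁻¹ := by rw [hx']; group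
      rw [this, htt, one_mul, inv_one, mul_one]
    -- an element `y` of order `p`, central in `P`, with `t y t⁻¹ ∈ ⟨y⟩`
    obtain ⟨y, hy, hyP, hyc, hty⟩ : ∃ y : G, orderOf y = p ∧ y ∈ (P : Subgroup G) ∧
        (∀ q ∈ (P : Subgroup G), q * y = y * q) ∧ t * y * t⁻¹ ∈ zpowers y := by
      by_cases hxx : x * x' = 1
      · refine ⟨x, hz, hxP, hcen, ?_⟩
        rw [← hx', ← inv_eq_of_mul_eq_one_right hxx]
        exact inv_mem (mem_zpowers x)
      · refine ⟨x * x', ?_, mul_mem hxP hx'P, fun q hq => ?_, ?_⟩
        · refine orderOf_eq_prime ?_ hxx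
          rw [(Commute.mul_pow (hcen x' hx'P).symm p), hxp, hx', conj_pow, hxp, mul_one,
            mul_inv_cancel, mul_one]
        · exact (Commute.mul_right (show Commute q x from hcen q hq) (hcen' q hq)).eq
        · rw [← conj_mul, ← hx', htx', hcen x' hx'P]
          exact mem_zpowers _
    have hgen : ∀ g : G, g ∈ (P : Subgroup G) ∨ ∃ q ∈ (P : Subgroup G), g = q * t := fun g => by
      by_cases hg : g ∈ (P : Subgroup G)
      · exact Or.inl hg
      · refine Or.inr ⟨g * t⁻¹, ?_, by group⟩
        rw [mul_mem_iff_of_index_two hidx]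
        simp [hg, htP]
    set N := zpowers y with hN
    have hNn : N.Normal := by
      have hPfix : ∀ q ∈ (P : Subgroup G), ∀ w ∈ N, q * w * q⁻¹ = w := by
        intro q hq w hw
        obtain ⟨k, rfl⟩ := mem_zpowers_iff.1 hw
        rw [(Commute.zpow_right (show Commute q y from hyc q hq) k).eq, mul_inv_cancel_right]
      refine ⟨fun w hw g => ?_⟩
      rcases hgen g with hg | ⟨q, hq, rfl⟩
      · rwa [hPfix g hg w hw]
      · have h1 : t * w * t⁻¹ ∈ N := by
          obtain ⟨k, rfl⟩ := mem_zpowers_iff.1 hw
          rw [← conj_zpow]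
          exact zpow_mem hty k
        have h2 : q * t * w * (q * t)⁻¹ = q * (t * w * t⁻¹) * q⁻¹ := by group
        rw [h2, hPfix q hq _ h1]
        exact h1
    have hc : Nat.card N = p := by rw [hN, Nat.card_zpowers, hy]
    refine of_cyclic_normal_quotient N (ih ?_)
    have h1 := Subgroup.card_eq_card_quotient_mul_card_subgroup N
    rw [hc, hG, pow_succ, ← mul_assoc] at h1
    exact (mul_right_cancel₀ hp.ne_zero h1).symm

/-- In a group with hereditary converse of Lagrange the Sylow subgroup for the largest prime is
normal. -/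
theorem normal_sylow_of_hereditary_clt [Finite G]
    (h : ∀ H : Subgroup G, Cfsg.HasSubgroupOfEveryOrder H) {p : ℕ} [hp : Fact p.Prime]
    (hdvd : p ∣ Nat.card G) (hmax : ∀ q : ℕ, q.Prime → q ∣ Nat.card G → q ≤ p) (P : Sylow p G) :
    (P : Subgroup G).Normal := by
  induction hn : Nat.card G using Nat.strong_induction_on generalizing G with
  | _ n ih =>
    subst hn
    set q := (Nat.card G).minFac with hq
    have hne : Nat.card G ≠ 1 := fun e => hp.out.not_dvd_one (e ▸ hdvd)
    have hqp : q.Prime := Nat.minFac_prime hne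
    by_cases hqe : q = p
    · -- `G` is a `p`-group
      have hG : IsPGroup p G := by
        refine IsPGroup.of_card (n := (Nat.card G).primeFactorsList.length) ?_
        refine Nat.eq_prime_pow_of_unique_prime_dvd Nat.card_pos.ne' fun {r} hr hrd => ?_
        exact le_antisymm (hmax r hr hrd) (hqe ▸ Nat.minFac_le_of_dvd hr.two_le hrd)
      have hPtop : (P : Subgroup G) = ⊤ :=
        (P.is_maximal' (Q := ⊤) (hG.of_equiv topEquiv.symm) le_top).symm
      rw [hPtop]
      infer_instance
    obtain ⟨d, hd⟩ := Nat.minFac_dvd (Nat.card G)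
    obtain ⟨H₀, hH₀⟩ := h ⊤ d (by rw [card_top]; exact ⟨q, by rw [hd, mul_comm]⟩)
    set H : Subgroup G := H₀.map (⊤ : Subgroup G).subtype with hH
    have hHc : Nat.card H = d := (card_map_subtype _).trans hH₀
    have hidx : H.index = q := by
      have := H.card_mul_index
      rw [hHc, hd, mul_comm q] at this
      refine mul_left_cancel₀ ?_ this
      rintro rfl
      exact Nat.card_pos.ne' (hd.trans (mul_zero _))
    have hHn : H.Normal := normal_of_index_eq_minFac_card hidx
    have hpd : p ∣ d := by
      refine (hp.out.dvd_mul.1 (hd ▸ hdvd)).resolve_left fun h' => ?_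
      exact hqe ((Nat.prime_dvd_prime_iff_eq hp.out hqp).1 h').symm
    have hdlt : Nat.card H < Nat.card G := by
      rw [hHc, hd]
      exact lt_mul_of_one_lt_left (Nat.pos_of_ne_zero fun e => Nat.card_pos.ne' (by rw [hd, e, mul_zero]))
        hqp.one_lt
    -- hereditary property restricted to `H`
    have hher : ∀ K : Subgroup H, Cfsg.HasSubgroupOfEveryOrder K := fun K e he => by
      obtain ⟨L, hL⟩ := h (K.map H.subtype) e
        (by rwa [card_map_subtype])
      exact ⟨L.map (equivMapOfInjective K H.subtype H.subtype_injective).symm.toMonoidHom,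
        (Nat.card_congr (equivMapOfInjective L _
          (equivMapOfInjective K H.subtype H.subtype_injective).symm.injective).toEquiv).symm.trans hL⟩
    -- the Sylow subgroup lies in `H`
    have hPH : (P : Subgroup G) ≤ H := by
      intro x hx
      have h1 : (QuotientGroup.mk' H x) = 1 := by
        rw [← orderOf_eq_one_iff]
        have h2 : orderOf (QuotientGroup.mk' H x) ∣ q := hidx ▸ orderOf_dvd_natCard _
        rcases hqp.eq_one_or_self_of_dvd _ h2 with h3 | h3
        · exact h3
        · exfalso
          have h4 := orderOf_map_dvd (QuotientGroup.mk' H) x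
          rw [h3, (orderOf_coe (⟨x, hx⟩ : (P : Subgroup G)) :
            orderOf x = orderOf (⟨x, hx⟩ : (P : Subgroup G)))] at h4
          have h5 := h4.trans (orderOf_dvd_natCard _)
          obtain ⟨k, hk⟩ := IsPGroup.iff_card.1 P.isPGroup'
          rw [hk] at h5
          exact hqe ((Nat.prime_dvd_prime_iff_eq hqp hp.out).1 (hqp.dvd_of_dvd_pow h5))
      exact (QuotientGroup.eq_one_iff x).1 h1
    have hn' := ih _ hdlt hher (hHc ▸ hpd)
      (fun r hr hrd => hmax r hr (hrd.trans (card_subgroup_dvd_card H))) (P.subtype hPH) rfl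
    have := normal_of_mulEquiv_prime (P.subtype hPH) hn'
    rwa [Sylow.coe_subtype, map_subgroupOf_eq_of_le hPH] at this

/-- A group with a normal Sylow subgroup, all proper subgroups supersolvable and a subgroup of
index `p` is supersolvable. -/
theorem of_normal_sylow_of_index_prime [Finite G] {p : ℕ} [hp : Fact p.Prime]
    (P : Subgroup G) [hPn : P.Normal] (hPp : IsPGroup p P) (hcop : ¬ p ∣ P.index) (hne : P ≠ ⊥)
    (hsub : ∀ H : Subgroup G, H ≠ ⊤ → Cfsg.IsSupersolvable H)
    (M : Subgroup G) (hM : M.index = p) : Cfsg.IsSupersolvable G := by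
  induction hn : Nat.card G using Nat.strong_induction_on generalizing G with
  | _ n ih =>
    subst hn
    have hMne : M ≠ ⊤ := fun e => hp.out.one_lt.ne (by rw [← hM, e, index_top])
    have hsupM : P ⊔ M = ⊤ := by
      have h1 : (P ⊔ M).index ∣ p := hM ▸ index_dvd_of_le le_sup_right
      rcases hp.out.eq_one_or_self_of_dvd _ h1 with h2 | h2
      · exact index_eq_one.1 h2
      · exact absurd (h2 ▸ index_dvd_of_le (le_sup_left : P ≤ P ⊔ M)) hcop
    obtain ⟨k, hk⟩ := IsPGroup.iff_card.1 hPp
    have hrel : P.relIndex M ∣ P.index := relIndex_dvd_index_of_normal P M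
    obtain ⟨K₀, hK₀⟩ := exists_right_complement'_of_coprime (N := P.subgroupOf M) (by
      obtain ⟨j, hj⟩ := IsPGroup.iff_card.1 (hPp.comap_subtype (K := M))
      show Nat.Coprime (Nat.card (P.comap M.subtype)) _
      rw [hj]
      exact Nat.Coprime.pow_left j (hp.out.coprime_iff_not_dvd.2 fun h => hcop (h.trans hrel)))
    set K : Subgroup G := K₀.map M.subtype with hK
    have hKM : K ≤ M := map_subtype_le K₀
    have hsupK : P ⊔ K = ⊤ := by
      rw [eq_top_iff, ← hsupM]
      refine sup_le le_sup_left fun m hm => ?_
      have hm' : (⟨m, hm⟩ : M) ∈ P.subgroupOf M ⊔ K₀ := by rw [hK₀.sup_eq_top]; exact mem_top _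
      obtain ⟨a, ha, b, hb, hab⟩ := mem_sup_of_normal_left.1 hm'
      have : m = (a : G) * (b : G) := (congrArg Subtype.val hab).symm
      rw [this]
      exact mul_mem_sup ha ⟨b, hb, rfl⟩
    have hKss : Cfsg.IsSupersolvable K :=
      hsub K fun e => hMne (top_le_iff.1 (e ▸ hKM))
    -- the elementary abelian normal subgroup inside the centre of `P`
    set Z : Subgroup G := (center P).map P.subtype with hZ
    have hZn : Z.Normal := inferInstance
    have hZne : Z ≠ ⊥ := fun e => by
      have : Nontrivial P := nontrivial_iff_ne_bot P |>.2 hne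
      exact hPp.bot_lt_center.ne' ((map_eq_bot_iff_of_injective _ P.subtype_injective).1 e)
    have hZc : ∀ z ∈ Z, ∀ q ∈ P, q * z * q⁻¹ = z := by
      rintro z ⟨w, hw, rfl⟩ q hq
      have h1 : q * (w : G) = (w : G) * q := congrArg Subtype.val (mem_center_iff.1 hw ⟨q, hq⟩)
      show q * (w : G) * q⁻¹ = (w : G)
      rw [h1, mul_inv_cancel_right]
    obtain ⟨N₀, hN₀, hN₀Z⟩ := CfsgLib.MinNormal.exists_isMinNormal_le hZn hZne
    have hN₀P : N₀ ≤ P := hN₀Z.trans (map_subtype_le _)
    have hkey : ∀ N : Subgroup G, N ≤ Z → K ≤ normalizer (N : Set G) → N.Normal := by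
      intro N hN hKN
      rw [← normalizer_eq_top_iff, eq_top_iff, ← hsupK]
      refine sup_le (fun q hq => ?_) hKN
      rw [mem_normalizer_iff]
      intro w
      constructor
      · intro hw; rwa [hZc w (hN hw) q hq]
      · intro hw
        have h1 : q * w * q⁻¹ ∈ Z := hN hw
        have h2 := hZc _ h1 q⁻¹ (inv_mem hq)
        have h3 : q⁻¹ * (q * w * q⁻¹) * q⁻¹⁻¹ = w := by group
        rw [h3] at h2
        rwa [← h2] at hw
    -- a normal subgroup of order `p`
    obtain ⟨N, hNn, hNP, hNc⟩ : ∃ N : Subgroup G, N.Normal ∧ N ≤ P ∧ Nat.card N = p := by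
      -- find a nontrivial subgroup of the centre of `P`, normalised by `K`, in a proper subgroup
      by_cases hNK : N₀ ⊔ K = ⊤
      · -- `P = N₀`
        have hPN : P = N₀ := by
          refine le_antisymm (fun x hx => ?_) hN₀P
          have hx' : x ∈ N₀ ⊔ K := by rw [hNK]; exact mem_top x
          have := hN₀.1
          obtain ⟨a, ha, b, hb, rfl⟩ := mem_sup_of_normal_left.1 hx'
          have hbP : b ∈ P := by
            have := mul_mem (inv_mem (hN₀P ha)) hx
            rwa [inv_mul_cancel_left] at this
          obtain ⟨b₀, hb₀, rfl⟩ := hb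
          have : b₀ = 1 := by
            have h1 := hK₀.disjoint
            rw [disjoint_iff] at h1
            exact mem_bot.1 (h1 ▸ (⟨hbP, hb₀⟩ : b₀ ∈ P.subgroupOf M ⊓ K₀))
          simpa [this] using ha
        have hPM : (P ⊓ M).Normal := by
          refine hkey _ (inf_le_left.trans (hPN ▸ hN₀Z)) fun c hc => ?_
          rw [mem_normalizer_iff]
          intro w
          have hcP := hPn
          constructor
          · intro hw
            exact ⟨hPn.conj_mem w hw.1 c,
              (mul_mem (mul_mem (hKM hc) hw.2) (inv_mem (hKM hc)) : c * w * c⁻¹ ∈ M)⟩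
          · intro hw
            have h1 : c⁻¹ * (c * w * c⁻¹) * c⁻¹⁻¹ = w := by group
            rw [← h1]
            exact ⟨hPn.conj_mem _ hw.1 c⁻¹,
              (mul_mem (mul_mem (inv_mem (hKM hc)) hw.2) (inv_mem (inv_mem (hKM hc))) :
                c⁻¹ * (c * w * c⁻¹) * c⁻¹⁻¹ ∈ M)⟩
        rcases hN₀.2.2 _ hPM (inf_le_left.trans hPN.le) with h1 | h1
        · refine ⟨P, hPn, le_rfl, ?_⟩
          have h2 : IsComplement' P M := by
            refine isComplement'_of_disjoint_and_mul_eq_univ (disjoint_iff.2 h1) ?_
            rw [← Subgroup.normal_mul, hsupM, coe_top]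
          rw [← h2.index_eq_card, hM]
        · exfalso
          have : P ≤ M := (le_of_eq hPN).trans (h1 ▸ inf_le_right)
          exact hMne (by rwa [sup_eq_right.2 this] at hsupM)
      · have hNKn : N₀ ⊔ K ≠ ⊤ := hNK
        have hss := hsub _ hNKn
        set H := N₀ ⊔ K with hH
        have hc0 : (N₀.subgroupOf H).Normal := hN₀.1.subgroupOf H
        -- a chief series term inside `N₀`
        obtain ⟨m, C, h0, hl, hn', hs⟩ := hss
        by_contra hcon
        have hall : ∀ i, C i ⊓ N₀.subgroupOf H = ⊥ := by
          intro i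
          refine Fin.induction (by rw [h0]; exact bot_inf_eq _) (fun i hi => ?_) i
          by_contra hne'
          obtain ⟨g, hg⟩ := hs i
          have := hn' i.succ
          have := hn' i.castSucc
          -- the intersection embeds in the cyclic quotient
          have hcyc : IsCyclic (C i.succ ⊓ N₀.subgroupOf H : Subgroup H) := by
            have hinj : Function.Injective ((QuotientGroup.mk' (C i.castSucc)).comp
                (C i.succ ⊓ N₀.subgroupOf H : Subgroup H).subtype) := by
              rw [← MonoidHom.ker_eq_bot_iff, eq_bot_iff]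
              intro x hx
              have hx' : (x : H) ∈ C i.castSucc := (QuotientGroup.eq_one_iff _).1 hx
              have : (x : H) ∈ (⊥ : Subgroup H) := hi ▸ (⟨hx', x.2.2⟩ : (x : H) ∈ C i.castSucc ⊓ N₀.subgroupOf H)
              exact Subtype.ext (mem_bot.1 this)
            refine isCyclic_of_injective (((QuotientGroup.mk' (C i.castSucc)).comp
                (C i.succ ⊓ N₀.subgroupOf H : Subgroup H).subtype).codRestrict
                (zpowers (QuotientGroup.mk' (C i.castSucc) g)) fun x => ?_)
              fun a b e => hinj (congrArg Subtype.val e)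
            have hx : (x : H) ∈ C i.castSucc ⊔ zpowers g := hg ▸ x.2.1
            obtain ⟨a, ha, b, hb, hab⟩ := mem_sup_of_normal_left.1 hx
            obtain ⟨j, rfl⟩ := mem_zpowers_iff.1 hb
            refine mem_zpowers_iff.2 ⟨j, ?_⟩
            have ha1 : QuotientGroup.mk' (C i.castSucc) a = 1 := (QuotientGroup.eq_one_iff a).2 ha
            simp only [MonoidHom.comp_apply, Subgroup.coe_subtype, ← hab, map_mul, map_zpow, ha1,
              one_mul]
          obtain ⟨r, R, hr, hRn, hRle, hRc⟩ :=
            exists_normal_prime_le (inferInstance : (C i.succ ⊓ N₀.subgroupOf H).Normal) hcyc hne'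
          set N := R.map H.subtype with hNdef
          have hNle : N ≤ N₀ := by
            rintro x ⟨y, hy, rfl⟩
            exact (hRle hy).2
          have hNn : N.Normal := by
            refine hkey N (hNle.trans hN₀Z) fun c hc => ?_
            have h1 : H ≤ normalizer (N : Set G) := by
              rw [← normal_subgroupOf_iff_le_normalizer (map_subtype_le R)]
              rwa [subgroupOf, comap_map_eq_self_of_injective H.subtype_injective]
            exact h1 ((le_sup_right : K ≤ H) hc)
          have hNc : Nat.card N = r := (card_map_subtype R).trans hRc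
          refine hcon ⟨N, hNn, hNle.trans hN₀P, hNc.trans ?_⟩
          have : r ∣ p ^ k := hk ▸ hNc ▸ card_dvd_of_le (hNle.trans hN₀P)
          exact (Nat.prime_dvd_prime_iff_eq hr hp.out).1 (hr.dvd_of_dvd_pow this)
        have := hall (Fin.last m)
        rw [hl, top_inf_eq, subgroupOf_eq_bot, disjoint_iff] at this
        exact hN₀.2.1 (by rwa [inf_eq_left.2 le_sup_left] at this)
    have : IsCyclic N := isCyclic_of_card_prime hp.out hNc
    apply of_cyclic_normal_quotient N
    have hNne := ne_bot_of_card_prime hp.out hNc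
    set π := QuotientGroup.mk' N
    have hπs : Function.Surjective π := QuotientGroup.mk'_surjective N
    by_cases hPN : P = N
    · -- `G ⧸ N` is an image of `K`
      refine of_surjective hKss (π.comp K.subtype) fun x => ?_
      obtain ⟨g, rfl⟩ := hπs x
      have hg : g ∈ P ⊔ K := by rw [hsupK]; exact mem_top g
      obtain ⟨a, ha, b, hb, rfl⟩ := mem_sup_of_normal_left.1 hg
      refine ⟨⟨b, hb⟩, ?_⟩
      have : π a = 1 := (QuotientGroup.eq_one_iff a).2 (hPN ▸ ha)
      simp [this]
    by_cases hNM : N ≤ M
    · have hker : π.ker ≤ M := by rw [QuotientGroup.ker_mk']; exact hNM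
      have := hPn.map π hπs
      refine ih _ (card_quotient_lt hNne) (P.map π) (hPp.map π) (fun h => hcop ?_) ?_ ?_
        (M.map π) ((index_map_eq _ hπs hker).trans hM) rfl
      · exact h.trans (P.index_map_dvd hπs)
      · intro e
        apply hPN
        rw [Subgroup.map_eq_bot_iff, QuotientGroup.ker_mk'] at e
        exact le_antisymm e hNP
      · intro H hH
        refine of_surjective (hsub (H.comap π) fun e => hH ?_) (π.subgroupComap H)
          (π.subgroupComap_surjective_of_surjective H hπs)
        rw [← map_comap_eq_self_of_surjective hπs H, e, map_top_of_surjective π hπs]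
    · refine of_surjective (hsub M hMne) (π.comp M.subtype) fun x => ?_
      obtain ⟨g, rfl⟩ := hπs x
      have hsup : N ⊔ M = ⊤ := by
        have h1 : (N ⊔ M).index ∣ p := hM ▸ index_dvd_of_le le_sup_right
        rcases hp.out.eq_one_or_self_of_dvd _ h1 with h2 | h2
        · exact index_eq_one.1 h2
        · exfalso
          apply hNM
          have h3 : M = N ⊔ M := eq_of_le_of_card_ge le_sup_right (le_of_eq (by
            have a1 := M.card_mul_index
            have a2 := (N ⊔ M).card_mul_index
            rw [hM] at a1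
            rw [h2, ← a1] at a2
            exact mul_right_cancel₀ hp.out.ne_zero a2))
          exact h3 ▸ le_sup_left
      have hg : g ∈ N ⊔ M := by rw [hsup]; exact mem_top g
      obtain ⟨a, ha, b, hb, rfl⟩ := mem_sup_of_normal_left.1 hg
      refine ⟨⟨b, hb⟩, ?_⟩
      have : π a = 1 := (QuotientGroup.eq_one_iff a).2 ha
      simp [this]

/-- A group all of whose subgroups satisfy the converse of Lagrange is supersolvable. -/
theorem of_hereditary_clt [Finite G] (h : ∀ H : Subgroup G, Cfsg.HasSubgroupOfEveryOrder H) :
    Cfsg.IsSupersolvable G := by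
  induction hn : Nat.card G using Nat.strong_induction_on generalizing G with
  | _ n ih =>
    subst hn
    rcases subsingleton_or_nontrivial G with h' | h'
    · exact of_subsingleton
    obtain ⟨p, hp, hdvd, hmax⟩ := exists_max_prime (Finite.one_lt_card (α := G))
    have : Fact p.Prime := ⟨hp⟩
    obtain ⟨P⟩ := (inferInstance : Nonempty (Sylow p G))
    have hPn := normal_sylow_of_hereditary_clt h hdvd hmax P
    obtain ⟨d, hd⟩ := hdvd
    obtain ⟨M₀, hM₀⟩ := h ⊤ d (by rw [card_top]; exact ⟨p, by rw [hd, mul_comm]⟩)
    have hMc : Nat.card (M₀.map (⊤ : Subgroup G).subtype) = d := (card_map_subtype _).trans hM₀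
    have hidx : (M₀.map (⊤ : Subgroup G).subtype).index = p := by
      have := (M₀.map (⊤ : Subgroup G).subtype).card_mul_index
      rw [hMc, hd, mul_comm p] at this
      refine mul_left_cancel₀ ?_ this
      rintro rfl
      exact Nat.card_pos.ne' (hd.trans (mul_zero _))
    refine of_normal_sylow_of_index_prime (P : Subgroup G) P.isPGroup' P.not_dvd_index
      (P.ne_bot_of_dvd_card ⟨d, hd⟩) (fun H hH => ?_) _ hidx
    refine ih _ (lt_of_le_of_ne (card_le_card_group H) fun e => hH (eq_top_of_card_eq H e)) ?_ rfl
    intro K e he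
    obtain ⟨L, hL⟩ := h (K.map H.subtype) e (by rwa [card_map_subtype])
    exact ⟨L.map (equivMapOfInjective K H.subtype H.subtype_injective).symm.toMonoidHom,
      (Nat.card_congr (equivMapOfInjective L _
        (equivMapOfInjective K H.subtype H.subtype_injective).symm.injective).toEquiv).symm.trans hL⟩

end CfsgLib.Supersolvable
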