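import Mathlib
import Cfsg.Agent.Lib.Solvable.MinNormal
import Cfsg.Agent.Lib.Characters.Burnside

/-!
Wielandt: three solvable subgroups with pairwise coprime indices force solvability; groups with
hereditary subgroups of prime power index are solvable.
-/

set_option autoImplicit false
set_option linter.style.haveILetI false

namespace CfsgLib.ThreeSubgroups

open Subgroup

universe u
variable {G : Type u} [Group G]

/-- Coprime indices: every element is a product. -/
theorem exists_mul_of_coprime_index [Finite G] {H D : Subgroup G}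
    (hcop : H.index.Coprime D.index) :
    H.relIndex D = H.index ∧ ∀ x : G, ∃ d ∈ D, ∃ l ∈ H, x = d * l := by
  have h1 : (H ⊓ D).relIndex D * D.index = (H ⊓ D).index := relIndex_mul_index inf_le_right
  rw [inf_relIndex_right] at h1
  have h2 : H.index ∣ H.relIndex D :=
    hcop.dvd_of_dvd_mul_right (h1 ▸ index_dvd_of_le inf_le_left)
  have h3 : H.relIndex D = H.index := by
    refine le_antisymm ?_ (Nat.le_of_dvd (Nat.pos_of_ne_zero index_ne_zero_of_finite) h2)
    have := relIndex_le_of_le_right (H := H) (le_top : D ≤ ⊤)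
      (by rw [relIndex_top_right]; exact index_ne_zero_of_finite)
    rwa [relIndex_top_right] at this
  refine ⟨h3, fun x => ?_⟩
  let f : D ⧸ H.subgroupOf D → G ⧸ H := Quotient.map' (fun y : D => (y : G)) fun a b h => by
    rw [QuotientGroup.leftRel_apply] at h ⊢
    exact h
  have hinj : Function.Injective f := by
    intro u v
    refine Quotient.inductionOn₂' u v fun a b h => ?_
    exact QuotientGroup.eq.2 (QuotientGroup.eq.1 (h : (QuotientGroup.mk (a : G) : G ⧸ H) = QuotientGroup.mk (b : G)) :)
  obtain ⟨u, hu⟩ := (hinj.bijective_of_nat_card_le (le_of_eq h3.symm)).2 (QuotientGroup.mk (s := H) x)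
  obtain ⟨d, rfl⟩ := QuotientGroup.mk_surjective u
  exact ⟨d, d.2, (d : G)⁻¹ * x, QuotientGroup.eq.1 hu, by group⟩

/-- Wielandt: three solvable subgroups of pairwise coprime index. -/
theorem isSolvable_of_three [Finite G] (A B C : Subgroup G) (hA : Group.IsSolvable A)
    (hB : Group.IsSolvable B) (hC : Group.IsSolvable C) (hAB : A.index.Coprime B.index)
    (hAC : A.index.Coprime C.index) (hBC : B.index.Coprime C.index) : Group.IsSolvable G := by
  induction hn : Nat.card G using Nat.strong_induction_on generalizing G with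
  | _ n ih =>
    subst hn
    by_cases hAbot : A = ⊥
    · have hB1 : B = ⊤ := by
        rw [← index_eq_one]
        refine Nat.Coprime.eq_one_of_dvd hAB.symm ?_
        rw [hAbot, index_bot]
        exact index_dvd_card B
      subst hB1
      exact Group.isSolvable_of_surjective (f := (Subgroup.topEquiv : (⊤ : Subgroup G) ≃* G).toMonoidHom)
        (MulEquiv.surjective _)
    haveI := hA
    haveI : Nontrivial A := (nontrivial_iff_ne_bot A).2 hAbot
    obtain ⟨N, hN⟩ := CfsgLib.MinNormal.exists_isMinNormal (G := A)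
    obtain ⟨p, hp, -, hNp, -⟩ := hN.elementaryAbelian_of_solvable
    haveI : Fact p.Prime := ⟨hp⟩
    -- one of `B`, `C` has index prime to `p`
    obtain ⟨D, hD, hAD, hpD⟩ : ∃ D : Subgroup G, Group.IsSolvable D ∧ A.index.Coprime D.index ∧
        ¬ p ∣ D.index := by
      by_cases h : p ∣ B.index
      · exact ⟨C, hC, hAC, fun h' => hp.not_dvd_one (hBC.gcd_eq_one ▸ Nat.dvd_gcd h h')⟩
      · exact ⟨B, hB, hAB, h⟩
    obtain ⟨hrel, hfac⟩ := exists_mul_of_coprime_index hAD.symm
    set M : Subgroup G := N.map A.subtype with hM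
    have hMne : M ≠ ⊥ := fun e => hN.2.1 ((map_eq_bot_iff_of_injective _ A.subtype_injective).1 e)
    have hMD : M ≤ D := by
      -- a Sylow `p` of `A ⊓ D` is one of `A`, hence contains `N`
      obtain ⟨S⟩ := (inferInstance : Nonempty (Sylow p (D.subgroupOf A)))
      have hidx : ¬ p ∣ ((S : Subgroup (D.subgroupOf A)).map (D.subgroupOf A).subtype).index := by
        rw [index_map_subtype]
        exact fun h => (hp.dvd_mul.1 h).elim S.not_dvd_index (fun h' => hpD (by
          have : D.relIndex A = D.index := hrel
          rw [← this]; exact h'))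
      let SA : Sylow p A := (S.isPGroup'.map _).toSylow hidx
      haveI := hN.1
      have h1 : N ≤ (SA : Subgroup A) :=
        (CfsgLib.Fitting.le_pCore hN.1 hNp).trans (CfsgLib.Fitting.pCore_le_sylow SA)
      rintro x ⟨y, hy, rfl⟩
      obtain ⟨z, -, hz⟩ := h1 hy
      rw [← hz]
      exact z.2
    -- the normal closure of `M` lies in `D`
    set W := normalClosure (M : Set G) with hW
    have hWD : W ≤ D := by
      rw [hW, normalClosure, closure_le]
      intro x hx
      obtain ⟨m, hm, hconj⟩ := Group.mem_conjugatesOfSet_iff.1 hx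
      obtain ⟨g, rfl⟩ := isConj_iff.1 hconj
      obtain ⟨a, ha, d, hd, hg⟩ := hfac g⁻¹
      have hg' : g = d⁻¹ * a⁻¹ := by rw [← inv_inv g, hg, mul_inv_rev]
      obtain ⟨y, hy, rfl⟩ := hm
      have h2 : a⁻¹ * (y : G) * a⁻¹⁻¹ ∈ M := by
        refine ⟨⟨a, ha⟩⁻¹ * y * (⟨a, ha⟩⁻¹ : A)⁻¹, ?_, rfl⟩
        exact hN.1.conj_mem y hy _
      have : g * (y : G) * g⁻¹ = d⁻¹ * (a⁻¹ * (y : G) * a⁻¹⁻¹) * d⁻¹⁻¹ := by rw [hg']; group
      show g * (y : G) * g⁻¹ ∈ D
      rw [this]
      exact mul_mem (mul_mem (inv_mem hd) (hMD h2)) (inv_mem (inv_mem hd))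
    have hWne : W ≠ ⊥ := fun e => hMne (le_bot_iff.1 (e ▸ (le_normalClosure : (M : Set G) ⊆ _)))
    rw [Group.isSolvable_iff_subgroup_quotient W]
    refine ⟨?_, ?_⟩
    · haveI := hD
      exact Group.isSolvable_of_isSolvable_injective (f := inclusion hWD) (inclusion_injective hWD)
    · set π := QuotientGroup.mk' W
      have hπ : Function.Surjective π := QuotientGroup.mk'_surjective W
      have hsol : ∀ H : Subgroup G, Group.IsSolvable H → Group.IsSolvable (H.map π) := fun H hH =>
        haveI := hH
        Group.isSolvable_of_surjective (f := π.subgroupMap H) (π.subgroupMap_surjective H)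
      have hdvd : ∀ H : Subgroup G, (H.map π).index ∣ H.index := fun H => index_map_dvd H hπ
      exact ih _ (by
          rw [card_eq_card_quotient_mul_card_subgroup W]
          exact lt_mul_of_one_lt_right Nat.card_pos ((one_lt_card_iff_ne_bot W).2 hWne))
        (A.map π) (B.map π) (C.map π) (hsol A hA) (hsol B hB) (hsol C hC)
        ((hAB.coprime_dvd_left (hdvd A)).coprime_dvd_right (hdvd B))
        ((hAC.coprime_dvd_left (hdvd A)).coprime_dvd_right (hdvd C))
        ((hBC.coprime_dvd_left (hdvd B)).coprime_dvd_right (hdvd C)) rfl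

/-- If every nontrivial subgroup has, for each prime dividing its order, a proper subgroup of
index a power of that prime, the group is solvable. -/
theorem isSolvable_of_hereditary_prime_power_index [Finite G]
    (h : ∀ H : Subgroup G, H ≠ ⊥ → ∀ p : ℕ, p.Prime → p ∣ Nat.card H →
      ∃ K : Subgroup H, K ≠ ⊤ ∧ ∃ k : ℕ, K.index = p ^ k) : Group.IsSolvable G := by
  suffices ∀ H : Subgroup G, Group.IsSolvable H from
    have := this ⊤
    Group.isSolvable_of_surjective (f := (Subgroup.topEquiv : (⊤ : Subgroup G) ≃* G).toMonoidHom)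
      (MulEquiv.surjective _)
  intro H
  induction H using WellFoundedLT.induction with
  | ind H ih =>
    by_cases hb : H = ⊥
    · subst hb; infer_instance
    by_cases h3 : ∃ p q r : ℕ, p ∈ (Nat.card H).primeFactors ∧ q ∈ (Nat.card H).primeFactors ∧
        r ∈ (Nat.card H).primeFactors ∧ p ≠ q ∧ p ≠ r ∧ q ≠ r
    · obtain ⟨p, q, r, hp, hq, hr, hpq, hpr, hqr⟩ := h3
      have key : ∀ t ∈ (Nat.card H).primeFactors, ∃ K : Subgroup H, Group.IsSolvable K ∧
          ∃ k : ℕ, K.index = t ^ k := fun t ht => by
        obtain ⟨K, hK, hk⟩ := h H hb t (Nat.prime_of_mem_primeFactors ht) (Nat.dvd_of_mem_primeFactors ht)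
        have hlt : K.map H.subtype < H := lt_of_le_of_ne (map_subtype_le K) fun e =>
          hK (map_injective H.subtype_injective (by rw [e, ← MonoidHom.range_eq_map, range_subtype]))
        haveI := ih _ hlt
        exact ⟨K, Group.isSolvable_of_isSolvable_injective
          (f := (K.equivMapOfInjective _ H.subtype_injective).toMonoidHom) (MulEquiv.injective _), hk⟩
      obtain ⟨A, hA, i, hi⟩ := key p hp
      obtain ⟨B, hB, j, hj⟩ := key q hq
      obtain ⟨C, hC, l, hl⟩ := key r hr
      have hp' := Nat.prime_of_mem_primeFactors hp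
      have hq' := Nat.prime_of_mem_primeFactors hq
      have hr' := Nat.prime_of_mem_primeFactors hr
      exact isSolvable_of_three A B C hA hB hC
        (by rw [hi, hj]; exact Nat.coprime_pow_primes _ _ hp' hq' hpq)
        (by rw [hi, hl]; exact Nat.coprime_pow_primes _ _ hp' hr' hpr)
        (by rw [hj, hl]; exact Nat.coprime_pow_primes _ _ hq' hr' hqr)
    · push Not at h3
      obtain ⟨p, hp, hpd⟩ := Nat.exists_prime_and_dvd (fun e => hb (card_eq_one.1 e) : Nat.card H ≠ 1)
      have hpm : p ∈ (Nat.card H).primeFactors := Nat.mem_primeFactors.2 ⟨hp, hpd, Nat.card_pos.ne'⟩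
      by_cases h2 : ∃ q ∈ (Nat.card H).primeFactors, q ≠ p
      · obtain ⟨q, hqm, hqp⟩ := h2
        refine CfsgLib.Burnside.isSolvable_of_card_eq hp (Nat.prime_of_mem_primeFactors hqm)
          ((Nat.card H).factorization p) ((Nat.card H).factorization q) ?_
        conv_lhs => rw [← Nat.prod_factorization_pow_eq_self (n := Nat.card H) Nat.card_pos.ne']
        rw [Finsupp.prod, Nat.support_factorization]
        have : (Nat.card H).primeFactors = {p, q} := by
          refine Finset.Subset.antisymm (fun r hr => ?_)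
            (Finset.insert_subset hpm (Finset.singleton_subset_iff.2 hqm))
          by_contra hrn
          simp only [Finset.mem_insert, Finset.mem_singleton, not_or] at hrn
          exact hrn.2 (h3 p q r hpm hqm hr (Ne.symm hqp) (Ne.symm hrn.1)).symm
        rw [this, Finset.prod_pair (Ne.symm hqp)]
      · push Not at h2
        haveI : Fact p.Prime := ⟨hp⟩
        have : IsPGroup p H := IsPGroup.of_card (n := (Nat.card H).primeFactorsList.length)
          (Nat.eq_prime_pow_of_unique_prime_dvd Nat.card_pos.ne' fun {r} hr hrd =>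
            h2 r (Nat.mem_primeFactors.2 ⟨hr, hrd, Nat.card_pos.ne'⟩))
        haveI := this.isNilpotent
        infer_instance

end CfsgLib.ThreeSubgroups
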