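import Cfsg.Agent.Lib.Solvable.WardOperators
import Cfsg.Agent.Lib.Solvable.NilpotentParts
import Cfsg.Agent.Lib.Solvable.Fitting
import Cfsg.Agent.Lib.Frobenius.FPFThompson
import Cfsg.Agent.Lib.Structure80.FixedProduct

/-!
Ward's theorem: a finite solvable group with a fixed-point-free elementary abelian group of
automorphisms of order `p²` has nilpotent-by-nilpotent structure.
-/

set_option autoImplicit false

namespace CfsgLib.Ward

open Subgroup CfsgLib.Structure80.FixedProduct

universe u v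

section Ambient

variable {Γ : Type*} [Group Γ] [Finite Γ]

/-- The ambient form: no normality assumed. -/
theorem conj_eq_ambient {R : Type*} [Ring R] (σ : Γ →* R) {p : ℕ} (hp : p.Prime)
    {A Q T : Subgroup Γ} (hcard : Nat.card A = p ^ 2) (hpow : ∀ a ∈ A, a ^ p = 1)
    (hcomm : ∀ a ∈ A, ∀ b ∈ A, a * b = b * a) (hnil : Group.IsNilpotent Q)
    (hAQ : A ≤ normalizer (Q : Set Γ)) (hTQ : T ≤ normalizer (Q : Set Γ))
    (hAT : A ≤ normalizer (T : Set Γ))
    (hcQ : p.Coprime (Nat.card Q)) (hcT : p.Coprime (Nat.card T))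
    (hfix : ∀ x : Γ, x ∈ Q ∨ x ∈ T → (∀ a ∈ A, a * x = x * a) → x = 1)
    (hcent : ∀ a ∈ A, a ≠ 1 → ∀ x ∈ Q, ∀ t ∈ T, a * x = x * a → a * t = t * a → x * t = t * x)
    (hu : IsUnit (Nat.card Q : R)) (hsum : ∀ [Fintype A], (∑ x : A, σ x) = 0) :
    ∀ t ∈ T, ∀ y ∈ Q, σ (t * y * t⁻¹) = σ y := by
  set H := normalizer (Q : Set Γ)
  have hQH : Q ≤ H := le_normalizer
  have eA := subgroupOfEquivOfLe hAQ
  have eQ := subgroupOfEquivOfLe hQH
  have eT := subgroupOfEquivOfLe hTQ
  have S : Setup (H := H) p (A.subgroupOf H) (Q.subgroupOf H) (T.subgroupOf H) := by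
    refine ⟨hp, (Nat.card_congr eA.toEquiv).trans hcard, fun a ha => Subtype.ext (hpow a ha),
      fun a ha b hb => Subtype.ext (hcomm a ha b hb), normal_in_normalizer, ?_, ?_, ?_, ?_, ?_, ?_⟩
    · haveI := hnil; exact Group.nilpotent_of_mulEquiv eQ.symm
    · intro a ha
      exact mem_normalizer_iff.2 fun x => mem_normalizer_iff.1 (hAT ha) x
    · exact (Nat.card_congr eQ.toEquiv).symm ▸ hcQ
    · exact (Nat.card_congr eT.toEquiv).symm ▸ hcT
    · exact fun x hx h => Subtype.ext (hfix x hx fun a ha =>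
        congrArg Subtype.val (h ⟨a, hAQ ha⟩ ha))
    · intro a ha ha1 x hx t ht h1 h2
      exact Subtype.ext (hcent a ha (fun e => ha1 (Subtype.ext e)) x hx t ht
        (congrArg Subtype.val h1) (congrArg Subtype.val h2))
  have h := conj_eq (σ.comp H.subtype) S ((Nat.card_congr eQ.toEquiv).symm ▸ hu) (by
    intro _
    letI := Fintype.ofFinite A
    rw [← hsum]
    exact Fintype.sum_equiv (subgroupOfEquivOfLe hAQ).toEquiv _ _ fun x => rfl)
  exact fun t ht y hy => h ⟨t, hTQ ht⟩ ht ⟨y, hQH hy⟩ hy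

end Ambient

variable {A : Type v} [Group A] [Finite A]

/-- Some term of the lower central series is nilpotent. -/
def NilByNil (G : Type*) [Group G] : Prop :=
  ∃ k, Group.IsNilpotent ((⊤ : Subgroup G).lowerCentralSeries k)

theorem not_dvd_card {G : Type u} [Group G] [Finite G] {p : ℕ} [hp : Fact p.Prime]
    (hcard : Nat.card A = p ^ 2) (φ : A →* MulAut G)
    (hfpf : ∀ g : G, (∀ a, φ a g = g) → g = 1) : ¬ p ∣ Nat.card G := by
  letI : MulAction A G := MulAction.compHom G φ
  have h := (IsPGroup.of_card hcard).card_modEq_card_fixedPoints G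
  have h1 : Nat.card (MulAction.fixedPoints A G) = 1 := Nat.card_eq_one_iff_unique.2
    ⟨⟨fun x y => Subtype.ext ((hfpf x x.2).trans (hfpf y y.2).symm)⟩, ⟨1, fun a => map_one (φ a)⟩⟩
  rw [h1] at h
  intro hd
  have := (Nat.modEq_zero_iff_dvd.2 hd).symm.trans h
  exact hp.out.one_lt.ne' (Nat.eq_one_of_dvd_one ((Nat.modEq_zero_iff_dvd.1 this.symm)))

theorem fpf_quotient {G : Type u} [Group G] [Finite G] {p : ℕ} [hp : Fact p.Prime]
    (hcard : Nat.card A = p ^ 2) (φ : A →* MulAut G)
    (hfpf : ∀ g : G, (∀ a, φ a g = g) → g = 1) (N : Subgroup G) [N.Normal]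
    (hN : ∀ a, ∀ w ∈ N, φ a w ∈ N) :
    ∀ x : G ⧸ N, (∀ a, quotHom φ N hN a x = x) → x = 1 := by
  intro x hx
  have h := card_fixSub_quotient (IsPGroup.of_card hcard) (not_dvd_card hcard φ hfpf) φ N hN
  have h1 : fixSub φ = ⊥ := eq_bot_iff.2 fun g hg => mem_bot.2 (hfpf g hg)
  rw [h1, card_bot] at h
  have h2 := Subgroup.card_eq_one.1 (Nat.eq_one_of_mul_eq_one_left h.symm)
  exact mem_bot.1 (h2 ▸ (show x ∈ fixSub (quotHom φ N hN) from hx))

/-- The fixed points of one non-identity element form a nilpotent group. -/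
theorem isNilpotent_fixEl {G : Type u} [Group G] [Finite G] {p : ℕ} [hp : Fact p.Prime]
    (hcard : Nat.card A = p ^ 2) (hpow : ∀ a : A, a ^ p = 1) (hcomm : ∀ a b : A, a * b = b * a)
    (φ : A →* MulAut G) (hfpf : ∀ g : G, (∀ a, φ a g = g) → g = 1) {a : A} (ha : a ≠ 1) :
    Group.IsNilpotent (fixEl φ a) := by
  obtain ⟨b, hb⟩ : ∃ b, b ∉ zpowers a := by
    by_contra hcon
    push Not at hcon
    have h1 : zpowers a = ⊤ := eq_top_iff.2 fun b _ => hcon b
    have h2 := Nat.card_zpowers a
    rw [h1, card_top, hcard, orderOf_eq_prime (hpow a) ha] at h2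
    have : p < p ^ 2 := lt_self_pow₀ hp.out.one_lt (by norm_num)
    omega
  have hinv : ∀ e, ∀ w ∈ fixEl φ a, φ e w ∈ fixEl φ a := fun e w hw => by
    rw [mem_fixEl] at hw ⊢
    rw [← MulAut.mul_apply, ← map_mul, hcomm, map_mul, MulAut.mul_apply, hw]
  refine CfsgLib.Frobenius.Thompson.isNilpotent_of_fixedPointFree
    (restrictHom φ (fixEl φ a) hinv b) (fun x hx => ?_) hp.out fun x => ?_
  · refine Subtype.ext (hfpf x fun e => ?_)
    have h1 : closure ({a, b} : Set A) ≤ stab φ (x : G) := by
      rw [closure_le]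
      rintro y (rfl | rfl)
      · exact mem_fixEl.1 x.2
      · exact congrArg Subtype.val hx
    refine h1 ?_
    have h2 : closure ({a, b} : Set A) = ⊤ := by
      by_contra hne
      have h3 : Nat.card (closure ({a, b} : Set A)) ∣ p ^ 2 := hcard ▸ card_subgroup_dvd_card _
      obtain ⟨k, hk, hk'⟩ := (Nat.dvd_prime_pow hp.out).1 h3
      have hk2 : k ≠ 2 := fun e => hne (eq_top_of_card_eq _ (by rw [hk', e, hcard]))
      have h4 : zpowers a ≤ closure {a, b} := zpowers_le.2 (subset_closure (by simp))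
      have h5 : zpowers a = closure {a, b} := eq_of_le_of_card_ge h4 (by
        rw [hk', Nat.card_zpowers, orderOf_eq_prime (hpow a) ha]
        calc p ^ k ≤ p ^ 1 := Nat.pow_le_pow_right hp.out.pos (by omega)
          _ = p := pow_one p)
      exact hb (h5 ▸ subset_closure (by simp))
    rw [h2]
    exact mem_top e
  · have key : ∀ n : ℕ, (restrictHom φ (fixEl φ a) hinv b : fixEl φ a → fixEl φ a)^[n] x =
        restrictHom φ (fixEl φ a) hinv (b ^ n) x := by
      intro n
      induction n with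
      | zero => simp
      | succ n ih => rw [Function.iterate_succ_apply', ih, pow_succ', map_mul, MulAut.mul_apply]
    rw [key, hpow, map_one, MulAut.one_apply]

theorem isUnit_natCast_end {M : Type*} [AddCommGroup M] [Finite M] {n : ℕ}
    (h : (Nat.card M).Coprime n) : IsUnit (n : AddMonoid.End M) := by
  have hb : Function.Bijective (fun m : M => n • m) := (nsmulCoprime h).bijective
  let e := Equiv.ofBijective _ hb
  let g : AddMonoid.End M := AddMonoidHom.mk' e.symm fun x y => e.injective (by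
    show e (e.symm (x + y)) = n • (e.symm x + e.symm y)
    rw [Equiv.apply_symm_apply, nsmul_add]
    exact congrArg₂ _ (e.apply_symm_apply x).symm (e.apply_symm_apply y).symm)
  refine ⟨⟨(n : AddMonoid.End M), g, ?_, ?_⟩, rfl⟩
  · exact AddMonoidHom.ext fun m => e.apply_symm_apply m
  · exact AddMonoidHom.ext fun m => e.symm_apply_apply m

/-- Operators on an abelian normal subgroup. -/
theorem commute_of_faithful {G : Type u} [Group G] [Finite G] {p : ℕ} [hp : Fact p.Prime]
    (hcard : Nat.card A = p ^ 2) (hpow : ∀ a : A, a ^ p = 1) (hcomm : ∀ a b : A, a * b = b * a)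
    (φ : A →* MulAut G) (hfpf : ∀ g : G, (∀ a, φ a g = g) → g = 1)
    (V : Subgroup G) [V.Normal] (hV : ∀ a, ∀ w ∈ V, φ a w ∈ V)
    (hab : ∀ x ∈ V, ∀ y ∈ V, x * y = y * x)
    {q t : ℕ} [Fact q.Prime] [Fact t.Prime] (hqt : t ≠ q)
    (Q T : Subgroup G) (hQq : IsPGroup q Q) (hTt : IsPGroup t T)
    (hQV : (Nat.card Q).Coprime (Nat.card V))
    (hTQ : T ≤ normalizer (Q : Set G))
    (hQA : ∀ a, ∀ w ∈ Q, φ a w ∈ Q) (hTA : ∀ a, ∀ w ∈ T, φ a w ∈ T)
    (hfaith : ∀ x ∈ Q, (∀ v ∈ V, x * v = v * x) → x = 1) :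
    ∀ x ∈ Q, ∀ y ∈ T, x * y = y * x := by
  classical
  haveI : Finite (G ⋊[φ] A) := Finite.of_equiv _ SemidirectProduct.equivProd.symm
  let i : G →* G ⋊[φ] A := SemidirectProduct.inl
  let j : A →* G ⋊[φ] A := SemidirectProduct.inr
  have hi : Function.Injective i := SemidirectProduct.inl_injective
  have hconj : ∀ a g, j a * i g * (j a)⁻¹ = i (φ a g) := fun a g => by
    rw [SemidirectProduct.inl_aut]
    simp [i, j]
  have hnorm : ∀ W : Subgroup G, (∀ a, ∀ w ∈ W, φ a w ∈ W) →
      j.range ≤ normalizer ((W.map i : Subgroup (G ⋊[φ] A)) : Set (G ⋊[φ] A)) := by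
    rintro W hW _ ⟨a, rfl⟩
    refine CfsgLib.NilPart.mem_normalizer_of_conj ?_
    rintro _ ⟨w, hw, rfl⟩
    exact ⟨φ a w, hW a w hw, (hconj a w).symm⟩
  haveI hVn : (V.map i).Normal := ⟨by
    rintro _ ⟨v, hv, rfl⟩ g
    obtain ⟨g₁, a⟩ := g
    refine ⟨g₁ * φ a v * g₁⁻¹, (‹V.Normal›).conj_mem _ (hV a v hv) g₁, ?_⟩
    rw [SemidirectProduct.mk_eq_inl_mul_inr, map_mul, map_mul, map_inv, mul_inv_rev]
    show i g₁ * i (φ a v) * (i g₁)⁻¹ = i g₁ * j a * i v * ((j a)⁻¹ * (i g₁)⁻¹)
    rw [← hconj]
    group⟩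
  letI : CommGroup (V.map i) :=
    { (inferInstance : Group (V.map i)) with
      mul_comm := by
        rintro ⟨_, x, hx, rfl⟩ ⟨_, y, hy, rfl⟩
        refine Subtype.ext ?_
        show i x * i y = i y * i x
        rw [← map_mul, hab x hx y hy, map_mul] }
  let σ : G ⋊[φ] A →* AddMonoid.End (Additive (V.map i)) :=
    { toFun := fun g => (MulAut.conjNormal g : MulAut (V.map i)).toMonoidHom.toAdditive
      map_one' := by
        refine AddMonoidHom.ext fun x => ?_
        show Additive.ofMul (MulAut.conjNormal (1 : G ⋊[φ] A) (Additive.toMul x)) = x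
        rw [map_one, MulAut.one_apply]; rfl
      map_mul' := fun g h => by
        refine AddMonoidHom.ext fun x => ?_
        show Additive.ofMul (MulAut.conjNormal (g * h) (Additive.toMul x)) = Additive.ofMul
          (MulAut.conjNormal g (MulAut.conjNormal h (Additive.toMul x) : V.map i))
        rw [map_mul, MulAut.mul_apply] }
  have hσ : ∀ g (x : Additive (V.map i)),
      ((Additive.toMul (σ g x) : V.map i) : G ⋊[φ] A) = g * (Additive.toMul x : V.map i) * g⁻¹ :=
    fun g x => MulAut.conjNormal_apply g (Additive.toMul x)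
  have hpG := not_dvd_card hcard φ hfpf
  have hcop : ∀ W : Subgroup G, p.Coprime (Nat.card (W.map i)) := fun W => by
    rw [card_map_of_injective hi]
    exact hp.out.coprime_iff_not_dvd.2 fun h => hpG (h.trans (card_subgroup_dvd_card W))
  have hjcard : Nat.card j.range = p ^ 2 := by
    rw [← hcard]
    exact (Nat.card_congr (MonoidHom.ofInjective SemidirectProduct.inr_injective).toEquiv).symm
  have hiff : ∀ a g, j a * i g = i g * j a ↔ φ a g = g := fun a g => by
    rw [← mul_inv_eq_iff_eq_mul, hconj]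
    exact hi.eq_iff
  have key := conj_eq_ambient σ hp.out (A := j.range) (Q := Q.map i) (T := T.map i) hjcard
    (by rintro _ ⟨a, rfl⟩; rw [← map_pow, hpow, map_one])
    (by rintro _ ⟨a, rfl⟩ _ ⟨b, rfl⟩; rw [← map_mul, hcomm, map_mul])
    (CfsgLib.Fitting.isNilpotent_map hQq.isNilpotent i) (hnorm Q hQA)
    (by
      rintro _ ⟨y, hy, rfl⟩
      refine CfsgLib.NilPart.mem_normalizer_of_conj ?_
      rintro _ ⟨x, hx, rfl⟩
      exact ⟨y * x * y⁻¹, (mem_normalizer_iff.1 (hTQ hy) x).1 hx, by simp⟩)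
    (hnorm T hTA) (hcop Q) (hcop T)
    (by
      intro x hx h
      obtain ⟨g, -, rfl⟩ : ∃ g, True ∧ i g = x := by
        rcases hx with ⟨g, -, h⟩ | ⟨g, -, h⟩ <;> exact ⟨g, trivial, h⟩
      rw [hfpf g fun a => (hiff a g).1 (h (j a) ⟨a, rfl⟩), map_one])
    (by
      rintro _ ⟨a, rfl⟩ ha _ ⟨x, hx, rfl⟩ _ ⟨y, hy, rfl⟩ h1 h2
      have ha' : a ≠ 1 := fun e => ha (by rw [e, map_one])
      have hnil := isNilpotent_fixEl hcard hpow hcomm φ hfpf ha'
      have := CfsgLib.NilPart.commute_of_mem hnil
        (mem_fixEl.2 ((hiff a x).1 h1)) (mem_fixEl.2 ((hiff a y).1 h2))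
        (CfsgLib.NilPart.coprime_orderOf hqt.symm hQq hTt hx hy)
      rw [← map_mul, this.eq, map_mul])
    (by
      refine isUnit_natCast_end ?_
      rw [card_map_of_injective hi]
      show (Nat.card (V.map i)).Coprime _
      rw [card_map_of_injective hi]
      exact hQV.symm)
    (by
      intro _
      set S : AddMonoid.End (Additive (V.map i)) := ∑ c : j.range, σ c with hS
      refine AddMonoidHom.ext fun x => ?_
      obtain ⟨v, hv, hvz⟩ := (Additive.toMul (S x)).2
      have hfix : ∀ a, φ a v = v := fun a => by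
        have h1 : σ (j a) * S = S := by
          rw [hS, Finset.mul_sum]
          exact Fintype.sum_equiv (Equiv.mulLeft (⟨j a, a, rfl⟩ : j.range)) _ _
            fun c => (map_mul σ _ _).symm
        have h2 : ((Additive.toMul (σ (j a) (S x)) : V.map i) : G ⋊[φ] A) =
            (Additive.toMul (S x) : V.map i) :=
          congrArg (fun f : AddMonoid.End (Additive (V.map i)) =>
            ((Additive.toMul (f x) : V.map i) : G ⋊[φ] A)) h1
        rw [hσ, ← hvz, hconj] at h2
        exact hi h2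
      rw [hfpf v hfix, map_one] at hvz
      exact Additive.toMul.injective (Subtype.ext hvz.symm))
  intro x hx y hy
  have hm : x⁻¹ * (y * x * y⁻¹) ∈ Q :=
    mul_mem (inv_mem hx) ((mem_normalizer_iff.1 (hTQ hy) x).1 hx)
  have h1 : x⁻¹ * (y * x * y⁻¹) = 1 := by
    refine hfaith _ hm fun v hv => ?_
    have h2 := key (i y) ⟨y, hy, rfl⟩ (i x) ⟨x, hx, rfl⟩
    have h3 := congrArg (fun f : AddMonoid.End (Additive (V.map i)) =>
      ((Additive.toMul (f (Additive.ofMul (⟨i v, v, hv, rfl⟩ : V.map i))) : V.map i) : G ⋊[φ] A)) h2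
    simp only [hσ] at h3
    apply hi
    simp only [toMul_ofMul] at h3
    simp only [map_mul, map_inv] at h3 ⊢
    calc (i x)⁻¹ * (i y * i x * (i y)⁻¹) * i v
        = (i x)⁻¹ * (i y * i x * (i y)⁻¹ * i v * (i y * i x * (i y)⁻¹)⁻¹) *
            (i y * i x * (i y)⁻¹) := by group
      _ = (i x)⁻¹ * (i x * i v * (i x)⁻¹) * (i y * i x * (i y)⁻¹) := by rw [h3]
      _ = i v * ((i x)⁻¹ * (i y * i x * (i y)⁻¹)) := by group
  rw [inv_mul_eq_one, eq_mul_inv_iff_mul_eq] at h1
  exact h1

/-- The nilpotent residual of a group with a fixed-point-free group of order `p²` is nilpotent. -/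
theorem nilByNil_aux {p : ℕ} [hp : Fact p.Prime] (hcard : Nat.card A = p ^ 2)
    (hpow : ∀ a : A, a ^ p = 1) (hcomm : ∀ a b : A, a * b = b * a) :
    ∀ (n : ℕ) {G : Type u} [Group G] [Finite G] [Group.IsSolvable G], Nat.card G ≤ n →
      ∀ φ : A →* MulAut G, (∀ g : G, (∀ a, φ a g = g) → g = 1) → NilByNil G := by
  classical
  intro n
  induction n with
  | zero =>
    intro G _ _ _ h
    exact absurd h (by have := Nat.card_pos (α := G); omega)
  | succ n ih =>
    intro G _ _ _ hn φ hfpf
    rcases subsingleton_or_nontrivial G with hG | hG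
    · exact ⟨0, inferInstance⟩
    have hquot : ∀ N : Subgroup G, [N.Normal] → (∀ a, ∀ w ∈ N, φ a w ∈ N) → N ≠ ⊥ →
        NilByNil (G ⧸ N) := fun N _ hN hne => by
      haveI : Group.IsSolvable (G ⧸ N) :=
        Group.isSolvable_of_surjective (QuotientGroup.mk'_surjective N)
      refine ih ?_ (quotHom φ N hN) (fpf_quotient hcard φ hfpf N hN)
      have h1 := card_eq_card_quotient_mul_card_subgroup N
      have h2 : 2 ≤ Nat.card N := by
        have := Nat.card_pos (α := N)
        by_contra h
        exact hne (Subgroup.card_eq_one.1 (by omega))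
      nlinarith [Nat.card_pos (α := G ⧸ N)]
    have hcore : ∀ s : ℕ, ∀ a, ∀ w ∈ Cfsg.pCore s G, φ a w ∈ Cfsg.pCore s G := fun s a w hw => by
      have := CfsgLib.Fitting.pCore_map_mulEquiv s (φ a)
      rw [← this]
      exact mem_map_of_mem _ hw
    obtain ⟨r, hr, -, hR⟩ := CfsgLib.Fitting.exists_pCore_ne_bot (G := G)
    haveI : Fact r.Prime := ⟨hr⟩
    haveI := CfsgLib.Fitting.pCore_normal (G := G) r
    by_cases hs : ∃ s : ℕ, s.Prime ∧ s ≠ r ∧ Cfsg.pCore s G ≠ ⊥
    · obtain ⟨s, hsp, hsr, hS⟩ := hs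
      haveI : Fact s.Prime := ⟨hsp⟩
      haveI := CfsgLib.Fitting.pCore_normal (G := G) s
      obtain ⟨k₁, hk₁⟩ := hquot _ (hcore r) hR
      obtain ⟨k₂, hk₂⟩ := hquot _ (hcore s) hS
      let f := (QuotientGroup.mk' (Cfsg.pCore r G)).prod (QuotientGroup.mk' (Cfsg.pCore s G))
      have hinj : Function.Injective f := (injective_iff_map_eq_one f).2 fun x hx => by
        have h1 := (QuotientGroup.eq_one_iff x).1 (congrArg Prod.fst hx)
        have h2 := (QuotientGroup.eq_one_iff x).1 (congrArg Prod.snd hx)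
        exact mem_bot.1 ((IsPGroup.disjoint_of_ne r s (Ne.symm hsr) _ _
          (CfsgLib.Fitting.pCore_isPGroup r) (CfsgLib.Fitting.pCore_isPGroup s)).le_bot ⟨h1, h2⟩)
      refine ⟨max k₁ k₂, ?_⟩
      set L := (⊤ : Subgroup G).lowerCentralSeries (max k₁ k₂)
      let M₁ := (⊤ : Subgroup (G ⧸ Cfsg.pCore r G)).lowerCentralSeries k₁
      let M₂ := (⊤ : Subgroup (G ⧸ Cfsg.pCore s G)).lowerCentralSeries k₂
      have hle : L.map f ≤ M₁.prod M₂ := by
        rintro _ ⟨x, hx, rfl⟩
        constructor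
        · have h1 := mem_map_of_mem (QuotientGroup.mk' (Cfsg.pCore r G))
            (Subgroup.lowerCentralSeries_antitone _ (le_max_left k₁ k₂) hx)
          rw [map_lowerCentralSeries, map_top_of_surjective _ (QuotientGroup.mk'_surjective _)] at h1
          exact h1
        · have h1 := mem_map_of_mem (QuotientGroup.mk' (Cfsg.pCore s G))
            (Subgroup.lowerCentralSeries_antitone _ (le_max_right k₁ k₂) hx)
          rw [map_lowerCentralSeries, map_top_of_surjective _ (QuotientGroup.mk'_surjective _)] at h1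
          exact h1
      haveI := hk₁
      haveI := hk₂
      have h3 : Group.IsNilpotent (M₁.prod M₂) :=
        Group.nilpotent_of_mulEquiv (Subgroup.prodEquiv M₁ M₂).symm
      have h4 := CfsgLib.Fitting.isNilpotent_of_le h3 hle
      exact Group.nilpotent_of_mulEquiv (L.equivMapOfInjective f hinj).symm
    push Not at hs
    set R := Cfsg.pCore r G with hRdef
    have hRp : IsPGroup r R := CfsgLib.Fitting.pCore_isPGroup r
    have hfit : ∀ M : Subgroup G, M.Normal → Group.IsNilpotent M → M ≤ R := fun M hM hMn => by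
      refine (CfsgLib.Fitting.nilpotent_normal_le_iSup_pCore hM hMn).trans (iSup_le fun s => ?_)
      by_cases h : (s : ℕ) = r
      · rw [h]
      · rw [hs s (Nat.prime_of_mem_primeFactors s.2) h]; exact bot_le
    set V : Subgroup G := R ⊓ centralizer (R : Set G) with hVdef
    have hVR : V ≤ R := inf_le_left
    have hVA : ∀ a, ∀ w ∈ V, φ a w ∈ V := fun a w hw => by
      refine mem_inf.2 ⟨hcore r a w hw.1, mem_centralizer_iff.2 fun y hy => ?_⟩
      have hy' : φ a⁻¹ y ∈ R := hcore r a⁻¹ y hy
      have h1 := congrArg (φ a) (mem_centralizer_iff.1 (mem_inf.1 hw).2 _ hy')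
      rw [map_mul, map_mul, ← MulAut.mul_apply, ← map_mul, mul_inv_cancel, map_one,
        MulAut.one_apply] at h1
      exact h1
    haveI hVn : V.Normal := inferInstance
    have hVne : V ≠ ⊥ := by
      haveI : Nontrivial R := (nontrivial_iff_ne_bot R).2 hR
      obtain ⟨c, hc, hc1⟩ := (Subgroup.bot_or_exists_ne_one (center R)).resolve_left
        (hRp.bot_lt_center).ne'
      intro h
      refine hc1 (Subtype.ext (mem_bot.1 (h ▸ mem_inf.2 ⟨c.2, mem_centralizer_iff.2 fun y hy => ?_⟩)))
      exact congrArg Subtype.val (mem_center_iff.1 hc ⟨y, hy⟩)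
    obtain ⟨k, hk⟩ := hquot V hVA hVne
    let π := QuotientGroup.mk' V
    have hπ : Function.Surjective π := QuotientGroup.mk'_surjective V
    set L := (⊤ : Subgroup (G ⧸ V)).lowerCentralSeries k with hL
    haveI : L.Normal := inferInstance
    set K := L.comap π with hKdef
    have hVK : V ≤ K := fun v hv => by
      show π v ∈ L
      rw [show π v = 1 from (QuotientGroup.eq_one_iff v).2 hv]
      exact one_mem L
    have hKA : ∀ a, ∀ w ∈ K, φ a w ∈ K := fun a w hw => by
      have h1 := mem_map_of_mem (quotHom φ V hVA a).toMonoidHom (show π w ∈ L from hw)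
      rw [hL, map_lowerCentralSeries, map_top_of_surjective (quotHom φ V hVA a).toMonoidHom (quotHom φ V hVA a).surjective] at h1
      exact h1
    have hVp : IsPGroup r V := hRp.to_le hVR
    have hker : π.ker = V := QuotientGroup.ker_mk' V
    -- the faithful action of the `r'`-part of `K`
    have hfaith : ∀ x ∈ K, (∀ v ∈ V, x * v = v * x) → x ∈ R := fun x hx h => by
      refine hfit (K ⊓ centralizer (V : Set G)) inferInstance ?_
        (mem_inf.2 ⟨hx, mem_centralizer_iff.2 fun v hv => (h v hv).symm⟩)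
      let g : (K ⊓ centralizer (V : Set G) : Subgroup G) →* L :=
        (π.comp (Subgroup.subtype _)).codRestrict L fun y => (mem_inf.1 y.2).1
      haveI : Group.IsNilpotent L := hk
      refine Subgroup.isNilpotent_of_ker_le_center g fun y hy => mem_center_iff.2 fun z => ?_
      have hy' : (y : G) ∈ V := (QuotientGroup.eq_one_iff (y : G)).1 (congrArg Subtype.val hy)
      exact Subtype.ext (mem_centralizer_iff.1 (mem_inf.1 z.2).2 _ hy').symm
    have hpA := IsPGroup.of_card hcard
    have hpG := not_dvd_card hcard φ hfpf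
    let πR := QuotientGroup.mk' R
    haveI hMnil : Group.IsNilpotent (G ⧸ R) := by
      refine (Group.isNilpotent_of_finite_tfae (G := G ⧸ R)).out 3 0 |>.1 ?_
      intro t ht P
      set Kb := K.map πR
      haveI : Kb.Normal := Subgroup.Normal.map inferInstance _ (QuotientGroup.mk'_surjective R)
      haveI : Group.IsNilpotent ((G ⧸ R) ⧸ Kb) := by
        refine (Subgroup.nilpotent_iff_lowerCentralSeries).2 ⟨k, ?_⟩
        rw [eq_bot_iff]
        let g := (QuotientGroup.mk' Kb).comp πR
        have hg : Function.Surjective g :=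
          (QuotientGroup.mk'_surjective _).comp (QuotientGroup.mk'_surjective _)
        rw [← map_top_of_surjective g hg, ← map_lowerCentralSeries]
        rintro _ ⟨x, hx, rfl⟩
        refine mem_bot.2 ((QuotientGroup.eq_one_iff _).2 (mem_map_of_mem _ ?_))
        have h1 := mem_map_of_mem π hx
        rw [map_lowerCentralSeries, map_top_of_surjective _ hπ] at h1
        exact h1
      let Pq := P.mapSurjective (QuotientGroup.mk'_surjective Kb)
      haveI : (Pq : Subgroup ((G ⧸ R) ⧸ Kb)).Normal := inferInstance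
      haveI hPK : ((P : Subgroup (G ⧸ R)) ⊔ Kb).Normal := by
        have : (P : Subgroup (G ⧸ R)) ⊔ Kb =
            (Pq : Subgroup ((G ⧸ R) ⧸ Kb)).comap (QuotientGroup.mk' Kb) := by
          show _ = ((P : Subgroup (G ⧸ R)).map _).comap _
          rw [comap_map_eq, QuotientGroup.ker_mk']
        rw [this]
        infer_instance
      rw [← normalizer_eq_top_iff]
      have hFr := (P.subtype (le_sup_left : (P : Subgroup (G ⧸ R)) ≤ (P : Subgroup (G ⧸ R)) ⊔ Kb)).normalizer_sup_eq_top
      have hPs : (((P.subtype (le_sup_left : (P : Subgroup (G ⧸ R)) ≤ (P : Subgroup (G ⧸ R)) ⊔ Kb)) :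
          Subgroup ((P : Subgroup (G ⧸ R)) ⊔ Kb : Subgroup (G ⧸ R))).map (Subgroup.subtype _)) =
          (P : Subgroup (G ⧸ R)) := by
        rw [Sylow.coe_subtype, subgroupOf_map_subtype, inf_eq_left.2 le_sup_left]
      rw [hPs] at hFr
      suffices hKN : K ≤ (normalizer ((P : Subgroup (G ⧸ R)) : Set (G ⧸ R))).comap πR by
        rwa [sup_eq_left.2 (sup_le le_normalizer (map_le_iff_le_comap.2 hKN))] at hFr
      refine subgroupOf_eq_top.1 (CfsgLib.Fitting.eq_top_of_forall_sylow_le fun q hq _ => ?_)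
      haveI : Fact q.Prime := ⟨hq⟩
      obtain ⟨S, hS⟩ := exists_invariant_sylow (p := p) hpA
        (not_dvd_of_dvd hpG (card_subgroup_dvd_card K)) (restrictHom φ K hKA) q
      have hSA := invariant_of_smul_eq _ hS
      refine ⟨S, map_le_iff_le_comap.1 ?_⟩
      set Q := (S : Subgroup K).map K.subtype with hQdef
      have hQK : Q ≤ K := map_subtype_le _
      have hQA : ∀ a, ∀ w ∈ Q, φ a w ∈ Q := by
        rintro a _ ⟨w, hw, rfl⟩
        exact ⟨restrictHom φ K hKA a w, hSA a w hw, rfl⟩
      have hQq : IsPGroup q Q := S.isPGroup'.map _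
      -- the image of `Q` modulo `V` is normal
      let f : K →* L := (π.comp K.subtype).codRestrict L fun y => y.2
      have hf : Function.Surjective f := fun ⟨y, hy⟩ => by
        obtain ⟨x, rfl⟩ := hπ y
        exact ⟨⟨x, hy⟩, rfl⟩
      haveI : Group.IsNilpotent L := hk
      haveI hSn : ((S.mapSurjective hf : Subgroup L)).Normal := inferInstance
      haveI := (S.mapSurjective hf).characteristic_of_normal hSn
      have hQimg : Q.map π = (S.mapSurjective hf : Subgroup L).map L.subtype := by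
        show ((S : Subgroup K).map K.subtype).map π = ((S : Subgroup K).map f).map L.subtype
        rw [map_map, map_map]
        rfl
      haveI hQn : (Q.map π).Normal := hQimg ▸ inferInstance
      haveI hWn : (Q ⊔ V).Normal := by
        have : Q ⊔ V = (Q.map π).comap π := by rw [comap_map_eq, hker]
        rw [this]; infer_instance
      intro x hx
      show πR x ∈ normalizer _
      by_cases hqr : q = r
      · have h1 : Q ⊔ V ≤ R := by
          subst hqr
          exact CfsgLib.Fitting.le_pCore hWn (hQq.to_sup_of_normal_right hVp)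
        rw [show πR x = 1 from (QuotientGroup.eq_one_iff x).2 (h1 (le_sup_left (b := V) hx))]
        exact one_mem _
      have hQbn : (Q.map πR).Normal := by
        have : (Q ⊔ V).map πR = Q.map πR := by
          rw [Subgroup.map_sup, sup_eq_left]
          intro y hy
          obtain ⟨v, hv, rfl⟩ := hy
          rw [show πR v = 1 from (QuotientGroup.eq_one_iff v).2 (hVR hv)]
          exact one_mem _
        exact this ▸ hWn.map _ (QuotientGroup.mk'_surjective R)
      by_cases hqt : q = t
      · subst hqt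
        exact le_normalizer (CfsgLib.Fitting.pCore_le_sylow P
          (CfsgLib.Fitting.le_pCore hQbn (hQq.map πR) (mem_map_of_mem _ hx)))
      -- `N(Q)` covers `G / V`
      set N := normalizer (Q : Set G) with hNdef
      have hNA : ∀ a, ∀ w ∈ N, φ a w ∈ N := fun a w hw => by
        refine CfsgLib.NilPart.mem_normalizer_of_conj fun y hy => ?_
        have h1 := hQA a _ ((mem_normalizer_iff.1 hw _).1 (hQA a⁻¹ y hy))
        rwa [map_mul, map_mul, map_inv (φ a), ← MulAut.mul_apply, ← map_mul, mul_inv_cancel,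
          map_one, MulAut.one_apply] at h1
      have hNV : N ⊔ V = ⊤ := by
        have hWK : Q ⊔ V ≤ K := sup_le hQK hVK
        have hidx : ¬ q ∣ (Q.subgroupOf (Q ⊔ V)).index := by
          intro hd
          apply S.not_dvd_index
          have h1 : (S : Subgroup K).index = Q.relIndex K := by
            rw [relIndex, hQdef, subgroupOf, comap_map_eq_self_of_injective K.subtype_injective]
          rw [h1, ← relIndex_mul_relIndex Q (Q ⊔ V) K le_sup_left hWK]
          exact dvd_mul_of_dvd_left hd _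
        let SW := IsPGroup.toSylow (hQq.comap_subtype (K := Q ⊔ V)) hidx
        have h2 := SW.normalizer_sup_eq_top
        have hSW : (SW : Subgroup (Q ⊔ V : Subgroup G)).map (Subgroup.subtype _) = Q := by
          show (Q.subgroupOf (Q ⊔ V)).map _ = Q
          rw [subgroupOf_map_subtype, inf_eq_left.2 le_sup_left]
        rw [hSW, ← sup_assoc, sup_eq_left.2 (le_normalizer : Q ≤ N)] at h2
        exact h2
      haveI : Fact t.Prime := ht
      obtain ⟨T₀, hT₀⟩ := exists_invariant_sylow (p := p) hpA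
        (not_dvd_of_dvd hpG (card_subgroup_dvd_card N)) (restrictHom φ N hNA) t
      have hTA₀ := invariant_of_smul_eq _ hT₀
      set T := (T₀ : Subgroup N).map N.subtype with hTdef
      have hcom := commute_of_faithful hcard hpow hcomm φ hfpf V hVA
        (fun a ha b hb => (mem_centralizer_iff.1 (mem_inf.1 ha).2 b (hVR hb)).symm)
        (Ne.symm hqt) Q T hQq (T₀.isPGroup'.map _)
        (IsPGroup.coprime_card_of_ne q r hqr _ _ hQq hVp) (map_subtype_le _) hQA
        (by rintro a _ ⟨w, hw, rfl⟩; exact ⟨restrictHom φ N hNA a w, hTA₀ a w hw, rfl⟩)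
        (fun y hy h => mem_bot.1 ((IsPGroup.disjoint_of_ne q r hqr _ _ hQq hRp).le_bot
          ⟨hy, hfaith y (hQK hy) h⟩))
      -- the image of `T` is a Sylow subgroup of `G / R` centralising the image of `Q`
      have hgs : Function.Surjective (πR.comp N.subtype) := fun y => by
        obtain ⟨g, rfl⟩ := QuotientGroup.mk'_surjective R y
        obtain ⟨m, hm, v, hv, rfl⟩ := mem_sup_of_normal_right.1
          (show g ∈ N ⊔ V by rw [hNV]; exact mem_top g)
        exact ⟨⟨m, hm⟩, by
          show πR m = πR (m * v)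
          rw [map_mul, show πR v = 1 from (QuotientGroup.eq_one_iff v).2 (hVR hv), mul_one]⟩
      let Tb := T₀.mapSurjective hgs
      have hTC : (Tb : Subgroup (G ⧸ R)) ≤ centralizer ((Q.map πR : Subgroup (G ⧸ R)) : Set (G ⧸ R)) := by
        rintro _ ⟨y, hy, rfl⟩
        refine mem_centralizer_iff.2 ?_
        rintro _ ⟨z, hz, rfl⟩
        show πR z * πR (y : G) = πR (y : G) * πR z
        rw [← map_mul, hcom z hz y ⟨y, hy, rfl⟩, map_mul]
      obtain ⟨g, hg⟩ := MulAction.exists_smul_eq (G ⧸ R) Tb P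
      have hPC : (P : Subgroup (G ⧸ R)) ≤
          centralizer ((Q.map πR : Subgroup (G ⧸ R)) : Set (G ⧸ R)) := by
        rw [← hg]
        intro y hy
        obtain ⟨z, hz, rfl⟩ := hy
        exact (inferInstance : (centralizer ((Q.map πR : Subgroup (G ⧸ R)) :
          Set (G ⧸ R))).Normal).conj_mem _ (hTC hz) g
      refine CfsgLib.NilPart.mem_normalizer_of_conj fun y hy => ?_
      rw [mem_centralizer_iff.1 (hPC hy) (πR x) (mem_map_of_mem _ hx), mul_inv_cancel_right]
      exact hy
    obtain ⟨m, hm⟩ := Subgroup.nilpotent_iff_lowerCentralSeries.1 hMnil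
    refine ⟨m, CfsgLib.Fitting.isNilpotent_of_le hRp.isNilpotent fun x hx => ?_⟩
    have h1 := mem_map_of_mem πR hx
    rw [map_lowerCentralSeries, map_top_of_surjective _ (QuotientGroup.mk'_surjective R), hm] at h1
    exact (QuotientGroup.eq_one_iff x).1 (mem_bot.1 h1)

theorem nilByNil {G : Type u} [Group G] [Finite G] [Group.IsSolvable G] {p : ℕ} (hp : p.Prime)
    (hcard : Nat.card A = p ^ 2) (hpow : ∀ a : A, a ^ p = 1) (hcomm : ∀ a b : A, a * b = b * a)
    (φ : A →* MulAut G) (hfpf : ∀ g : G, (∀ a, φ a g = g) → g = 1) : NilByNil G :=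
  haveI := Fact.mk hp
  nilByNil_aux hcard hpow hcomm (Nat.card G) le_rfl φ hfpf

end CfsgLib.Ward
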