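import Cfsg.Agent.Lib.Solvable.CoprimeGeneration

/-!
The operator identities behind Ward's theorem on fixed-point-free elementary abelian groups of
automorphisms of order `p²`.

`Q`, `T`, `A` are subgroups of a group `H` represented in a ring `R` in which the sum of the
operators of `A` vanishes and `|Q|` is invertible. If `A` has no fixed point on `Q` and `T` and
each fixed point group of a non-identity element of `A` on `T` commutes with the one on `Q`, then
`T` centralises the image of `Q`.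
-/

set_option autoImplicit false

namespace CfsgLib.Ward

open Subgroup Finset

variable {H : Type*} [Group H] [Finite H] {R : Type*} [Ring R]

/-- The average of the operators of `X`. -/
noncomputable def avg (ρ : H →* R) (X : Subgroup H) : R :=
  letI := Fintype.ofFinite X
  (Ring.inverse (Nat.card X : R)) * ∑ x : X, ρ x

/-- The sum of the operators of the powers of `b`. -/
def powSum (ρ : H →* R) (p : ℕ) (b : H) : R := ∑ i ∈ range p, ρ (b ^ i)

variable (ρ : H →* R)

theorem commute_inv_natCast (y : R) {n : ℕ} (hn : IsUnit (n : R)) : Commute y (Ring.inverse (n : R)) := by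
  obtain ⟨u, hu⟩ := hn
  rw [← hu, Ring.inverse_unit]
  exact (Commute.units_inv_right (by rw [hu]; exact (Nat.cast_commute n y).symm))

theorem rho_mul_avg {X : Subgroup H} (hX : IsUnit (Nat.card X : R)) {x : H} (hx : x ∈ X) :
    ρ x * avg ρ X = avg ρ X := by
  letI := Fintype.ofFinite X
  unfold avg
  rw [← mul_assoc, (commute_inv_natCast (ρ x) hX).eq, mul_assoc, mul_sum]
  congr 1
  exact Fintype.sum_equiv (Equiv.mulLeft (⟨x, hx⟩ : X)) (fun y => ρ x * ρ (y : H))
    (fun y => ρ (y : H)) fun y => (map_mul ρ x y).symm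

theorem avg_mul_rho {X : Subgroup H} {x : H} (hx : x ∈ X) : avg ρ X * ρ x = avg ρ X := by
  letI := Fintype.ofFinite X
  unfold avg
  rw [mul_assoc, sum_mul]
  congr 1
  exact Fintype.sum_equiv (Equiv.mulRight (⟨x, hx⟩ : X)) (fun y => ρ (y : H) * ρ x)
    (fun y => ρ (y : H)) fun y => (map_mul ρ (y : H) x).symm

theorem mul_avg_of_fixed {X : Subgroup H} (hX : IsUnit (Nat.card X : R)) {δ : R}
    (h : ∀ x ∈ X, δ * ρ x = δ) : δ * avg ρ X = δ := by
  letI := Fintype.ofFinite X
  unfold avg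
  rw [← mul_assoc, (commute_inv_natCast δ hX).eq, mul_assoc, mul_sum,
    sum_congr rfl fun (x : X) _ => h x x.2, sum_const, card_univ, ← Nat.card_eq_fintype_card,
    nsmul_eq_mul, ← mul_assoc, Ring.inverse_mul_cancel _ hX, one_mul]

theorem avg_idem {X : Subgroup H} (hX : IsUnit (Nat.card X : R)) :
    avg ρ X * avg ρ X = avg ρ X :=
  mul_avg_of_fixed ρ hX fun _ hx => avg_mul_rho ρ hx

theorem commute_avg {X : Subgroup H} (hX : IsUnit (Nat.card X : R)) {y : R}
    (h : ∀ x ∈ X, Commute y (ρ x)) : Commute y (avg ρ X) := by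
  letI := Fintype.ofFinite X
  unfold avg
  exact (commute_inv_natCast y hX).mul_right (Commute.sum_right _ _ _ fun x _ => h x x.2)

theorem commute_avg_of_normalizer {X : Subgroup H} (hX : IsUnit (Nat.card X : R)) {h : H}
    (hh : h ∈ normalizer (X : Set H)) : Commute (ρ h) (avg ρ X) := by
  letI := Fintype.ofFinite X
  unfold avg
  refine (commute_inv_natCast (ρ h) hX).mul_right ?_
  show ρ h * _ = _ * ρ h
  rw [mul_sum, sum_mul]
  refine (Fintype.sum_bijective (fun x : X => (⟨h * x * h⁻¹, mem_normalizer_iff.1 hh x |>.1 x.2⟩ : X))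
    ?_ _ _ fun x => ?_)
  · refine Finite.injective_iff_bijective.1 fun x y e => ?_
    exact Subtype.ext (mul_left_cancel (mul_right_cancel (congrArg Subtype.val e)))
  · rw [← map_mul, ← map_mul]
    congr 1
    group

theorem powSum_mul_rho_comm {p : ℕ} {b x : H} (h : x * b = b * x) :
    Commute (ρ x) (powSum ρ p b) := by
  refine Commute.sum_right _ _ _ fun i _ => ?_
  exact (Commute.map ((show Commute x b from h).pow_right i) ρ)

/-- The identity of a Frobenius group: a complement without fixed points. -/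
theorem frob {p : ℕ} (hp : p.Prime) {X : Subgroup H} (hX : IsUnit (Nat.card X : R)) {b : H}
    (hb : b ∈ normalizer (X : Set H)) (hbp : b ^ p = 1)
    (hfree : ∀ x ∈ X, b * x = x * b → x = 1) {w : R}
    (hw : ∀ x ∈ X, w * ρ x * powSum ρ p b * ρ x⁻¹ = 0) : w * (1 - avg ρ X) = 0 := by
  classical
  letI := Fintype.ofFinite X
  obtain ⟨n, rfl⟩ : ∃ n, p = n + 1 := ⟨p - 1, by have := hp.pos; omega⟩
  set s : R := ∑ x : X, ρ x with hs
  set Y : R := ∑ i ∈ range n, ρ (b ^ (i + 1)) with hY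
  have hse : s * (1 - avg ρ X) = 0 := by
    have h1 : s * avg ρ X = s := by
      rw [hs, sum_mul, sum_congr rfl fun (x : X) _ => rho_mul_avg ρ hX x.2, sum_const, card_univ,
        ← Nat.card_eq_fintype_card, nsmul_eq_mul]
      unfold avg
      exact Ring.mul_inverse_cancel_left _ _ hX
    rw [mul_sub, mul_one, h1, sub_self]
  have hterm : ∀ i ∈ range n, (∑ x : X, ρ (x * b ^ (i + 1) * (x : H)⁻¹)) = s * ρ (b ^ (i + 1)) := by
    intro i hi
    set c := b ^ (i + 1) with hc
    have hcn : c ∈ normalizer (X : Set H) := pow_mem hb _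
    rw [hs, sum_mul]
    refine Fintype.sum_bijective
      (fun x : X => (⟨x * (c * (x : H)⁻¹ * c⁻¹),
        mul_mem x.2 ((mem_normalizer_iff.1 hcn _).1 (inv_mem x.2))⟩ : X)) ?_ _ _ fun x => ?_
    · refine Finite.injective_iff_bijective.1 fun x y e => ?_
      have h1 : (x : H) * (c * (x : H)⁻¹ * c⁻¹) = y * (c * (y : H)⁻¹ * c⁻¹) :=
        congrArg Subtype.val e
      have h2 : c * ((y : H)⁻¹ * x) = (y : H)⁻¹ * x * c := by
        have h3 := congrArg (fun z => (y : H)⁻¹ * z * c * x) h1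
        try dsimp only at h3
        group at h3 ⊢
        exact h3.symm
      have hcop : (i + 1).Coprime (n + 1) :=
        ((hp.coprime_iff_not_dvd).2 fun hd => by
          have := Nat.le_of_dvd (Nat.succ_pos i) hd
          have := mem_range.1 hi
          omega).symm
      have hbc : b ∈ zpowers c := by
        obtain ⟨k, hk⟩ := exists_pow_eq_self_of_coprime
          (hcop.coprime_dvd_right (orderOf_dvd_of_pow_eq_one hbp))
        exact hk ▸ pow_mem (mem_zpowers c) k
      obtain ⟨k, hk⟩ := hbc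
      have h4 : b * ((y : H)⁻¹ * x) = (y : H)⁻¹ * x * b := by
        rw [← hk]
        exact ((show Commute c ((y : H)⁻¹ * x) from h2).zpow_left k).eq
      exact Subtype.ext (inv_mul_eq_one.1 (hfree _ (mul_mem (inv_mem y.2) x.2) h4)).symm
    · rw [← map_mul]
      congr 1
      group
  have h0 : w * ((Nat.card X : R) + s * Y) = 0 := by
    have hsum : ∑ x : X, w * ρ x * powSum ρ (n + 1) b * ρ (x : H)⁻¹ = 0 :=
      sum_eq_zero fun x _ => hw x x.2
    have he : ∀ x : X, w * ρ x * powSum ρ (n + 1) b * ρ (x : H)⁻¹ =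
        w * (1 + ∑ i ∈ range n, ρ (x * b ^ (i + 1) * (x : H)⁻¹)) := by
      intro x
      unfold powSum
      rw [sum_range_succ', pow_zero, map_one, mul_add, add_mul, mul_one, mul_sum, sum_mul, mul_add,
        mul_sum, mul_one, mul_assoc w (ρ (x : H)) (ρ (x : H)⁻¹), ← map_mul, mul_inv_cancel, map_one,
        mul_one, add_comm]
      congr 1
      refine sum_congr rfl fun i _ => ?_
      simp only [map_mul, mul_assoc]
    rw [sum_congr rfl fun x _ => he x, ← mul_sum, sum_add_distrib, sum_comm,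
      sum_congr rfl hterm, sum_const, card_univ, ← Nat.card_eq_fintype_card, nsmul_one,
      ← mul_sum] at hsum
    exact hsum
  have hYe : Commute Y (1 - avg ρ X) := Commute.sum_left _ _ _ fun i _ =>
    (Commute.one_right _).sub_right (commute_avg_of_normalizer ρ hX (pow_mem hb _))
  have h1 : w * (Nat.card X : R) * (1 - avg ρ X) = 0 := by
    have h2 := congrArg (· * (1 - avg ρ X)) h0
    try dsimp only at h2
    rwa [zero_mul, mul_assoc, add_mul, mul_assoc s, hYe.eq, ← mul_assoc s, hse, zero_mul,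
      add_zero, ← mul_assoc] at h2
  calc w * (1 - avg ρ X)
      = (Ring.inverse (Nat.card X : R)) * ((Nat.card X : R) * (w * (1 - avg ρ X))) :=
        (Ring.inverse_mul_cancel_left _ _ hX).symm
    _ = (Ring.inverse (Nat.card X : R)) * (w * (Nat.card X : R) * (1 - avg ρ X)) := by
        rw [← mul_assoc (Nat.card X : R), (Nat.cast_commute _ w).eq]
    _ = 0 := by rw [h1, mul_zero]

/-- The hypotheses on the three subgroups. -/
structure Setup (p : ℕ) (A Q T : Subgroup H) : Prop where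
  prime : p.Prime
  cardA : Nat.card A = p ^ 2
  powA : ∀ a ∈ A, a ^ p = 1
  commA : ∀ a ∈ A, ∀ b ∈ A, a * b = b * a
  normQ : Q.Normal
  nilQ : Group.IsNilpotent Q
  normT : A ≤ normalizer (T : Set H)
  copQ : p.Coprime (Nat.card Q)
  copT : p.Coprime (Nat.card T)
  fix : ∀ x : H, x ∈ Q ∨ x ∈ T → (∀ a ∈ A, a * x = x * a) → x = 1
  cent : ∀ a ∈ A, a ≠ 1 → ∀ x ∈ Q, ∀ t ∈ T, a * x = x * a → a * t = t * a → x * t = t * x

section

variable {p : ℕ} {A Q T : Subgroup H} (S : Setup p A Q T)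
include S

theorem orderOf_eq {a : H} (ha : a ∈ A) (h1 : a ≠ 1) : orderOf a = p :=
  haveI := Fact.mk S.prime
  orderOf_eq_prime (S.powA a ha) h1

theorem zpowers_eq {a d : H} (ha : a ∈ A) (hd1 : d ≠ 1) (hd : d ∈ zpowers a) :
    zpowers d = zpowers a := by
  have hda : d ∈ A := (zpowers_le.2 ha) hd
  have ha1 : a ≠ 1 := by
    rintro rfl
    rw [zpowers_one_eq_bot] at hd
    exact hd1 (mem_bot.1 hd)
  exact eq_of_le_of_card_ge (zpowers_le.2 hd)
    (by rw [Nat.card_zpowers, Nat.card_zpowers, orderOf_eq S hda hd1, orderOf_eq S ha ha1])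

theorem not_mem_zpowers_symm {a b : H} (ha : a ∈ A) (ha1 : a ≠ 1) (hb : b ∈ A)
    (h : b ∉ zpowers a) : a ∉ zpowers b := fun h' =>
  h (by rw [zpowers_eq S hb ha1 h']; exact mem_zpowers b)

theorem exists_not_mem_zpowers {a : H} (ha : a ∈ A) : ∃ b ∈ A, b ∉ zpowers a := by
  by_contra hcon
  push Not at hcon
  have h1 := card_le_of_le (H := A) (K := zpowers a) hcon
  rw [S.cardA, Nat.card_zpowers] at h1
  have h2 := Nat.le_of_dvd S.prime.pos (orderOf_dvd_of_pow_eq_one (S.powA a ha))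
  have h3 : p < p ^ 2 := lt_self_pow₀ S.prime.one_lt (by norm_num)
  omega

theorem bijective_pair {a b : H} (ha : a ∈ A) (ha1 : a ≠ 1) (hb : b ∈ A) (hab : b ∉ zpowers a) :
    Function.Bijective (fun x : Fin p × Fin p =>
      (⟨a ^ (x.1 : ℕ) * b ^ (x.2 : ℕ), mul_mem (pow_mem ha _) (pow_mem hb _)⟩ : A)) := by
  letI := Fintype.ofFinite A
  refine (Fintype.bijective_iff_injective_and_card _).2 ⟨?_, ?_⟩
  · intro x y e
    have h1 : a ^ (x.1 : ℕ) * b ^ (x.2 : ℕ) = a ^ (y.1 : ℕ) * b ^ (y.2 : ℕ) :=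
      congrArg Subtype.val e
    have hb1 : b ≠ 1 := fun h => hab (h ▸ one_mem _)
    have h2 : b ^ ((x.2 : ℤ) - (y.2 : ℤ)) ∈ zpowers a := by
      rw [zpow_sub, zpow_natCast, zpow_natCast,
        show b ^ (x.2 : ℕ) = (a ^ (x.1 : ℕ))⁻¹ * a ^ (y.1 : ℕ) * b ^ (y.2 : ℕ) by
          rw [mul_assoc, ← h1, inv_mul_cancel_left], mul_inv_cancel_right]
      exact mul_mem (inv_mem (pow_mem (mem_zpowers a) _)) (pow_mem (mem_zpowers a) _)
    have h3 : b ^ ((x.2 : ℤ) - (y.2 : ℤ)) = 1 := by
      by_contra hne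
      refine hab ?_
      rw [← zpowers_eq S ha hne h2,
        zpowers_eq S hb hne ⟨_, rfl⟩]
      exact mem_zpowers b
    have h4 : x.2 = y.2 := by
      have h5 := (orderOf_dvd_iff_zpow_eq_one.2 h3)
      rw [orderOf_eq S hb hb1] at h5
      have := Int.eq_zero_of_abs_lt_dvd h5 (by
        rw [abs_lt]; have := x.2.2; have := y.2.2; omega)
      exact Fin.ext (by omega)
    rw [h4, mul_left_inj] at h1
    have h6 : x.1 = y.1 := Fin.ext (pow_injOn_Iio_orderOf
      (by simp [orderOf_eq S ha ha1]) (by simp [orderOf_eq S ha ha1]) h1)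
    exact Prod.ext h6 h4
  · rw [Fintype.card_prod, Fintype.card_fin, ← Nat.card_eq_fintype_card, S.cardA, pow_two]

theorem sum_eq_mul_powSum [Fintype A] {a b : H} (ha : a ∈ A) (ha1 : a ≠ 1) (hb : b ∈ A)
    (hab : b ∉ zpowers a) : (∑ x : A, ρ x) = powSum ρ p a * powSum ρ p b := by
  unfold powSum
  rw [sum_mul_sum, ← Fintype.sum_bijective _ (bijective_pair S ha ha1 hb hab) _ _ fun x => rfl,
    Fintype.sum_prod_type, ← Fin.sum_univ_eq_sum_range]
  refine sum_congr rfl fun i _ => ?_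
  rw [← Fin.sum_univ_eq_sum_range]
  exact sum_congr rfl fun j _ => map_mul ρ _ _

theorem commute_all {a b : H} (ha : a ∈ A) (ha1 : a ≠ 1) (hb : b ∈ A) (hab : b ∉ zpowers a)
    {x : H} (h1 : a * x = x * a) (h2 : b * x = x * b) : ∀ c ∈ A, c * x = x * c := by
  intro c hc
  obtain ⟨⟨i, j⟩, h⟩ := (bijective_pair S ha ha1 hb hab).2 ⟨c, hc⟩
  rw [← show a ^ (i : ℕ) * b ^ (j : ℕ) = c from congrArg Subtype.val h]
  exact (((show Commute a x from h1).pow_left _).mul_left ((show Commute b x from h2).pow_left _)).eq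

theorem eq_one_of_commute {a b : H} (ha : a ∈ A) (ha1 : a ≠ 1) (hb : b ∈ A)
    (hab : b ∉ zpowers a) {x : H} (hx : x ∈ Q ∨ x ∈ T) (h1 : a * x = x * a)
    (h2 : b * x = x * b) : x = 1 :=
  S.fix x hx (commute_all S ha ha1 hb hab h1 h2)

theorem not_isCyclic : ¬ IsCyclic A := by
  intro h
  obtain ⟨g, hg⟩ := IsCyclic.exists_ofOrder_eq_natCard (α := A)
  have h1 : (g : H) ^ p = 1 := S.powA g g.2
  have h2 := orderOf_dvd_of_pow_eq_one h1
  rw [orderOf_coe, hg, S.cardA] at h2
  have h3 := Nat.le_of_dvd S.prime.pos h2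
  have : p < p ^ 2 := lt_self_pow₀ S.prime.one_lt (by norm_num)
  omega

/-- Induction on the generation by fixed points. -/
theorem gen_le {K L : Subgroup H} (hn : A ≤ normalizer (K : Set H))
    (hcop : p.Coprime (Nat.card K))
    (h : ∀ a ∈ A, a ≠ 1 → ∀ x ∈ K, a * x = x * a → x ∈ L) : K ≤ L := by
  haveI : IsMulCommutative A := ⟨⟨fun a b => Subtype.ext (S.commA a a.2 b b.2)⟩⟩
  have h1 := CfsgLib.CoprimeGeneration.iSup_centralizer_eq A K (not_isCyclic S) hn
    (by rw [S.cardA]; exact hcop.pow_left 2)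
  rw [← h1]
  refine iSup₂_le fun a ha x hx => h a ha.1 ha.2 x hx.1 ?_
  exact (mem_centralizer_singleton_iff.1 hx.2).symm

theorem gen_le_Q {L : Subgroup H}
    (h : ∀ a ∈ A, a ≠ 1 → ∀ x ∈ Q, a * x = x * a → x ∈ L) : Q ≤ L :=
  gen_le S (fun a _ => S.normQ.conj_mem |> fun _ => by
    rw [(normalizer_eq_top_iff (H := Q)).2 S.normQ]; exact mem_top a) S.copQ h

end

/-- The data of one step: `Z` is central in the image of `Q`. -/
structure Central (ρ : H →* R) (A Q Z : Subgroup H) : Prop where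
  le : Z ≤ Q
  normal : Z.Normal
  comm : ∀ z ∈ Z, ∀ x ∈ Q, Commute (ρ z) (ρ x)
  unit : IsUnit (Nat.card Q : R)
  sumA : ∀ [Fintype A], (∑ x : A, ρ x) = 0

theorem isUnit_card {Q X : Subgroup H} (hu : IsUnit (Nat.card Q : R)) (h : X ≤ Q) :
    IsUnit (Nat.card X : R) := by
  obtain ⟨k, hk⟩ := card_dvd_of_le h
  rw [hk, Nat.cast_mul] at hu
  exact ((Nat.cast_commute _ _).isUnit_mul_iff.1 hu).1

section

variable {p : ℕ} {A Q T Z : Subgroup H} (S : Setup p A Q T) (C : Central ρ A Q Z)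

/-- The projection away from the fixed points of the centraliser of `a` in `Z`. -/
noncomputable def proj (Z : Subgroup H) (a : H) : R := 1 - avg ρ (Z ⊓ centralizer {a})

/-- A conjugate of a projection. -/
noncomputable def conjProj (Z : Subgroup H) (f s : H) : R := ρ s⁻¹ * proj ρ Z f * ρ s

include S C

theorem mem_normalizer_inf {a h : H} (hh : h * a = a * h) :
    h ∈ normalizer ((Z ⊓ centralizer {a} : Subgroup H) : Set H) := by
  have hc : h ∈ centralizer ({a} : Set H) := mem_centralizer_singleton_iff.2 hh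
  rw [mem_normalizer_iff]
  intro x
  constructor
  · intro hx
    exact mem_inf.2 ⟨C.normal.conj_mem x hx.1 h,
      mul_mem (mul_mem hc (mem_inf.1 hx).2) (inv_mem hc)⟩
  · intro hx
    have h1 := C.normal.conj_mem _ hx.1 h⁻¹
    have h2 : h⁻¹ * (h * x * h⁻¹) * h ∈ centralizer ({a} : Set H) :=
      mul_mem (mul_mem (inv_mem hc) (mem_inf.1 hx).2) hc
    exact mem_inf.2 ⟨by simpa [mul_assoc] using h1, by simpa [mul_assoc] using h2⟩

theorem commute_proj_Q {a y : H} (hy : y ∈ Q) : Commute (ρ y) (proj ρ Z a) :=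
  (Commute.one_right _).sub_right (commute_avg ρ (isUnit_card C.unit (inf_le_left.trans C.le))
    fun z hz => (C.comm z hz.1 y hy).symm)

theorem commute_proj_of_comm {a h : H} (hh : h * a = a * h) : Commute (ρ h) (proj ρ Z a) :=
  (Commute.one_right _).sub_right (commute_avg_of_normalizer ρ
    (isUnit_card C.unit (inf_le_left.trans C.le)) (mem_normalizer_inf ρ S C hh))

theorem powSum_mul_one_sub_avg {a : H} (ha : a ∈ A) (ha1 : a ≠ 1) {X : Subgroup H} (hXQ : X ≤ Q)
    (hXc : ∀ x ∈ X, a * x = x * a) (hXn : A ≤ normalizer (X : Set H)) :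
    powSum ρ p a * (1 - avg ρ X) = 0 := by
  letI := Fintype.ofFinite A
  obtain ⟨b, hb, hab⟩ := exists_not_mem_zpowers S ha
  refine frob ρ S.prime (isUnit_card C.unit hXQ) (hXn hb) (S.powA b hb)
    (fun x hx h => eq_one_of_commute S ha ha1 hb hab (Or.inl (hXQ hx)) (hXc x hx) h) fun x hx => ?_
  rw [← (powSum_mul_rho_comm ρ (hXc x hx).symm).eq, mul_assoc (ρ x),
    ← sum_eq_mul_powSum ρ S ha ha1 hb hab, C.sumA, mul_zero, zero_mul]

theorem proj_mul_rho {a b : H} (ha : a ∈ A) (ha1 : a ≠ 1) (hb : b ∈ A) (hab : b ∉ zpowers a)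
    {v : H} (hv : v ∈ Q) (hbv : b * v = v * b) : proj ρ Z a * ρ v = proj ρ Z a := by
  have hXn : a ∈ normalizer ((Q ⊓ centralizer {b} : Subgroup H) : Set H) := by
    have hc : a ∈ centralizer ({b} : Set H) := mem_centralizer_singleton_iff.2 (S.commA a ha b hb)
    rw [mem_normalizer_iff]
    intro x
    refine ⟨fun hx => mem_inf.2 ⟨S.normQ.conj_mem x hx.1 a,
      mul_mem (mul_mem hc (mem_inf.1 hx).2) (inv_mem hc)⟩, fun hx => mem_inf.2 ⟨?_, ?_⟩⟩
    · simpa [mul_assoc] using S.normQ.conj_mem _ hx.1 a⁻¹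
    · simpa [mul_assoc] using mul_mem (mul_mem (inv_mem hc) (mem_inf.1 hx).2) hc
  have hU := isUnit_card C.unit (inf_le_left : Q ⊓ centralizer {b} ≤ Q)
  have hf := frob ρ S.prime hU hXn (S.powA a ha)
    (fun x hx h => eq_one_of_commute S ha ha1 hb hab (Or.inl hx.1) h
      (mem_centralizer_singleton_iff.1 hx.2).symm) (w := proj ρ Z a) (fun x hx => by
        unfold powSum
        rw [← (commute_proj_Q ρ S C hx.1).eq, mul_assoc (ρ x),
          ← (Commute.sum_left (range p) (fun i => ρ (a ^ i)) (proj ρ Z a) fun i _ =>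
            commute_proj_of_comm ρ S C ((Commute.refl a).pow_left i).eq).eq]
        have h2 := powSum_mul_one_sub_avg ρ S C ha ha1 (X := Z ⊓ centralizer {a})
          (inf_le_left.trans C.le) (fun x hx => (mem_centralizer_singleton_iff.1 hx.2).symm)
          (fun c hc => mem_normalizer_inf ρ S C (S.commA c hc a ha))
        unfold powSum at h2
        unfold proj
        rw [h2, mul_zero, zero_mul])
  rw [mul_sub, mul_one, sub_eq_zero] at hf
  conv_lhs => rw [hf, mul_assoc, avg_mul_rho ρ (⟨hv, mem_centralizer_singleton_iff.2 hbv.symm⟩ :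
    v ∈ Q ⊓ centralizer {b})]
  exact hf.symm

theorem inv_mul_proj {c y d : H} (hy : y ∈ Q) (h : ρ c * proj ρ Z d = ρ y * proj ρ Z d) :
    ρ c⁻¹ * proj ρ Z d = ρ y⁻¹ * proj ρ Z d := by
  calc ρ c⁻¹ * proj ρ Z d = ρ c⁻¹ * (ρ y * ρ y⁻¹ * proj ρ Z d) := by
        rw [← map_mul ρ y, mul_inv_cancel, map_one, one_mul]
    _ = ρ c⁻¹ * (ρ y * proj ρ Z d) * ρ y⁻¹ := by
        rw [mul_assoc (ρ y), (commute_proj_Q ρ S C (inv_mem hy)).eq, ← mul_assoc (ρ y), ← mul_assoc]
    _ = ρ y⁻¹ * proj ρ Z d := by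
        rw [← h, ← mul_assoc (ρ c⁻¹), ← map_mul, inv_mul_cancel, map_one, one_mul,
          (commute_proj_Q ρ S C (inv_mem hy)).eq]

theorem rho_conj_mul_proj {d x : H} (hd : d ∈ A) (hd1 : d ≠ 1) (hx : x ∈ Q) :
    ρ (d * x * d⁻¹) * proj ρ Z d = ρ x * proj ρ Z d := by
  let L : Subgroup H :=
    { carrier := {y | y ∈ Q ∧ ρ (d * y * d⁻¹) * proj ρ Z d = ρ y * proj ρ Z d}
      one_mem' := ⟨one_mem Q, by simp⟩
      mul_mem' := fun {y z} hy hz => ⟨mul_mem hy.1 hz.1, by
        rw [show d * (y * z) * d⁻¹ = d * y * d⁻¹ * (d * z * d⁻¹) by group, map_mul, mul_assoc,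
          hz.2, (commute_proj_Q ρ S C hz.1).eq, ← mul_assoc, hy.2, mul_assoc,
          ← (commute_proj_Q ρ S C hz.1).eq, ← mul_assoc, ← map_mul]⟩
      inv_mem' := fun {y} hy => ⟨inv_mem hy.1, by
        rw [show d * y⁻¹ * d⁻¹ = (d * y * d⁻¹)⁻¹ by group]
        exact inv_mul_proj ρ S C hy.1 hy.2⟩ }
  suffices Q ≤ L from (this hx).2
  refine gen_le_Q S fun b hb hb1 y hy hby => ⟨hy, ?_⟩
  by_cases h : b ∈ zpowers d
  · have hdb : d ∈ zpowers b := by rw [zpowers_eq S hd hb1 h]; exact mem_zpowers d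
    obtain ⟨k, hk⟩ := hdb
    have : d * y = y * d := by rw [← hk]; exact ((show Commute b y from hby).zpow_left k).eq
    rw [this, mul_inv_cancel_right]
  · have h1 : b * (d * y * d⁻¹) = d * y * d⁻¹ * b :=
      (((show Commute b d from S.commA b hb d hd).mul_right hby).mul_right
        (show Commute b d from S.commA b hb d hd).inv_right).eq
    rw [(commute_proj_Q ρ S C (S.normQ.conj_mem y hy d)).eq, (commute_proj_Q ρ S C hy).eq,
      proj_mul_rho ρ S C hd hd1 hb h (S.normQ.conj_mem y hy d) h1,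
      proj_mul_rho ρ S C hd hd1 hb h hy hby]

theorem mul_proj_eq_zero {δ : R} (h : ∀ d ∈ A, d ≠ 1 → δ * proj ρ Z d = 0) :
    δ = δ * avg ρ Z := by
  have hU := isUnit_card C.unit C.le
  let L : Subgroup H :=
    { carrier := {z | δ * ρ z = δ}
      one_mem' := by simp
      mul_mem' := fun {y z} hy hz => by
        show δ * ρ (y * z) = δ
        rw [map_mul, ← mul_assoc, hy, hz]
      inv_mem' := fun {y} hy => by
        show δ * ρ y⁻¹ = δ
        conv_lhs => rw [← hy, mul_assoc, ← map_mul, mul_inv_cancel, map_one, mul_one] }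
  have hle : Z ≤ L := gen_le S (fun a _ => by
      haveI := C.normal
      rw [(normalizer_eq_top_iff (H := Z)).2 C.normal]; exact mem_top a)
    (S.copQ.coprime_dvd_right (card_dvd_of_le C.le)) fun d hd hd1 z hz hdz => by
      have h1 := h d hd hd1
      rw [proj, mul_sub, mul_one, sub_eq_zero] at h1
      show δ * ρ z = δ
      conv_lhs => rw [h1, mul_assoc, avg_mul_rho ρ (⟨hz, mem_centralizer_singleton_iff.2 hdz.symm⟩ :
        z ∈ Z ⊓ centralizer {d})]
      exact h1.symm
  exact (mul_avg_of_fixed ρ hU hle).symm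

variable {a : H} (ha : a ∈ A) (ha1 : a ≠ 1)
include ha ha1

theorem commute_proj_a {f s : H} (hf : f ∈ A) (hs : s ∈ T) (has : a * s = s * a)
    (h : f ∈ zpowers a) : Commute (ρ s) (proj ρ Z f) := by
  refine commute_proj_of_comm ρ S C ?_
  obtain ⟨k, hk⟩ := h
  rw [← hk]
  exact (((show Commute a s from has).zpow_left k).eq).symm

theorem conjProj_mul_commute {f d s : H} (hf : f ∈ A) (hf1 : f ≠ 1) (hd : d ∈ A) (hd1 : d ≠ 1)
    (hs : s ∈ T) (has : a * s = s * a) (c : H) (hc : c ∈ A) :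
    Commute (ρ c) (conjProj ρ Z f s * proj ρ Z d) := by
  by_cases hda : d ∈ zpowers a
  · have hcs : Commute (ρ s) (proj ρ Z d) := commute_proj_a ρ S C ha ha1 hd hs has hda
    have hcfd : Commute (ρ s) (proj ρ Z f * proj ρ Z d) := by
      by_cases hfa : f ∈ zpowers a
      · exact (commute_proj_a ρ S C ha ha1 hf hs has hfa).mul_right hcs
      · have hfd : f ∉ zpowers d := by rw [zpowers_eq S ha hd1 hda]; exact hfa
        have h1 : proj ρ Z d * avg ρ (Z ⊓ centralizer {f}) = proj ρ Z d :=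
          mul_avg_of_fixed ρ (isUnit_card C.unit (inf_le_left.trans C.le)) fun z hz =>
            proj_mul_rho ρ S C hd hd1 hf hfd (C.le hz.1) (mem_centralizer_singleton_iff.1 hz.2).symm
        have h2 : Commute (proj ρ Z d) (avg ρ (Z ⊓ centralizer {f})) :=
          commute_avg ρ (isUnit_card C.unit (inf_le_left.trans C.le)) fun z hz =>
            (commute_proj_Q ρ S C (C.le hz.1)).symm
        have h3 : proj ρ Z f * proj ρ Z d = 0 := by
          rw [proj, sub_mul, one_mul, ← h2.eq, h1, sub_self]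
        rw [h3]; exact Commute.zero_right _
    have e : conjProj ρ Z f s * proj ρ Z d = proj ρ Z f * proj ρ Z d := by
      rw [conjProj, mul_assoc, hcs.eq, ← mul_assoc, mul_assoc (ρ s⁻¹), mul_assoc (ρ s⁻¹),
        ← hcfd.eq, ← mul_assoc, ← map_mul, inv_mul_cancel, map_one, one_mul]
    rw [e]
    exact (commute_proj_of_comm ρ S C (S.commA c hc f hf)).mul_right
      (commute_proj_of_comm ρ S C (S.commA c hc d hd))
  · obtain ⟨⟨i, j⟩, h⟩ := (bijective_pair S ha ha1 hd hda).2 ⟨c, hc⟩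
    rw [← show a ^ (i : ℕ) * d ^ (j : ℕ) = c from congrArg Subtype.val h, map_mul, map_pow,
      map_pow]
    refine (Commute.pow_left ?_ _).mul_left (Commute.pow_left ?_ _)
    · refine Commute.mul_right ?_ (commute_proj_of_comm ρ S C (S.commA a ha d hd))
      exact (((show Commute a s from has).inv_right.map ρ).mul_right
        (commute_proj_of_comm ρ S C (S.commA a ha f hf))).mul_right
        ((show Commute a s from has).map ρ)
    · letI := Fintype.ofFinite (Z ⊓ centralizer {f} : Subgroup H)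
      have hU := isUnit_card C.unit (inf_le_left.trans C.le : Z ⊓ centralizer {f} ≤ Q)
      have e : conjProj ρ Z f s * proj ρ Z d = proj ρ Z d -
          (Ring.inverse (Nat.card (Z ⊓ centralizer {f} : Subgroup H) : R)) *
            ∑ z : (Z ⊓ centralizer {f} : Subgroup H), ρ (s⁻¹ * z * s) * proj ρ Z d := by
        rw [conjProj, show proj ρ Z f = 1 - avg ρ (Z ⊓ centralizer {f}) from rfl, mul_sub, mul_one,
          sub_mul, sub_mul, ← map_mul, inv_mul_cancel, map_one, one_mul]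
        congr 1
        unfold avg
        rw [← mul_assoc, (commute_inv_natCast (ρ s⁻¹) hU).eq, mul_assoc, mul_assoc, mul_assoc]
        congr 1
        rw [sum_mul, mul_sum]
        refine sum_congr rfl fun z _ => ?_
        simp only [map_mul, mul_assoc]
      rw [e]
      refine (commute_proj_of_comm ρ S C rfl).sub_right
        ((commute_inv_natCast (ρ d) hU).mul_right (Commute.sum_right _ _ _ fun z _ => ?_))
      have hm : s⁻¹ * (z : H) * s ∈ Z := by simpa using C.normal.conj_mem z z.2.1 s⁻¹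
      show ρ d * (ρ _ * proj ρ Z d) = ρ _ * proj ρ Z d * ρ d
      rw [← mul_assoc, ← map_mul,
        show d * (s⁻¹ * (z : H) * s) = d * (s⁻¹ * (z : H) * s) * d⁻¹ * d by group, map_mul ρ _ d,
        mul_assoc, (commute_proj_of_comm ρ S C (rfl : d * d = d * d)).eq, ← mul_assoc,
        rho_conj_mul_proj ρ S C hd hd1 (C.le hm)]

theorem conjProj_mul_avg {f s : H} (hf : f ∈ A) : conjProj ρ Z f s * avg ρ Z = 0 := by
  haveI := C.normal
  have hU := isUnit_card C.unit C.le
  have h1 : Commute (ρ s) (avg ρ Z) := commute_avg_of_normalizer ρ hU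
    (by rw [(normalizer_eq_top_iff (H := Z)).2 C.normal]; exact mem_top s)
  have h2 : avg ρ Z * proj ρ Z f = 0 := by
    rw [proj, mul_sub, mul_one,
      mul_avg_of_fixed ρ (isUnit_card C.unit (inf_le_left.trans C.le)) fun x hx =>
        avg_mul_rho ρ hx.1, sub_self]
  have h3 : Commute (avg ρ Z) (proj ρ Z f) := by
    refine (Commute.one_right _).sub_right (commute_avg ρ
      (isUnit_card C.unit (inf_le_left.trans C.le)) fun z hz => ?_)
    exact (commute_avg_of_normalizer ρ hU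
      (by rw [(normalizer_eq_top_iff (H := Z)).2 C.normal]; exact mem_top z)).symm
  rw [conjProj, mul_assoc, h1.eq, ← mul_assoc, mul_assoc (ρ s⁻¹), ← h3.eq, h2, mul_zero, zero_mul]

theorem conjProj_conj {f s b : H} (hf : f ∈ A) (hf1 : f ≠ 1) (hb : b ∈ A) (hs : s ∈ T)
    (has : a * s = s * a) : conjProj ρ Z f (b * s * b⁻¹) = conjProj ρ Z f s := by
  have hE : Commute (ρ b) (proj ρ Z f) := commute_proj_of_comm ρ S C (S.commA b hb f hf)
  have e1 : conjProj ρ Z f (b * s * b⁻¹) = ρ b * conjProj ρ Z f s * ρ b⁻¹ := by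
    have e2 : proj ρ Z f = ρ b * proj ρ Z f * ρ b⁻¹ := by
      rw [hE.eq, mul_assoc, ← map_mul, mul_inv_cancel, map_one, mul_one]
    rw [conjProj, conjProj]
    conv_lhs => rw [e2]
    simp only [← mul_assoc, ← map_mul]
    rw [show (b * s * b⁻¹)⁻¹ * b = b * s⁻¹ by group, mul_assoc (_ * proj ρ Z f), ← map_mul,
      show b⁻¹ * (b * s * b⁻¹) = s * b⁻¹ by group, map_mul ρ s, ← mul_assoc]
  rw [← sub_eq_zero, mul_proj_eq_zero ρ S C
    (δ := conjProj ρ Z f (b * s * b⁻¹) - conjProj ρ Z f s) fun d hd hd1 => ?_]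
  · rw [sub_mul, conjProj_mul_avg ρ S C ha ha1 hf, conjProj_mul_avg ρ S C ha ha1 hf, sub_zero]
  · rw [sub_mul, e1, sub_eq_zero, mul_assoc,
      (commute_proj_of_comm ρ S C (show b⁻¹ * d = d * b⁻¹ from
        S.commA _ (inv_mem hb) d hd)).eq, ← mul_assoc, mul_assoc (ρ b),
      (conjProj_mul_commute ρ S C ha ha1 hf hf1 hd hd1 hs has b hb).eq, mul_assoc, ← map_mul,
      mul_inv_cancel, map_one, mul_one]

theorem conjProj_eq {f t : H} (hf : f ∈ A) (hf1 : f ≠ 1) (ht : t ∈ T) (hat : a * t = t * a) :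
    conjProj ρ Z f t = proj ρ Z f := by
  obtain ⟨b, hb, hab⟩ := exists_not_mem_zpowers S ha
  have hcj : ∀ c ∈ A, ∀ u ∈ T ⊓ centralizer {a}, c * u * c⁻¹ ∈ T ⊓ centralizer {a} := fun c hc u hu =>
    have hc' : c ∈ centralizer ({a} : Set H) := mem_centralizer_singleton_iff.2 (S.commA c hc a ha)
    mem_inf.2 ⟨(mem_normalizer_iff.1 (S.normT hc) u).1 hu.1,
      mul_mem (mul_mem hc' (mem_inf.1 hu).2) (inv_mem hc')⟩
  have hmul : ∀ s u : H, conjProj ρ Z f (s * u) = ρ u⁻¹ * conjProj ρ Z f s * ρ u := fun s u => by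
    simp only [conjProj, mul_inv_rev, map_mul, mul_assoc]
  have key : ∀ s u : H, s ∈ T ⊓ centralizer {a} → u ∈ T ⊓ centralizer {a} →
      conjProj ρ Z f (b * s * b⁻¹ * u) = conjProj ρ Z f (b * s * b⁻¹ * (b * u * b⁻¹)) := by
    intro s u hs hu
    have hsu := mul_mem hs hu
    rw [hmul, conjProj_conj ρ S C ha ha1 hf hf1 hb hs.1 (mem_centralizer_singleton_iff.1 hs.2).symm,
      ← hmul, show b * s * b⁻¹ * (b * u * b⁻¹) = b * (s * u) * b⁻¹ by group,
      conjProj_conj ρ S C ha ha1 hf hf1 hb hsu.1 (mem_centralizer_singleton_iff.1 hsu.2).symm]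
  let F : (T ⊓ centralizer {a} : Subgroup H) → (T ⊓ centralizer {a} : Subgroup H) := fun u =>
    ⟨(u : H)⁻¹ * (b * u * b⁻¹), mul_mem (inv_mem u.2) (hcj b hb u u.2)⟩
  have hF : Function.Surjective F := Finite.surjective_of_injective fun u v e => by
    have h1 : (u : H)⁻¹ * (b * u * b⁻¹) = (v : H)⁻¹ * (b * v * b⁻¹) := congrArg Subtype.val e
    have h2 : b * ((u : H) * (v : H)⁻¹) = (u : H) * (v : H)⁻¹ * b := by
      have h3 := congrArg (fun z => (u : H) * z * b * (v : H)⁻¹) h1
      try dsimp only at h3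
      group at h3 ⊢
      exact h3
    have hm := mul_mem u.2 (inv_mem v.2)
    exact Subtype.ext (mul_inv_eq_one.1 (eq_one_of_commute S ha ha1 hb hab (Or.inr hm.1)
      (mem_centralizer_singleton_iff.1 hm.2).symm h2))
  obtain ⟨⟨u, hu⟩, huF⟩ := hF ⟨t, ht, mem_centralizer_singleton_iff.2 hat.symm⟩
  have h1 : u⁻¹ * (b * u * b⁻¹) = t := congrArg Subtype.val huF
  have hs : b⁻¹ * u⁻¹ * b ∈ T ⊓ centralizer {a} := by
    simpa using hcj b⁻¹ (inv_mem hb) u⁻¹ (inv_mem hu)
  have h2 := key _ u hs hu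
  rw [show b * (b⁻¹ * u⁻¹ * b) * b⁻¹ = u⁻¹ by group, inv_mul_cancel, h1] at h2
  rw [← h2]
  simp [conjProj]

theorem conj_mul_proj {d t y : H} (hd : d ∈ A) (hd1 : d ≠ 1) (ht : t ∈ T) (hat : a * t = t * a)
    (hy : y ∈ Q) : ρ (t * y * t⁻¹) * proj ρ Z d = ρ y * proj ρ Z d := by
  by_cases hda : d ∈ zpowers a
  · have hz := zpowers_eq S ha hd1 hda
    have hcs : ∀ s : H, s ∈ T → a * s = s * a → Commute (ρ s) (proj ρ Z d) :=
      fun s hs has => commute_proj_a ρ S C ha ha1 hd hs has hda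
    let L : Subgroup H :=
      { carrier := {x | x ∈ Q ∧ ρ (t * x * t⁻¹) * proj ρ Z d = ρ x * proj ρ Z d}
        one_mem' := ⟨one_mem Q, by simp⟩
        mul_mem' := fun {x z} hx hz => ⟨mul_mem hx.1 hz.1, by
          rw [show t * (x * z) * t⁻¹ = t * x * t⁻¹ * (t * z * t⁻¹) by group, map_mul, mul_assoc,
            hz.2, (commute_proj_Q ρ S C hz.1).eq, ← mul_assoc, hx.2, mul_assoc,
            ← (commute_proj_Q ρ S C hz.1).eq, ← mul_assoc, ← map_mul]⟩
        inv_mem' := fun {x} hx => ⟨inv_mem hx.1, by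
          rw [show t * x⁻¹ * t⁻¹ = (t * x * t⁻¹)⁻¹ by group]
          exact inv_mul_proj ρ S C hx.1 hx.2⟩ }
    suffices Q ≤ L from (this hy).2
    refine gen_le_Q S fun b hb hb1 x hx hbx => ⟨hx, ?_⟩
    by_cases hbd : b ∈ zpowers d
    · rw [hz] at hbd
      have hab : a ∈ zpowers b := by rw [zpowers_eq S ha hb1 hbd]; exact mem_zpowers a
      obtain ⟨k, hk⟩ := hab
      have hax : a * x = x * a := by rw [← hk]; exact ((show Commute b x from hbx).zpow_left k).eq
      rw [← S.cent a ha ha1 x hx t ht hax hat, mul_inv_cancel_right]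
    · have h1 : ρ x * proj ρ Z d = proj ρ Z d := by
        rw [(commute_proj_Q ρ S C hx).eq, proj_mul_rho ρ S C hd hd1 hb hbd hx hbx]
      rw [h1, map_mul, map_mul, mul_assoc,
        (hcs t⁻¹ (inv_mem ht) (show Commute a t from hat).inv_right.eq).eq, ← mul_assoc,
        mul_assoc (ρ t), h1, (hcs t ht hat).eq, mul_assoc, ← map_mul, mul_inv_cancel, map_one,
        mul_one]
  · have hcj : ∀ u ∈ T ⊓ centralizer {a}, d * u * d⁻¹ ∈ T ⊓ centralizer {a} := fun u hu =>
      have hc' : d ∈ centralizer ({a} : Set H) := mem_centralizer_singleton_iff.2 (S.commA d hd a ha)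
      mem_inf.2 ⟨(mem_normalizer_iff.1 (S.normT hd) u).1 hu.1,
        mul_mem (mul_mem hc' (mem_inf.1 hu).2) (inv_mem hc')⟩
    have hcE : ∀ u ∈ T ⊓ centralizer {a}, Commute (ρ u) (proj ρ Z d) := fun u hu => by
      have h1 := conjProj_eq ρ S C ha ha1 hd hd1 hu.1 (mem_centralizer_singleton_iff.1 hu.2).symm
      show ρ u * proj ρ Z d = proj ρ Z d * ρ u
      conv_lhs => rw [← h1, conjProj, ← mul_assoc, ← mul_assoc, ← map_mul, mul_inv_cancel, map_one,
        one_mul]
    have key : ∀ s ∈ T ⊓ centralizer {a}, ∀ x ∈ Q, ρ (s * x * s⁻¹) * proj ρ Z d =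
        ρ (d * s * d⁻¹ * x * (d * s * d⁻¹)⁻¹) * proj ρ Z d := by
      intro s hs x hx
      set c := d * s * d⁻¹ with hc
      have hcm : c ∈ T ⊓ centralizer {a} := hcj s hs
      rw [← rho_conj_mul_proj ρ S C hd hd1 (S.normQ.conj_mem x hx s),
        show d * (s * x * s⁻¹) * d⁻¹ = c * (d * x * d⁻¹) * c⁻¹ by rw [hc]; group]
      simp only [map_mul ρ (c * _), map_mul ρ c]
      rw [mul_assoc, (hcE _ (inv_mem hcm)).eq, ← mul_assoc, mul_assoc (ρ c),
        rho_conj_mul_proj ρ S C hd hd1 hx, ← mul_assoc, mul_assoc _ (proj ρ Z d),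
        ← (hcE _ (inv_mem hcm)).eq, ← mul_assoc]
    let F : (T ⊓ centralizer {a} : Subgroup H) → (T ⊓ centralizer {a} : Subgroup H) := fun u =>
      ⟨d * u * d⁻¹ * (u : H)⁻¹, mul_mem (hcj u u.2) (inv_mem u.2)⟩
    have hF : Function.Surjective F := Finite.surjective_of_injective fun u v e => by
      have h1 : d * (u : H) * d⁻¹ * (u : H)⁻¹ = d * v * d⁻¹ * (v : H)⁻¹ := congrArg Subtype.val e
      have h2 : d * ((v : H)⁻¹ * u) = (v : H)⁻¹ * u * d := by
        have h3 := congrArg (fun z => (v : H)⁻¹ * d⁻¹ * z * u * d) h1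
        try dsimp only at h3
        group at h3 ⊢
        have h4 := congrArg (fun z => d * z) h3
        try dsimp only at h4
        group at h4
        exact h4
      have hm := mul_mem (inv_mem v.2) u.2
      exact Subtype.ext (inv_mul_eq_one.1 (eq_one_of_commute S ha ha1 hd hda (Or.inr hm.1)
        (mem_centralizer_singleton_iff.1 hm.2).symm h2)).symm
    obtain ⟨⟨u, hu⟩, huF⟩ := hF ⟨t, ht, mem_centralizer_singleton_iff.2 hat.symm⟩
    have h1 : d * u * d⁻¹ * u⁻¹ = t := congrArg Subtype.val huF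
    have hm : u⁻¹ * y * u ∈ Q := by simpa using S.normQ.conj_mem y hy u⁻¹
    rw [← h1, show d * u * d⁻¹ * u⁻¹ * y * (d * u * d⁻¹ * u⁻¹)⁻¹ =
        d * u * d⁻¹ * (u⁻¹ * y * u) * (d * u * d⁻¹)⁻¹ by group, ← key u hu _ hm]
    congr 2
    group

theorem conj_eq_mul_avg {t y : H} (ht : t ∈ T) (hat : a * t = t * a) (hy : y ∈ Q) :
    ρ (t * y * t⁻¹) - ρ y = (ρ (t * y * t⁻¹) - ρ y) * avg ρ Z :=
  mul_proj_eq_zero ρ S C fun d hd hd1 => by
    rw [sub_mul, conj_mul_proj ρ S C ha ha1 hd hd1 ht hat hy, sub_self]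

end

theorem coe_natCast_corner {e : R} (he : IsIdempotentElem e) (n : ℕ) :
    ((n : he.Corner).1 : R) = (n : R) * e := by
  induction n with
  | zero => simp only [Nat.cast_zero, zero_mul]; rfl
  | succ n ih =>
    rw [Nat.cast_succ, Nat.cast_succ, add_mul, one_mul, ← ih]
    rfl

/-- Induction on the kernel. -/
theorem conj_eq_aux {p : ℕ} {A Q T : Subgroup H} (S : Setup p A Q T) :
    ∀ (n : ℕ) {R : Type*} [Ring R] (ρ : H →* R), Nat.card Q - Nat.card (Q ⊓ ρ.toHomUnits.ker :
      Subgroup H) ≤ n → IsUnit (Nat.card Q : R) → (∀ [Fintype A], (∑ x : A, ρ x) = 0) →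
      ∀ a ∈ A, a ≠ 1 → ∀ t ∈ T, a * t = t * a → ∀ y ∈ Q, ρ (t * y * t⁻¹) = ρ y := by
  intro n
  induction n using Nat.strong_induction_on with
  | _ n ih =>
    intro R _ ρ hn hu hsum a ha ha1 t ht hat y hy
    set U := ρ.toHomUnits
    set K : Subgroup H := Q ⊓ U.ker with hK
    have hker : ∀ x : H, x ∈ U.ker ↔ ρ x = 1 := fun x => by
      rw [MonoidHom.mem_ker, Units.ext_iff, MonoidHom.coe_toHomUnits, Units.val_one]
    by_cases hQK : Q ≤ U.ker
    · rw [(hker _).1 (hQK (S.normQ.conj_mem y hy t)), (hker _).1 (hQK hy)]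
    set Z : Subgroup H := Q ⊓ (centralizer (Q.map U : Set Rˣ)).comap U with hZ
    haveI := S.normQ
    have hZn : Z.Normal := ⟨fun z hz h => by
      refine ⟨S.normQ.conj_mem z hz.1 h, ?_⟩
      show U (h * z * h⁻¹) ∈ centralizer _
      refine mem_centralizer_iff.2 ?_
      rintro _ ⟨x, hx, rfl⟩
      have h1 := mem_centralizer_iff.1 (show U z ∈ centralizer _ from hz.2) (U (h⁻¹ * x * h))
        ⟨_, by simpa using S.normQ.conj_mem x hx h⁻¹, rfl⟩
      rw [← map_mul, ← map_mul] at h1 ⊢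
      have h2 := congrArg (fun r => U h * r * U h⁻¹) h1
      simp only [← map_mul] at h2
      convert h2 using 2 <;> group⟩
    have C : Central ρ A Q Z := ⟨inf_le_left, hZn, fun z hz x hx => by
      have h1 := mem_centralizer_iff.1 (show U z ∈ centralizer _ from hz.2) (U x) ⟨x, hx, rfl⟩
      exact (congrArg Units.val h1).symm, hu, hsum⟩
    have hKZ : K < Z := by
      refine lt_of_le_of_ne (fun x hx => ⟨hx.1, ?_⟩) fun e => ?_
      · show U x ∈ centralizer _
        rw [show U x = 1 from hx.2]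
        exact one_mem _
      · haveI : Group.IsNilpotent (Q.map U) :=
          haveI := S.nilQ
          Group.nilpotent_of_surjective (U.subgroupMap Q) (U.subgroupMap_surjective Q)
        haveI : Nontrivial (Q.map U) := (nontrivial_iff_ne_bot _).2 fun h =>
          hQK fun x hx => mem_bot.1 (h ▸ mem_map_of_mem U hx)
        apply Group.IsNilpotent.center_ne_bot (G := Q.map U)
        refine eq_bot_iff.2 fun c hc => ?_
        obtain ⟨x, hx, hxc⟩ := c.2
        have hxZ : x ∈ Z := ⟨hx, show U x ∈ centralizer _ from mem_centralizer_iff.2 fun r hr => by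
          rw [hxc]; exact congrArg Subtype.val (mem_center_iff.1 hc ⟨r, hr⟩)⟩
        rw [← e] at hxZ
        exact mem_bot.2 (Subtype.ext (hxc.symm.trans hxZ.2))
    have hU := isUnit_card hu C.le
    set ε := avg ρ Z with hε
    have he : IsIdempotentElem ε := avg_idem ρ hU
    have hεc : ∀ h : H, Commute (ρ h) ε := fun h => commute_avg_of_normalizer ρ hU
      (by rw [(normalizer_eq_top_iff (H := Z)).2 hZn]; exact mem_top h)
    let σ : H →* he.Corner :=
      { toFun := fun h => ⟨ρ h * ε, (Subsemigroup.mem_corner_iff he).2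
          ⟨by rw [← mul_assoc, ← (hεc h).eq, mul_assoc, he.eq], by rw [mul_assoc, he.eq]⟩⟩
        map_one' := Subtype.ext (by show ρ 1 * ε = ε; rw [map_one, one_mul])
        map_mul' := fun g h => Subtype.ext (by
          show ρ (g * h) * ε = ρ g * ε * (ρ h * ε)
          rw [map_mul, mul_assoc (ρ g) ε, ← mul_assoc ε, ← (hεc h).eq, mul_assoc (ρ h), he.eq,
            ← mul_assoc]) }
    have hσker : ∀ x : H, x ∈ Z → σ.toHomUnits x = 1 := fun x hx => by
      refine Units.ext (Subtype.ext ?_)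
      show ρ x * ε = ε
      exact rho_mul_avg ρ hU hx
    have hlt : Nat.card K < Nat.card (Q ⊓ σ.toHomUnits.ker : Subgroup H) := by
      have h1 : Nat.card K < Nat.card Z := by
        rcases (card_le_of_le hKZ.le).lt_or_eq with h | h
        · exact h
        · exact absurd (eq_of_le_of_card_ge hKZ.le h.ge) hKZ.ne
      exact h1.trans_le (card_le_of_le fun x hx => ⟨C.le hx, hσker x hx⟩)
    have hKQ : Nat.card K < Nat.card Q :=
      lt_of_lt_of_le hlt (card_le_of_le inf_le_left)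
    have hσu : IsUnit (Nat.card Q : he.Corner) := by
      have hcm : Commute ε (Ring.inverse (Nat.card Q : R)) := commute_inv_natCast ε hu
      let v : he.Corner := ⟨(Ring.inverse (Nat.card Q : R)) * ε, (Subsemigroup.mem_corner_iff he).2
        ⟨by rw [← mul_assoc, hcm.eq, mul_assoc, he.eq], by rw [mul_assoc, he.eq]⟩⟩
      refine ⟨⟨(Nat.card Q : he.Corner), v, Subtype.ext ?_, Subtype.ext ?_⟩, rfl⟩
      · show (Nat.card Q : he.Corner).1 * ((Ring.inverse (Nat.card Q : R)) * ε) = ε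
        rw [coe_natCast_corner, mul_assoc, ← mul_assoc ε, hcm.eq, mul_assoc _ ε ε, he.eq,
          Ring.mul_inverse_cancel_left _ _ hu]
      · show (Ring.inverse (Nat.card Q : R)) * ε * (Nat.card Q : he.Corner).1 = ε
        rw [coe_natCast_corner, mul_assoc, ← mul_assoc ε, ← (Nat.cast_commute _ ε).eq,
          mul_assoc _ ε ε, he.eq, Ring.inverse_mul_cancel_left _ _ hu]
    have hrec := ih (Nat.card Q - Nat.card (Q ⊓ σ.toHomUnits.ker : Subgroup H))
      (by omega) σ le_rfl hσu (by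
        intro _
        let π : he.Corner →+ R := { toFun := Subtype.val, map_zero' := rfl, map_add' := fun _ _ => rfl }
        refine Subtype.ext ?_
        show π (∑ x : A, σ x) = 0
        rw [map_sum]
        show ∑ x : A, ρ x * ε = 0
        rw [← sum_mul, hsum, zero_mul]) a ha ha1 t ht hat y hy
    have hrec' : ρ (t * y * t⁻¹) * ε = ρ y * ε := congrArg Subtype.val hrec
    rw [← sub_eq_zero, conj_eq_mul_avg ρ S C ha ha1 ht hat hy, sub_mul, hrec', sub_self]

/-- `T` centralises the image of `Q`. -/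
theorem conj_eq {p : ℕ} {A Q T : Subgroup H} (S : Setup p A Q T)
    (hu : IsUnit (Nat.card Q : R)) (hsum : ∀ [Fintype A], (∑ x : A, ρ x) = 0) :
    ∀ t ∈ T, ∀ y ∈ Q, ρ (t * y * t⁻¹) = ρ y := by
  let L : Subgroup H :=
    { carrier := {t | ∀ y ∈ Q, ρ (t * y * t⁻¹) = ρ y}
      one_mem' := fun y _ => by simp
      mul_mem' := fun {s t} hs ht y hy => by
        rw [show s * t * y * (s * t)⁻¹ = s * (t * y * t⁻¹) * s⁻¹ by group,
          hs _ (S.normQ.conj_mem y hy t), ht y hy]
      inv_mem' := fun {t} ht y hy => by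
        have h1 := ht (t⁻¹ * y * t) (by simpa using S.normQ.conj_mem y hy t⁻¹)
        rw [inv_inv, ← h1]
        congr 1
        group }
  intro t ht
  refine gen_le S (L := L) S.normT S.copT (fun a ha ha1 x hx hax => ?_) ht
  exact conj_eq_aux S _ ρ le_rfl hu hsum a ha ha1 x hx hax

end CfsgLib.Ward
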