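import Mathlib
import Cfsg.Agent.Lib.Structure.MinimalNormal
import Cfsg.Agent.Lib.Structure.IndexPowers
import Cfsg.Agent.Lib.Solvable.Fitting

/-!
Wielandt's subnormality criterion (zipper lemma), a member normalising the join of a family of
subnormal subgroups, Baer's criterion and Matsuyama's lemma.
-/

set_option autoImplicit false

namespace CfsgLib.Zipper

open Subgroup
open scoped Pointwise

universe u
variable {G : Type u} [Group G]

/-- `B` is a subgroup of `V` that is subnormal in `V`. -/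
def SubnIn (B V : Subgroup G) : Prop := B ≤ V ∧ (B.subgroupOf V).IsSubnormal

theorem SubnIn.mono {B V W : Subgroup G} (h : SubnIn B W) (hBV : B ≤ V) (hVW : V ≤ W) :
    SubnIn B V :=
  ⟨hBV, h.2.comap (Subgroup.inclusion hVW)⟩

theorem SubnIn.trans {B V W : Subgroup G} (h : SubnIn B V) (h' : SubnIn V W) : SubnIn B W := by
  refine ⟨h.1.trans h'.1, ?_⟩
  have hle : B.subgroupOf W ≤ V.subgroupOf W := comap_mono h.1
  refine IsSubnormal.trans hle ?_ h'.2
  exact h.2.comap ((W.subtype.comp (V.subgroupOf W).subtype).codRestrict V fun x => x.2)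

theorem SubnIn.isSubnormal {B : Subgroup G} (h : SubnIn B ⊤) : B.IsSubnormal :=
  IsSubnormal.trans le_top h.2 .top

theorem subnIn_top {B : Subgroup G} (h : B.IsSubnormal) : SubnIn B ⊤ :=
  ⟨le_top, h.subgroupOf⟩

theorem SubnIn.isSubnormal_trans {B V : Subgroup G} (h : SubnIn B V) (hV : V.IsSubnormal) :
    B.IsSubnormal :=
  IsSubnormal.trans h.1 h.2 hV

theorem SubnIn.smul {B V : Subgroup G} (h : SubnIn B V) (c : MulAut G) :
    SubnIn (c • B) (c • V) := by
  refine ⟨pointwise_smul_le_pointwise_smul_iff.2 h.1, ?_⟩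
  let f : (c • V : Subgroup G) →* V :=
    (c⁻¹.toMonoidHom.comp (c • V : Subgroup G).subtype).codRestrict V fun x =>
      (mem_pointwise_smul_iff_inv_smul_mem.1 x.2 :)
  have : (c • B).subgroupOf (c • V) = (B.subgroupOf V).comap f := by
    ext x
    simp only [mem_subgroupOf, mem_comap]
    exact mem_pointwise_smul_iff_inv_smul_mem
  rw [this]
  exact h.2.comap f

theorem mem_normalizer_of_smul_eq {J : Subgroup G} {v : G} (h : MulAut.conj v • J = J) :
    v ∈ normalizer (J : Set G) := by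
  rw [mem_normalizer_iff]
  intro x
  conv_rhs => rw [← h]
  exact (smul_mem_pointwise_smul_iff (a := MulAut.conj v) (S := J) (x := x)).symm

theorem smul_eq_of_mem_normalizer {J : Subgroup G} {v : G} (h : v ∈ normalizer (J : Set G)) :
    MulAut.conj v • J = J := by
  ext x
  rw [mem_pointwise_smul_iff_inv_smul_mem]
  have : (MulAut.conj v)⁻¹ • x = v⁻¹ * x * v := by simp [MulAut.smul_def]
  rw [this]
  exact ⟨fun hx => by
    have := (mem_normalizer_iff.1 h _).1 hx
    simpa [mul_assoc] using this, fun hx => by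
    rw [mem_normalizer_iff.1 h]
    simpa [mul_assoc] using hx⟩

/-- Subgroups permuted by conjugation with the elements of `V` have a join normalised by `V`. -/
theorem le_normalizer_sSup_of_smul {V : Subgroup G} {S : Set (Subgroup G)}
    (h : ∀ U ∈ S, ∀ v ∈ V, MulAut.conj v • U ∈ S) :
    V ≤ normalizer ((sSup S : Subgroup G) : Set G) :=
  CfsgLib.Structure.le_normalizer_sSup fun g hg H hH => by
    have := h H hH g hg
    rwa [pointwise_smul_def] at this

theorem subnIn_sSup [Finite G] {V : Subgroup G} {S : Set (Subgroup G)}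
    (h : ∀ U ∈ S, SubnIn U V) : SubnIn (sSup S) V := by
  induction S, S.toFinite using Set.Finite.induction_on with
  | empty => exact ⟨by simp, by simp⟩
  | @insert a s _ _ ih =>
    rw [sSup_insert]
    have h1 := h a (Set.mem_insert _ _)
    have h2 := ih fun U hU => h U (Set.mem_insert_of_mem _ hU)
    refine ⟨sup_le h1.1 h2.1, ?_⟩
    rw [subgroupOf_sup h1.1 h2.1]
    exact CfsgLib.Structure.isSubnormal_sup h1.2 h2.2

/-- In a conjugation closed family of subnormal subgroups, some member outside a given proper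
subfamily normalises the join of that subfamily. -/
theorem exists_normalizes_sSup [Finite G] (V : Subgroup G) (S S₀ : Set (Subgroup G))
    (hS : ∀ U ∈ S, SubnIn U V) (hconj : ∀ U ∈ S, ∀ v ∈ V, MulAut.conj v • U ∈ S) (h₀ : S₀ ⊂ S) :
    ∃ X ∈ S, X ∉ S₀ ∧ X ≤ normalizer ((sSup S₀ : Subgroup G) : Set G) := by
  induction V using WellFoundedLT.induction generalizing S with
  | ind V ih =>
    obtain ⟨X₁, hX₁, hX₁'⟩ := Set.exists_of_ssubset h₀
    by_cases hVN : V ≤ normalizer ((sSup S₀ : Subgroup G) : Set G)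
    · exact ⟨X₁, hX₁, hX₁', (hS _ hX₁).1.trans hVN⟩
    have hJ := subnIn_sSup fun U hU => hS U (h₀.1 hU)
    have hne : (sSup S₀).subgroupOf V ≠ ⊤ := fun e =>
      hVN ((subgroupOf_eq_top.1 e).trans le_normalizer)
    obtain ⟨K, hKn, hJK, hKlt⟩ := (hJ.2.lt_normal).resolve_left hne
    set M := K.map V.subtype with hM
    have hMV : M ≤ V := map_subtype_le K
    have hMlt : M < V := by
      refine lt_of_le_of_ne hMV fun e => hKlt.ne (eq_top_iff.2 fun x _ => ?_)
      have hx : (x : G) ∈ M := by rw [e]; exact x.2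
      obtain ⟨y, hy, hyx⟩ := hx
      rwa [← Subtype.ext hyx]
    have hMn : ∀ v ∈ V, MulAut.conj v • M = M := fun v hv => by
      apply smul_eq_of_mem_normalizer
      have h1 : (M.subgroupOf V).Normal := by
        rwa [hM, subgroupOf, comap_map_eq_self_of_injective V.subtype_injective]
      exact (normal_subgroupOf_iff_le_normalizer hMV).1 h1 hv
    let S' : Set (Subgroup G) := {U | U ∈ S ∧ U ≤ M}
    have hS₀' : S₀ ⊆ S' := fun U hU =>
      ⟨h₀.1 hU, (le_sSup hU).trans fun x hx => ⟨⟨x, hJ.1 hx⟩, hJK hx, rfl⟩⟩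
    have hcl : ∀ U ∈ S', ∀ v ∈ V, MulAut.conj v • U ∈ S' := fun U hU v hv =>
      ⟨hconj U hU.1 v hv, by rw [← hMn v hv]; exact pointwise_smul_le_pointwise_smul_iff.2 hU.2⟩
    have hssub : S₀ ⊂ S' := by
      refine lt_of_le_of_ne hS₀' fun e => hVN ?_
      rw [e]
      exact le_normalizer_sSup_of_smul hcl
    obtain ⟨X, hX, hX', hXn⟩ := ih M hMlt S' (fun U hU => (hS U hU.1).mono hU.2 hMV)
      (fun U hU v hv => hcl U hU v (hMV hv)) hssub
    exact ⟨X, hX.1, hX', hXn⟩

/-- The zipper lemma. -/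
theorem exists_unique_maximal [Finite G] (A : Subgroup G) (U : Set (Subgroup G)) (hU : U.Nonempty)
    (S : Subgroup G → Set (Subgroup G))
    (hS : ∀ V B : Subgroup G, B ∈ S V ↔ (∃ g : G, B = MulAut.conj g • A) ∧ SubnIn B V)
    (_h1 : ∀ V ∈ U, A ∈ S V) (h2 : ∀ V ∈ U, ∀ W ∈ U, ∀ B ∈ S W, B ≤ V → B ∈ S V)
    (h3 : ∀ V ∈ U, ∀ W ∈ U, ∃ X ∈ U,
      normalizer ((sSup (S V ∩ S W) : Subgroup G) : Set G) ≤ X) :
    ∃ M ∈ U, ∀ V ∈ U, V ≤ M := by
  have hclosed : ∀ V, ∀ B ∈ S V, ∀ v ∈ V, MulAut.conj v • B ∈ S V := by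
    intro V B hB v hv
    obtain ⟨⟨g, rfl⟩, hsub⟩ := (hS V B).1 hB
    refine (hS V _).2 ⟨⟨v * g, by rw [map_mul, mul_smul]⟩, ?_⟩
    have := hsub.smul (MulAut.conj v)
    rwa [smul_eq_of_mem_normalizer (le_normalizer hv)] at this
  have hex : ∀ V ∈ U, ∃ M, Maximal (fun X => X ∈ U) M ∧ V ≤ M := fun V hV => by
    obtain ⟨M, hVM, hM⟩ := U.toFinite.exists_le_maximal hV
    exact ⟨M, hM, hVM⟩
  obtain ⟨V₀, hV₀⟩ := hU
  obtain ⟨M₀, hM₀, -⟩ := hex V₀ hV₀
  refine ⟨M₀, hM₀.prop, fun V hV => ?_⟩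
  obtain ⟨M, hM, hVM⟩ := hex V hV
  refine hVM.trans (le_of_eq ?_)
  by_contra hne
  let P : Set (Subgroup G × Subgroup G) :=
    {q | Maximal (fun X => X ∈ U) q.1 ∧ Maximal (fun X => X ∈ U) q.2 ∧ q.1 ≠ q.2}
  obtain ⟨⟨V', W'⟩, hq⟩ := P.toFinite.exists_maximalFor (fun q => S q.1 ∩ S q.2) P
    ⟨(M, M₀), hM, hM₀, hne⟩
  obtain ⟨hV', hW', hne'⟩ := hq.prop
  obtain ⟨X₀, hX₀, hX₀le⟩ := h3 V' hV'.prop W' hW'.prop
  obtain ⟨X, hX, hXX⟩ := hex X₀ hX₀
  set D : Subgroup G := sSup (S V' ∩ S W') with hD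
  have hN : normalizer (D : Set G) ≤ X := hX₀le.trans hXX
  -- either `T` exhausts one side, or the member outside moves the pair up
  have side : ∀ Y : Subgroup G, Maximal (fun X => X ∈ U) Y → S V' ∩ S W' ⊆ S Y →
      (∀ B, B ∈ S Y ∩ S X → B ∉ S V' ∩ S W' → X = Y) → X = Y := by
    intro Y hY hsub hext
    by_cases heq : S V' ∩ S W' = S Y
    · have hYN : Y ≤ normalizer (D : Set G) := by
        rw [hD, heq]
        exact le_normalizer_sSup_of_smul (hclosed Y)
      exact (hY.eq_of_le hX.prop (hYN.trans hN)).symm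
    · obtain ⟨B, hB, hBn, hBN⟩ := exists_normalizes_sSup Y (S Y) (S V' ∩ S W')
        (fun B hB => ((hS Y B).1 hB).2) (hclosed Y) (lt_of_le_of_ne hsub heq)
      exact hext B ⟨hB, h2 X hX.prop Y hY.prop B hB (hBN.trans hN)⟩ hBn
  have hTX : S V' ∩ S W' ⊆ S X := fun C hC =>
    h2 X hX.prop V' hV'.prop C hC.1 ((le_sSup hC).trans (le_normalizer.trans hN))
  have hXV : X = V' := side V' hV' Set.inter_subset_left fun B hB hBn => by
    by_contra hne''
    have hle : S V' ∩ S W' ⊆ S V' ∩ S X := fun C hC => ⟨hC.1, hTX hC⟩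
    exact hBn (hq.2 (j := (V', X)) ⟨hV', hX, fun e => hne'' e.symm⟩ hle hB)
  have hXW : X = W' := side W' hW' Set.inter_subset_right fun B hB hBn => by
    by_contra hne''
    have hle : S V' ∩ S W' ⊆ S W' ∩ S X := fun C hC => ⟨hC.2, hTX hC⟩
    exact hBn (hq.2 (j := (W', X)) ⟨hW', hX, fun e => hne'' e.symm⟩ hle hB)
  exact hne' (hXV.symm.trans hXW)

/-- Wielandt's criterion. -/
theorem isSubnormal_of_forall_conj [Finite G] (A : Subgroup G)
    (h : ∀ g : G, (A.subgroupOf (A ⊔ MulAut.conj g • A)).IsSubnormal) : A.IsSubnormal := by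
  suffices ∀ H : Subgroup G, ∀ A : Subgroup G, A ≤ H →
      (∀ g ∈ H, SubnIn A (A ⊔ MulAut.conj g • A)) → SubnIn A H from
    (this ⊤ A le_top fun g _ => ⟨le_sup_left, h g⟩).isSubnormal
  intro H
  induction H using WellFoundedLT.induction with
  | ind H ih =>
    intro A hAH h
    by_cases hAe : A = H
    · exact ⟨hAH, by rw [hAe, subgroupOf_self]; exact .top⟩
    by_contra hcon
    let A' : Subgroup H := A.subgroupOf H
    have hmap : ∀ g : H, (MulAut.conj g • A').map H.subtype = MulAut.conj (g : G) • A := by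
      intro g
      ext x
      constructor
      · rintro ⟨y, ⟨z, hz, rfl⟩, rfl⟩
        exact ⟨z, hz, rfl⟩
      · rintro ⟨y, hy, rfl⟩
        exact ⟨MulAut.conj g ⟨y, hAH hy⟩, ⟨⟨y, hAH hy⟩, hy, rfl⟩, rfl⟩
    have toH : ∀ {B V : Subgroup H}, SubnIn B V ↔ SubnIn (B.map H.subtype) (V.map H.subtype) := by
      intro B V
      let e : V →* (V.map H.subtype : Subgroup G) := (equivMapOfInjective V _ H.subtype_injective).toMonoidHom
      have he : Function.Surjective e := (equivMapOfInjective V _ H.subtype_injective).surjective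
      have hcm : ((B.map H.subtype).subgroupOf (V.map H.subtype)).comap e = B.subgroupOf V := by
        ext x
        constructor
        · rintro ⟨y, hy, hyx⟩
          have : y = (x : H) := H.subtype_injective (by simpa [e] using hyx)
          rwa [this] at hy
        · intro hx
          exact ⟨x, hx, rfl⟩
      constructor
      · rintro ⟨h1, h2⟩
        refine ⟨map_mono h1, ?_⟩
        rw [← map_comap_eq_self_of_surjective he ((B.map H.subtype).subgroupOf (V.map H.subtype)),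
          hcm]
        exact h2.map he
      · rintro ⟨h1, h2⟩
        refine ⟨(map_le_map_iff_of_injective H.subtype_injective).1 h1, ?_⟩
        rw [← hcm]
        exact h2.comap e
    let U' : Set (Subgroup H) := {V | V ≠ ⊤ ∧ A' ≤ V}
    let S' : Subgroup H → Set (Subgroup H) := fun V =>
      {B | (∃ g : H, B = MulAut.conj g • A') ∧ SubnIn B V}
    have hA'map : A'.map H.subtype = A := map_subgroupOf_eq_of_le hAH
    have hlt : ∀ V : Subgroup H, V ≠ ⊤ → V.map H.subtype < H := fun V hV =>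
      lt_of_le_of_ne (map_subtype_le V) fun e => hV (eq_top_iff.2 fun x _ => by
        have hx : (x : G) ∈ V.map H.subtype := by rw [e]; exact x.2
        obtain ⟨y, hy, hyx⟩ := hx
        rwa [← Subtype.ext hyx])
    -- induction gives subnormality of conjugates of `A` in proper subgroups
    have hind : ∀ (V : Subgroup H) (g : H), V ≠ ⊤ → MulAut.conj g • A' ≤ V →
        SubnIn (MulAut.conj g • A') V := by
      intro V g hV hle
      rw [toH, hmap]
      refine ih _ (hlt V hV) _ ?_ fun k hk => ?_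
      · rw [← hmap]; exact map_mono hle
      · have hkH : k ∈ H := map_subtype_le V hk
        have h' := (h ((g : G)⁻¹ * k * g) (mul_mem (mul_mem (inv_mem g.2) hkH) g.2)).smul
          (MulAut.conj (g : G))
        rw [smul_sup, ← mul_smul, ← map_mul] at h'
        rw [show (g : G) * ((g : G)⁻¹ * k * g) = k * g by group] at h'
        rwa [map_mul, mul_smul] at h'
    by_cases hgen : ∃ g ∈ H, A ⊔ MulAut.conj g • A = H
    · obtain ⟨g, hg, hgH⟩ := hgen
      have := h g hg
      rw [hgH] at this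
      exact hcon this
    push Not at hgen
    have hA'top : A' ≠ ⊤ := fun e => hAe (le_antisymm hAH (subgroupOf_eq_top.1 e))
    have hone : MulAut.conj (1 : H) • A' = A' := by rw [map_one, one_smul]
    obtain ⟨M, hM, hMax⟩ := exists_unique_maximal A' U' ⟨A', hA'top, le_rfl⟩ S'
      (fun V B => Iff.rfl)
      (fun V hV => ⟨⟨1, hone.symm⟩, hone ▸ hind V 1 hV.1 (by rw [hone]; exact hV.2)⟩)
      (fun V hV W _ B hB hle => by
        obtain ⟨g, rfl⟩ := hB.1
        exact ⟨⟨g, rfl⟩, hind V g hV.1 hle⟩)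
      (fun V hV W hW => by
        have hAmem : A' ∈ S' V ∩ S' W :=
          ⟨⟨⟨1, hone.symm⟩, hone ▸ hind V 1 hV.1 (by rw [hone]; exact hV.2)⟩,
            ⟨⟨1, hone.symm⟩, hone ▸ hind W 1 hW.1 (by rw [hone]; exact hW.2)⟩⟩
        refine ⟨_, ⟨fun e => hcon ?_, (le_sSup hAmem).trans le_normalizer⟩, le_rfl⟩
        have hDn : (sSup (S' V ∩ S' W)).Normal := normalizer_eq_top_iff.1 e
        have hDV : sSup (S' V ∩ S' W) ≤ V := sSup_le fun B hB => hB.1.2.1
        have hsub := (hAmem.1.2.mono (le_sSup hAmem) hDV).isSubnormal_trans hDn.isSubnormal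
        have := toH.1 (subnIn_top hsub)
        rwa [hA'map, ← MonoidHom.range_eq_map, range_subtype] at this)
    -- all conjugates of `A` lie in `M`
    have hconjM : ∀ g : H, MulAut.conj g • A' ≤ M := by
      intro g
      refine le_sup_right.trans (hMax (A' ⊔ MulAut.conj g • A') ⟨fun e => ?_, le_sup_left⟩)
      apply hgen g g.2
      have := congrArg (Subgroup.map H.subtype) e
      rwa [Subgroup.map_sup, hA'map, hmap, ← MonoidHom.range_eq_map, range_subtype] at this
    apply hcon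
    have hN : (sSup (Set.range fun g : H => MulAut.conj g • A')).Normal := by
      refine normalizer_eq_top_iff.1 (top_le_iff.1 (le_normalizer_sSup_of_smul ?_))
      rintro B ⟨g, rfl⟩ v -
      exact ⟨v * g, by simp only [map_mul, mul_smul]⟩
    have hAN : A' ≤ sSup (Set.range fun g : H => MulAut.conj g • A') :=
      le_sSup ⟨1, hone⟩
    have hsub := ((hone ▸ hind M 1 hM.1 (by rw [hone]; exact hM.2)).mono hAN
      (sSup_le fun B ⟨g, hg⟩ => hg ▸ hconjM g)).isSubnormal_trans hN.isSubnormal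
    have := toH.1 (subnIn_top hsub)
    rwa [hA'map, ← MonoidHom.range_eq_map, range_subtype] at this

/-- Baer: nilpotent joins with all conjugates force subnormality and membership in `F(G)`. -/
theorem subnormal_le_fitting_of_join_nilpotent [Finite G] (A : Subgroup G)
    (h : ∀ g : G, Group.IsNilpotent (A ⊔ MulAut.conj g • A : Subgroup G)) :
    A.IsSubnormal ∧ A ≤ Cfsg.fittingSubgroup G := by
  have hsub : A.IsSubnormal := by
    refine isSubnormal_of_forall_conj A fun g => ?_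
    have := h g
    exact CfsgLib.IndexPowers.isSubnormal_of_normalizerCondition Group.normalizerCondition_of_isNilpotent _
  exact ⟨hsub, CfsgLib.Fitting.subnormal_nilpotent_le_fitting hsub
    (CfsgLib.Fitting.isNilpotent_of_le (h 1) le_sup_left)⟩

/-- Baer–Suzuki for a `p`-subgroup. -/
theorem le_pCore_of_join_pGroup [Finite G] {p : ℕ} [Fact p.Prime] (A : Subgroup G)
    (h : ∀ g : G, IsPGroup p (A ⊔ MulAut.conj g • A : Subgroup G)) : A ≤ Cfsg.pCore p G :=
  CfsgLib.Fitting.subnormal_pGroup_le_pCore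
    (subnormal_le_fitting_of_join_nilpotent A fun g => (h g).isNilpotent).1
    ((h 1).to_le le_sup_left)

/-- Matsuyama's lemma. -/
theorem matsuyama [Finite G] (p : ℕ) [Fact p.Prime] (Z Y : Subgroup G)
    (h : ∀ g : G, IsPGroup p ↥(⨆ y ∈ Y, MulAut.conj (y * g) • Z)) :
    ∃ P : Sylow p G, Y ≤ normalizer
      ((⨆ g ∈ {g : G | MulAut.conj g • Z ≤ (P : Subgroup G)}, MulAut.conj g • Z : Subgroup G) :
        Set G) := by
  let C : Set (Subgroup G) := Set.range fun g : G => MulAut.conj g • Z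
  let T₀ : Set (Set (Subgroup G)) :=
    {T | T ⊆ C ∧ (∀ B ∈ T, ∀ y ∈ Y, MulAut.conj y • B ∈ T) ∧ IsPGroup p (sSup T : Subgroup G)}
  obtain ⟨T, hT⟩ := T₀.toFinite.exists_maximal ⟨∅, Set.empty_subset _, by simp, by
    rw [sSup_empty]; exact IsPGroup.of_bot⟩
  obtain ⟨hTC, hTY, hTp⟩ := hT.prop
  obtain ⟨P, hP⟩ := hTp.exists_le_sylow
  refine ⟨P, ?_⟩
  let S : Set (Subgroup G) := {B | B ∈ C ∧ B ≤ (P : Subgroup G)}
  have hsup : (⨆ g ∈ {g : G | MulAut.conj g • Z ≤ (P : Subgroup G)}, MulAut.conj g • Z) = sSup S := by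
    refine le_antisymm (iSup₂_le fun g hg => le_sSup ⟨⟨g, rfl⟩, hg⟩) (sSup_le ?_)
    rintro B ⟨⟨g, rfl⟩, hB⟩
    exact le_iSup₂ (f := fun g (_ : g ∈ {g : G | MulAut.conj g • Z ≤ (P : Subgroup G)}) =>
      MulAut.conj g • Z) g hB
  rw [hsup]
  by_cases hTS : T = S
  · rw [← hTS]
    exact le_normalizer_sSup_of_smul hTY
  exfalso
  have hss : T ⊂ S := lt_of_le_of_ne (fun B hB => ⟨hTC hB, (le_sSup hB).trans hP⟩) hTS
  have := P.isPGroup'.isNilpotent
  obtain ⟨X, ⟨⟨g, rfl⟩, -⟩, hXn, hXN⟩ := exists_normalizes_sSup (P : Subgroup G) S T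
    (fun B hB => ⟨hB.2,
      CfsgLib.IndexPowers.isSubnormal_of_normalizerCondition Group.normalizerCondition_of_isNilpotent _⟩)
    (fun B hB v hv => by
      obtain ⟨⟨k, rfl⟩, hBP⟩ := hB
      refine ⟨⟨v * k, by simp only [map_mul, mul_smul]⟩, ?_⟩
      rw [← smul_eq_of_mem_normalizer (le_normalizer hv)]
      exact pointwise_smul_le_pointwise_smul_iff.2 hBP) hss
  have hYT : Y ≤ normalizer ((sSup T : Subgroup G) : Set G) := le_normalizer_sSup_of_smul hTY
  let T' : Set (Subgroup G) := {B | ∃ y ∈ Y, B = MulAut.conj (y * g) • Z}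
  have hT'sup : sSup T' = ⨆ y ∈ Y, MulAut.conj (y * g) • Z := by
    refine le_antisymm (sSup_le ?_) (iSup₂_le fun y hy => le_sSup ⟨y, hy, rfl⟩)
    rintro B ⟨y, hy, rfl⟩
    exact le_iSup₂ (f := fun y (_ : y ∈ Y) => MulAut.conj (y * g) • Z) y hy
  have hT'N : sSup T' ≤ normalizer ((sSup T : Subgroup G) : Set G) := by
    refine sSup_le ?_
    rintro B ⟨y, hy, rfl⟩
    rw [map_mul, mul_smul, ← smul_eq_of_mem_normalizer (le_normalizer (hYT hy))]
    exact pointwise_smul_le_pointwise_smul_iff.2 hXN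
  have hnew : T ∪ T' ∈ T₀ := by
    refine ⟨Set.union_subset hTC ?_, ?_, ?_⟩
    · rintro B ⟨y, -, rfl⟩; exact ⟨y * g, rfl⟩
    · rintro B (hB | ⟨z, hz, rfl⟩) y hy
      · exact Or.inl (hTY B hB y hy)
      · exact Or.inr ⟨y * z, mul_mem hy hz, by rw [mul_assoc, map_mul (f := MulAut.conj) y, mul_smul]⟩
    · rw [sSup_union]
      exact hTp.to_sup_of_normal_left' (hT'sup ▸ h g) hT'N
  exact hXn (hT.2 hnew Set.subset_union_left (Or.inr ⟨1, one_mem Y, by simp⟩))

end CfsgLib.Zipper
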